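import Cfsg.Agent.Phan.Step

/-!
A chain of unitary groups in three variables glues to a unitary group.
-/

set_option autoImplicit false
set_option linter.unusedSectionVars false
set_option linter.style.haveILetI false

namespace CfsgLib.Phan

open Matrix CfsgLib.Forms CfsgLib.Unitary

variable {F : Type*} [Field F] [Finite F] {q : ℕ}

theorem emb_win_self {k : ℕ} (X : Cfsg.SU k F q) : emb (win 0 k k (by omega)) X = X := by
  refine act_eq_of_basis fun j => ?_
  have e : win 0 k k (by omega) j = j := Fin.ext (by simp)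
  conv_lhs => rw [← e, act_emb_ev]
  funext a
  have e' : win 0 k k (by omega) a = a := Fin.ext (by simp)
  conv_lhs => rw [← e']
  exact (win 0 k k (by omega)).injective.extend_apply _ _ _

/-- The data of a chain. -/
structure Chain (F : Type*) [Field F] [Finite F] (q N : ℕ) (G : Type*) [Group G] where
  /-- the groups in two variables -/
  u : ℕ → Cfsg.SU 2 F q →* G
  /-- the groups in three variables -/
  ψ : ℕ → Cfsg.SU 3 F q →* G
  h01 : ∀ i, i + 1 < N → ∀ X, ψ i (emb (win 0 2 3 (by omega)) X) = u i X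
  h12 : ∀ i, i + 1 < N → ∀ X, ψ i (emb (win 1 2 3 (by omega)) X) = u (i + 1) X
  uu : ∀ i j, i + 2 ≤ j → j < N → ∀ X Y, Commute (u i X) (u j Y)
  uv : ∀ i j, i + 2 ≤ j → j + 1 < N → ∀ X Y, Commute (u i X) (ψ j Y)
  vu : ∀ i j, i + 3 ≤ j → j < N → ∀ X Y, Commute (ψ i X) (u j Y)
  vv : ∀ i j, i + 3 ≤ j → j + 1 < N → ∀ X Y, Commute (ψ i X) (ψ j Y)

namespace Chain

variable {N : ℕ} {G : Type*} [Group G] (D : Chain F q N G)

/-- A map extending the windows of the chain. -/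
def Fit (a k : ℕ) (Φ : Cfsg.SU k F q →* G) : Prop :=
  ∀ i (h : i + 3 ≤ k), ∀ X, Φ (emb (win i 3 k h) X) = D.ψ (a + i) X

theorem fit_u {a k : ℕ} (hk : 3 ≤ k) (ha : a + k ≤ N + 1) {Φ : Cfsg.SU k F q →* G} (hΦ : D.Fit a k Φ)
    {i : ℕ} (h : i + 2 ≤ k) (X : Cfsg.SU 2 F q) : Φ (emb (win i 2 k h) X) = D.u (a + i) X := by
  by_cases h3 : i + 3 ≤ k
  · rw [← D.h01 (a + i) (by omega) X, ← hΦ i h3, emb_win' (l := i) _ _ (by omega)]
  · obtain ⟨j, rfl⟩ : ∃ j, i = j + 1 := ⟨i - 1, by omega⟩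
    rw [show a + (j + 1) = a + j + 1 by omega, ← D.h12 (a + j) (by omega) X, ← hΦ j (by omega),
      emb_win' (l := j + 1) _ _ rfl]

theorem fit_sub {a k : ℕ} {Φ : Cfsg.SU k F q →* G} (hΦ : D.Fit a k Φ) {i r : ℕ} (h : i + r ≤ k) :
    D.Fit (a + i) r (Φ.comp (emb (win i r k h))) := fun j hj X => by
  rw [MonoidHom.comp_apply, emb_win, hΦ (i + j) (by omega), add_assoc]

variable (hF : Nat.card F = q ^ 2)

include hF in
theorem fit_unique {k : ℕ} (hk : 3 ≤ k) : ∀ {a : ℕ} {Φ Φ' : Cfsg.SU k F q →* G},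
    D.Fit a k Φ → D.Fit a k Φ' → Φ = Φ' := by
  induction k, hk using Nat.le_induction with
  | base =>
    intro a Φ Φ' h h'
    ext X
    rw [← emb_win_self X, h 0 le_rfl, h' 0 le_rfl]
  | succ n hn ih =>
    intro a Φ Φ' h h'
    refine hom_ext_blocks hF (by omega) (fun e => absurd e (by omega)) ?_ ?_
    · exact DFunLike.congr_fun (ih (D.fit_sub h (i := 0) (r := n) (by omega)) (D.fit_sub h' (by omega)))
    · exact DFunLike.congr_fun (ih (D.fit_sub h (i := 1) (r := n) (by omega)) (D.fit_sub h' (by omega)))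

include hF in
theorem fit_commute {a k : ℕ} (hk : 3 ≤ k) {Φ : Cfsg.SU k F q →* G} (hΦ : D.Fit a k Φ) {z : G}
    (hz : ∀ i, i + 3 ≤ k → ∀ X, Commute z (D.ψ (a + i) X)) (Y : Cfsg.SU k F q) : Commute z (Φ Y) := by
  have h : D.Fit a k ((MulAut.conj z).toMonoidHom.comp Φ) := fun i hi X => by
    show z * Φ (emb (win i 3 k hi) X) * z⁻¹ = _
    rw [hΦ i hi, (hz i hi X).eq, mul_inv_cancel_right]
  have e := DFunLike.congr_fun (D.fit_unique hF hk h hΦ) Y
  exact mul_inv_eq_iff_eq_mul.1 e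

include hF in
theorem exists_fit_succ {m : ℕ} (hm : 2 ≤ m) (hq : m = 2 → 4 ≤ q) {a : ℕ} (ha : a + (m + 2) ≤ N + 1)
    {A B : Cfsg.SU (m + 1) F q →* G} (hA : D.Fit (a + 1) (m + 1) A) (hB : D.Fit a (m + 1) B) :
    ∃ Φ, D.Fit a (m + 2) Φ := by
  have hagree : ∀ X : Cfsg.SU m F q,
      B (emb (win 1 m (m + 1) (by omega)) X) = A (emb (win 0 m (m + 1) (by omega)) X) := fun X => by
    rcases Nat.lt_or_ge m 3 with h | h
    · obtain rfl : m = 2 := by omega
      rw [D.fit_u le_rfl (by omega) hB, D.fit_u le_rfl (by omega) hA]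
    · exact DFunLike.congr_fun (D.fit_unique hF h (D.fit_sub hB (i := 1) (r := m) (by omega))
        (by simpa using D.fit_sub hA (i := 0) (r := m) (by omega))) X
  suffices hs : (∀ (X : Cfsg.SU 2 F q) (Y : Cfsg.SU m F q),
      Commute (B (emb (win 0 2 (m + 1) (by omega)) X)) (A (emb (win 1 m (m + 1) (by omega)) Y))) ∧
    (∀ (_ : 3 ≤ m) (X : Cfsg.SU 3 F q) (Y : Cfsg.SU (m - 1) F q),
      Commute (B (emb (win 0 3 (m + 1) (by omega)) X)) (A (emb (win 2 (m - 1) (m + 1) (by omega)) Y))) by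
    have hex := exists_hom_step hF hm hq A B hagree hs.1 hs.2
    · obtain ⟨Φ, hΦA, hΦB⟩ := hex
      refine ⟨Φ, fun i hi X => ?_⟩
      rcases Nat.eq_zero_or_pos i with rfl | hi0
      · rw [← hB 0 (by omega), ← hΦB, emb_win' (l := 0) _ _ rfl]
      · rw [show a + i = a + 1 + (i - 1) by omega, ← hA (i - 1) (by omega), ← hΦA,
          emb_win' (l := i) _ _ (by omega)]
  refine ⟨?_, ?_⟩
  · intro X Y
    rw [D.fit_u (by omega) (by omega) hB, add_zero]
    rcases Nat.lt_or_ge m 3 with h | h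
    · obtain rfl : m = 2 := by omega
      rw [D.fit_u le_rfl (by omega) hA]
      exact D.uu _ _ (by omega) (by omega) _ _
    · exact D.fit_commute hF h (D.fit_sub hA (i := 1) (r := m) (by omega))
        (fun i hi Z => D.uv _ _ (by omega) (by omega) _ _) Y
  · intro h3 X Y
    rw [hB 0 (by omega)]
    rcases Nat.lt_or_ge (m - 1) 3 with h | h
    · obtain rfl : m = 3 := by omega
      rw [D.fit_u (by omega) (by omega) hA]
      exact D.vu _ _ (by omega) (by omega) _ _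
    · exact D.fit_commute hF h (D.fit_sub hA (i := 2) (r := m - 1) (by omega))
        (fun i hi Z => D.vv _ _ (by omega) (by omega) _ _) Y

include hF in
/-- **The chain glues.** -/
theorem exists_fit (hbase : 4 ≤ q ∨ ∀ a, a + 4 ≤ N + 1 → ∃ Φ, D.Fit a 4 Φ) {k : ℕ} (hk : 3 ≤ k) :
    ∀ a, a + k ≤ N + 1 → ∃ Φ, D.Fit a k Φ := by
  induction k, hk using Nat.le_induction with
  | base =>
    refine fun a _ => ⟨D.ψ a, fun i hi X => ?_⟩
    obtain rfl : i = 0 := by omega
    rw [add_zero, emb_win_self]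
  | succ n hn ih =>
    intro a ha
    obtain ⟨m, rfl⟩ : ∃ m, n = m + 1 := ⟨n - 1, by omega⟩
    by_cases h : m = 2 → 4 ≤ q
    · obtain ⟨A, hA⟩ := ih (a + 1) (by omega)
      obtain ⟨B, hB⟩ := ih a (by omega)
      exact D.exists_fit_succ hF (by omega) h ha hA hB
    · push Not at h
      obtain ⟨rfl, h4⟩ := h
      exact (hbase.resolve_left (by omega)) a ha

include hF in
/-- The whole chain. -/
theorem exists_hom (hN : 2 ≤ N) (hbase : 4 ≤ q ∨ ∀ a, a + 4 ≤ N + 1 → ∃ Φ, D.Fit a 4 Φ) :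
    ∃ Φ : Cfsg.SU (N + 1) F q →* G, ∀ i (h : i + 3 ≤ N + 1), ∀ X,
      Φ (emb (win i 3 (N + 1) h) X) = D.ψ i X := by
  obtain ⟨Φ, hΦ⟩ := D.exists_fit hF hbase (k := N + 1) (by omega) 0 (by omega)
  exact ⟨Φ, fun i h X => by rw [hΦ i h, zero_add]⟩

end Chain

variable (hF : Nat.card F = q ^ 2)

include hF in
/-- Two blocks in three variables commute with what both halves commute with. -/
theorem commute_of_blocks (hq : 3 ≤ q) {G : Type*} [Group G] {ψ : Cfsg.SU 3 F q →* G} {z : G}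
    (h0 : ∀ X, Commute z (ψ (emb (win 0 2 3 (by omega)) X)))
    (h1 : ∀ X, Commute z (ψ (emb (win 1 2 3 (by omega)) X))) (Y : Cfsg.SU 3 F q) : Commute z (ψ Y) := by
  have e := DFunLike.congr_fun (hom_ext_blocks hF (n := 2) le_rfl (fun _ => hq)
    (f := (MulAut.conj z).toMonoidHom.comp ψ) (g := ψ)
    (fun X => by show z * ψ _ * z⁻¹ = _; rw [(h0 X).eq, mul_inv_cancel_right])
    (fun X => by show z * ψ _ * z⁻¹ = _; rw [(h1 X).eq, mul_inv_cancel_right])) Y
  exact mul_inv_eq_iff_eq_mul.1 e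

include hF in
/-- For `q ≥ 3` it suffices that the distant groups in two variables commute. -/
theorem exists_chain (hq : 3 ≤ q) {N : ℕ} {G : Type*} [Group G] (u : ℕ → Cfsg.SU 2 F q →* G)
    (ψ : ℕ → Cfsg.SU 3 F q →* G)
    (h01 : ∀ i, i + 1 < N → ∀ X, ψ i (emb (win 0 2 3 (by omega)) X) = u i X)
    (h12 : ∀ i, i + 1 < N → ∀ X, ψ i (emb (win 1 2 3 (by omega)) X) = u (i + 1) X)
    (uu : ∀ i j, i + 2 ≤ j → j < N → ∀ X Y, Commute (u i X) (u j Y)) :
    ∃ D : Chain F q N G, D.u = u ∧ D.ψ = ψ := by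
  have vu : ∀ i j, i + 3 ≤ j → j < N → ∀ X Y, Commute (ψ i X) (u j Y) := fun i j hij hj X Y =>
    (commute_of_blocks hF hq (fun Z => by rw [h01 i (by omega)]; exact (uu i j (by omega) hj Z Y).symm)
      (fun Z => by rw [h12 i (by omega)]; exact (uu (i + 1) j (by omega) hj Z Y).symm) X).symm
  have uv : ∀ i j, i + 2 ≤ j → j + 1 < N → ∀ X Y, Commute (u i X) (ψ j Y) := fun i j hij hj X Y =>
    commute_of_blocks hF hq (fun Z => by rw [h01 j (by omega)]; exact uu i j hij (by omega) X Z)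
      (fun Z => by rw [h12 j (by omega)]; exact uu i (j + 1) (by omega) hj X Z) Y
  refine ⟨⟨u, ψ, h01, h12, uu, uv, vu, fun i j hij hj X Y => ?_⟩, rfl, rfl⟩
  exact commute_of_blocks hF hq (fun Z => by rw [h01 j (by omega)]; exact vu i j hij (by omega) X Z)
    (fun Z => by rw [h12 j (by omega)]; exact vu i (j + 1) (by omega) hj X Z) Y

end CfsgLib.Phan
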