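import Cfsg.Agent.Phan.TwoAut
import Cfsg.Agent.Phan.Chain
import Cfsg.Agent.Unitary.Special

/-!
Aligning the standard pairs of a weak Phan system.
-/

set_option autoImplicit false
set_option linter.unusedSectionVars false
set_option linter.style.haveILetI false

namespace CfsgLib.Phan

open Matrix CfsgLib.Forms CfsgLib.Unitary

variable {F : Type*} [Field F] [Finite F] {q : ℕ}

/-- A map of `SU` in three variables presenting a standard pair. -/
structure Pres (F : Type*) [Field F] [Finite F] (q : ℕ) {G : Type*} [Group G] (V A B : Subgroup G) where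
  /-- the map -/
  θ : Cfsg.SU 3 F q →* G
  ker_scalar : ∀ k, θ k = 1 → ∃ c : F, ∀ i, act k (ev i) = c • ev i
  range_eq : θ.range = V
  left_eq : (emb (F := F) (q := q) (win 0 2 3 (Nat.le.step (Nat.le.refl)))).range.map θ = A
  right_eq : (emb (F := F) (q := q) (win 1 2 3 (Nat.le.refl))).range.map θ = B

variable (hF : Nat.card F = q ^ 2)

include hF in
theorem exists_pres {G : Type*} [Group G] {V A B : Subgroup G}
    (h : Cfsg.IsStandardUnitaryPair V A B F q) : Nonempty (Pres F q V A B) := by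
  have e0 : (emb (F := F) (q := q) (win 0 2 3 (by omega))).range = Cfsg.suBlock 3 F q {0, 1} := by
    rw [range_emb_eq_suBlock hF]
    congr 1; ext j; rw [mem_range_win]; fin_cases j <;> simp
  have e1 : (emb (F := F) (q := q) (win 1 2 3 (by omega))).range = Cfsg.suBlock 3 F q {1, 2} := by
    rw [range_emb_eq_suBlock hF]
    congr 1; ext j; rw [mem_range_win]; fin_cases j <;> simp
  rcases h with ⟨ψ, hA, hB⟩ | ⟨ψ, hA, hB⟩
  · refine ⟨⟨V.subtype.comp ψ.toMonoidHom, fun k hk => ⟨1, fun i => ?_⟩, ?_, ?_, ?_⟩⟩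
    · obtain rfl : k = 1 := ψ.injective (Subtype.ext (by simpa using hk))
      rw [act_one, one_smul]
    · rw [MonoidHom.range_comp, MonoidHom.range_eq_top.2 ψ.surjective, ← MonoidHom.range_eq_map,
        Subgroup.range_subtype]
    · rw [e0]; exact hA
    · rw [e1]; exact hB
  · refine ⟨⟨V.subtype.comp (ψ.toMonoidHom.comp
      (QuotientGroup.mk' (Subgroup.center (Cfsg.SU 3 F q)))), fun k hk => ?_, ?_, ?_, ?_⟩⟩
    · have hk' : (QuotientGroup.mk' (Subgroup.center (Cfsg.SU 3 F q))) k = 1 :=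
        ψ.injective (Subtype.ext (by simpa using hk))
      obtain ⟨a, ha⟩ := (mem_center_SU_iff hF (by omega)).1 ((QuotientGroup.eq_one_iff k).1 hk')
      refine ⟨a, fun i => ?_⟩
      show suMat k *ᵥ ev i = _
      rw [show suMat k = a • (1 : Matrix (Fin 3) (Fin 3) F) from ha, Matrix.smul_mulVec, Matrix.one_mulVec]
    · rw [MonoidHom.range_comp, MonoidHom.range_eq_top.2 (ψ.surjective.comp (QuotientGroup.mk'_surjective _)),
        ← MonoidHom.range_eq_map, Subgroup.range_subtype]
    · rw [e0]; exact hA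
    · rw [e1]; exact hB

variable {G : Type*} [Group G] {V A B : Subgroup G}

theorem Pres.left_mem (P : Pres F q V A B) (X : Cfsg.SU 2 F q) :
    P.θ (emb (win 0 2 3 (by omega)) X) ∈ A := P.left_eq.le ⟨_, ⟨X, rfl⟩, rfl⟩

theorem Pres.right_mem (P : Pres F q V A B) (X : Cfsg.SU 2 F q) :
    P.θ (emb (win 1 2 3 (by omega)) X) ∈ B := P.right_eq.le ⟨_, ⟨X, rfl⟩, rfl⟩

theorem Pres.exists_left (P : Pres F q V A B) {x : G} (hx : x ∈ A) :
    ∃ X, P.θ (emb (win 0 2 3 (by omega)) X) = x := by
  obtain ⟨_, ⟨X, rfl⟩, h⟩ := P.left_eq.ge hx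
  exact ⟨X, h⟩

theorem Pres.exists_right (P : Pres F q V A B) {x : G} (hx : x ∈ B) :
    ∃ X, P.θ (emb (win 1 2 3 (by omega)) X) = x := by
  obtain ⟨_, ⟨X, rfl⟩, h⟩ := P.right_eq.ge hx
  exact ⟨X, h⟩

include hF in
theorem Pres.inj_block (P : Pres F q V A B) {i : ℕ} (hi : i + 2 ≤ 3) :
    Function.Injective fun X : Cfsg.SU 2 F q => P.θ (emb (win i 2 3 hi) X) := by
  intro X Y e
  have h1 : P.θ (emb (win i 2 3 hi) (X⁻¹ * Y)) = 1 := by
    rw [map_mul, map_mul, map_inv, map_inv]
    exact (congrArg (fun w => (P.θ (emb (win i 2 3 hi) X))⁻¹ * w) e.symm).trans (inv_mul_cancel _)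
  obtain ⟨c, hc⟩ := P.ker_scalar _ h1
  obtain ⟨j, hj⟩ : ∃ j : Fin 3, j.1 < i ∨ i + 2 ≤ j.1 := by
    rcases (show i = 0 ∨ i = 1 by omega) with rfl | rfl
    · exact ⟨2, by simp⟩
    · exact ⟨0, by simp⟩
  have hc1 : c = 1 := by
    have := congrFun ((hc j).symm.trans (act_emb_win_outside hi _ hj)) j
    simpa [ev] using this
  have : emb (win i 2 3 hi) (X⁻¹ * Y) = 1 := act_eq_of_basis fun k => by
    rw [hc k, hc1, one_smul, act_one]
  exact inv_mul_eq_one.1 (emb_injective _ (this.trans (map_one _).symm))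

include hF in
theorem Pres.diag_of_normal (P : Pres F q V A B) {X : Cfsg.SU 2 F q}
    (h : ∀ Y, ∃ Y', P.θ (emb (win 0 2 3 (by omega)) X) * P.θ (emb (win 1 2 3 (by omega)) Y) *
      (P.θ (emb (win 0 2 3 (by omega)) X))⁻¹ = P.θ (emb (win 1 2 3 (by omega)) Y')) :
    suMat X 0 1 = 0 := by
  obtain ⟨Y, hY⟩ := exists_swap hF (show (0 : Fin 2) ≠ 1 by decide) 1
  obtain ⟨Y', h⟩ := h Y
  set g := emb (win 0 2 3 (by omega)) X with hg
  set y := emb (win 1 2 3 (by omega)) Y with hy
  set y' := emb (win 1 2 3 (by omega)) Y' with hy'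
  obtain ⟨c, hc⟩ := P.ker_scalar (y'⁻¹ * (g * y * g⁻¹)) (by
    rw [map_mul, map_inv, map_mul, map_mul, map_inv, h, inv_mul_cancel])
  have e2 : act (g * y * g⁻¹) (ev (2 : Fin 3)) = c • act y' (ev (2 : Fin 3)) := by
    rw [show g * y * g⁻¹ = y' * (y'⁻¹ * (g * y * g⁻¹)) by group, act_mul, hc, act_smul]
  have w1 : win 1 2 3 (by omega) 1 = (2 : Fin 3) := rfl
  have w0 : win 1 2 3 (by omega) 0 = win 0 2 3 (by omega) 1 := rfl
  have n2 : (2 : Fin 3) ∉ Set.range (win 0 2 3 (by omega)) := by rw [mem_range_win]; simp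
  have n0 : (0 : Fin 3) ∉ Set.range (win 1 2 3 (by omega)) := by rw [mem_range_win]; simp
  have hy2 : act y (ev (2 : Fin 3)) = ev (win 0 2 3 (by omega) 1) * -1 := by
    rw [hy, ← w1, act_emb_ev, hY, if_pos rfl, Equiv.swap_apply_right, neg_one_smul, extend_neg,
      extend_ev, w0]
    simp
  have hgi : act g⁻¹ (ev (2 : Fin 3)) = ev (2 : Fin 3) := act_inv_eq (act_emb_outside _ X n2)
  rw [act_mul, act_mul, hgi, hy2, mul_neg_one, ← neg_one_smul F, act_smul, hg, act_emb_ev] at e2
  have e := congrFun e2 (win 0 2 3 (by omega) 0)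
  rw [Pi.smul_apply, Pi.smul_apply, (win 0 2 3 (by omega)).injective.extend_apply, suMat_apply] at e
  rw [hy', ← w1, act_emb_ev, Function.extend_apply' _ _ _
    (show ¬∃ a, win 1 2 3 (by omega) a = win 0 2 3 (by omega) 0 from fun ⟨a, ha⟩ => n0 ⟨a, ha⟩)] at e
  simpa using e

include hF in
theorem Pres.normal_of_diag (P : Pres F q V A B) {X : Cfsg.SU 2 F q} (h : suMat X 0 1 = 0)
    (Y : Cfsg.SU 2 F q) : ∃ Y', P.θ (emb (win 0 2 3 (by omega)) X) * P.θ (emb (win 1 2 3 (by omega)) Y) *
      (P.θ (emb (win 0 2 3 (by omega)) X))⁻¹ = P.θ (emb (win 1 2 3 (by omega)) Y') := by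
  set g := emb (win 0 2 3 (by omega)) X with hg
  set y := emb (win 1 2 3 (by omega)) Y with hy
  set w := win 0 2 3 (by omega) 0 with hw
  have hX : act X (ev 0) = suMat X 0 0 • ev 0 := by
    funext i; rw [suMat_apply]
    fin_cases i
    · simp [ev]
    · show suMat X 1 0 = _
      rw [(su2_shape hF X).1, h, zero_pow (q_ne_zero hF)]; simp [ev]
  have hg0 : act g (ev w) = suMat X 0 0 • ev w := by
    rw [hg, hw, act_emb_ev, hX]
    funext i
    by_cases hi : i ∈ Set.range (win 0 2 3 (by omega))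
    · obtain ⟨a, rfl⟩ := hi
      simp [(win 0 2 3 (by omega)).injective.extend_apply, ev, Pi.single_apply]
    · rw [Function.extend_apply' _ _ _ (by rintro ⟨a, ha⟩; exact hi ⟨a, ha⟩)]
      simp [ev, show i ≠ win 0 2 3 (by omega) 0 from fun e => hi ⟨0, e.symm⟩]
  have hy0 : act y (ev w) = ev w := act_emb_win_outside _ Y (Or.inl (by simp [hw]))
  have hfix : act (g * y * g⁻¹) (ev w) = ev w := by
    have hX0 : suMat X 0 0 ≠ 0 := fun e => by
      have := su2_norm hF X; rw [e, h] at this; simp at this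
    have e : act g⁻¹ (ev w) = (suMat X 0 0)⁻¹ • ev w := act_inv_eq (by
      rw [act_smul, hg0, smul_smul, inv_mul_cancel₀ hX0, one_smul])
    rw [act_mul, act_mul, e, act_smul, act_smul, hy0, hg0, smul_smul, inv_mul_cancel₀ hX0, one_smul]
  obtain ⟨Y', hY'⟩ := exists_emb_win hF (i := 1) (r := 2) (k := 3) (by omega) (g := g * y * g⁻¹)
    fun j hj => by
      obtain rfl : j = w := Fin.ext (by simp [hw]; omega)
      exact hfix
  exact ⟨Y', by rw [hY', map_mul, map_mul, map_inv]⟩

include hF in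
/-- Two standard pairs sharing their middle can be aligned. -/
theorem Pres.align {V₁ A₁ B₁ V₂ B₂ : Subgroup G} (P : Pres F q V₁ A₁ B₁) (Q : Pres F q V₂ B₁ B₂)
    (hcomm : ∀ x ∈ A₁, ∀ y ∈ B₂, x * y = y * x) :
    ∃ Q' : Pres F q V₂ B₁ B₂, ∀ X,
      Q'.θ (emb (win 0 2 3 (by omega)) X) = P.θ (emb (win 1 2 3 (by omega)) X) := by
  classical
  -- the comparison
  let f := P.θ.comp (emb (win 1 2 3 (by omega)))
  let g := Q.θ.comp (emb (win 0 2 3 (by omega)))
  have hf : Function.Injective f := P.inj_block hF (i := 1) (by omega)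
  have hg : Function.Injective g := Q.inj_block hF (i := 0) (by omega)
  have hfr : f.range = B₁ := by
    rw [MonoidHom.range_comp]; exact P.right_eq
  have hgr : g.range = B₁ := by
    rw [MonoidHom.range_comp]; exact Q.left_eq
  let β : Cfsg.SU 2 F q ≃* Cfsg.SU 2 F q :=
    (MonoidHom.ofInjective hg).trans ((MulEquiv.subgroupCongr (hgr.trans hfr.symm)).trans
      (MonoidHom.ofInjective hf).symm)
  have hβ : ∀ X, f (β X) = g X := fun X =>
    MonoidHom.apply_ofInjective_symm hf _
  have hdiag : ∀ t, suMat t 0 1 = 0 → suMat (β t) 0 1 = 0 := by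
    intro t ht
    obtain ⟨z, hz, hz2⟩ : ∃ z : F, z * z ^ q = 1 ∧ z ^ q ≠ z := by
      by_contra hall
      push Not at hall
      haveI := Fintype.ofFinite F
      have hc := card_norm_fiber hF (μ := (1 : F)) one_ne_zero (one_pow q)
      rw [Nat.card_eq_fintype_card] at hc
      have hsub : ∀ x : {x : F // x ^ (q + 1) = 1}, x.1 ∈ ({1, -1} : Finset F) := fun x => by
        have h1 : x.1 * x.1 ^ q = 1 := by rw [← pow_succ', x.2]
        rw [hall x.1 h1] at h1
        rcases mul_self_eq_one_iff.1 h1 with e | e <;> simp [e]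
      have h2 : Fintype.card {x : F // x ^ (q + 1) = 1} ≤ 2 :=
        (Fintype.card_le_of_injective (fun x => (⟨x.1, hsub x⟩ : ({1, -1} : Finset F)))
          fun a b e => Subtype.ext (congrArg Subtype.val e :)).trans
          (by rw [Fintype.card_coe]; exact Finset.card_le_two)
      have := two_le_q hF; omega
    obtain ⟨D, hD0, hD1⟩ := exists_diag_two hF hz
    have hzq : z ^ q * (z ^ q) ^ q = 1 := by rw [pow_q_q hF, mul_comm, hz]
    have hc3 : Unitvec q ![z, z ^ q, 1] := fun i => by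
      fin_cases i
      · exact hz
      · exact hzq
      · simp
    obtain ⟨d, hd⟩ := exists_diag hF hc3 (by simp [Fin.prod_univ_three, hz])
    have hdD : d = emb (win 0 2 3 (by omega)) D := by
      refine act_eq_of_basis fun j => ?_
      have hcol : act d (ev j) = ![z, z ^ q, 1] j • ev j := by
        funext i; rw [suMat_apply, hd]
        by_cases h : i = j
        · subst h; simp [ev]
        · simp [ev, h]
      rw [hcol]
      fin_cases j
      · show _ = act (emb _ D) (ev (win 0 2 3 (by omega) 0))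
        rw [act_emb_ev, show act D (ev 0) = z • ev 0 from funext fun i => by
          rw [suMat_apply]; fin_cases i
          · simp [hD0, ev]
          · show suMat D 1 0 = _
            rw [(su2_shape hF D).1, hD1, zero_pow (q_ne_zero hF)]; simp [ev]]
        funext i; fin_cases i
        · show _ = Function.extend (win 0 2 3 (by omega)) _ 0 (win 0 2 3 (by omega) 0)
          rw [(win 0 2 3 (by omega)).injective.extend_apply]; simp [ev]
        · show _ = Function.extend (win 0 2 3 (by omega)) _ 0 (win 0 2 3 (by omega) 1)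
          rw [(win 0 2 3 (by omega)).injective.extend_apply]; simp [ev]
        · rw [Function.extend_apply' _ _ _ (by
            rintro ⟨a, ha⟩; have := congrArg Fin.val ha; simp at this; omega)]
          simp [ev]
      · show _ = act (emb _ D) (ev (win 0 2 3 (by omega) 1))
        rw [act_emb_ev, show act D (ev 1) = z ^ q • ev 1 from funext fun i => by
          rw [suMat_apply]; fin_cases i
          · simp [hD1, ev]
          · show suMat D 1 1 = _
            rw [(su2_shape hF D).2, hD0]; simp [ev]]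
        funext i; fin_cases i
        · show _ = Function.extend (win 0 2 3 (by omega)) _ 0 (win 0 2 3 (by omega) 0)
          rw [(win 0 2 3 (by omega)).injective.extend_apply]; simp [ev]
        · show _ = Function.extend (win 0 2 3 (by omega)) _ 0 (win 0 2 3 (by omega) 1)
          rw [(win 0 2 3 (by omega)).injective.extend_apply]; simp [ev]
        · rw [Function.extend_apply' _ _ _ (by
            rintro ⟨a, ha⟩; have := congrArg Fin.val ha; simp at this; omega)]
          simp [ev]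
      · rw [act_emb_outside _ D (by rw [mem_range_win]; simp)]
        simp
    let e1 := P.θ (emb (win 0 2 3 (by omega)) D)
    have he1 : e1 ∈ A₁ := P.left_mem D
    have hc2 : Unitvec q (![z, z ^ q, 1] ∘ win 1 2 3 (by omega)) := fun i => hc3 _
    let tw : Cfsg.SU 2 F q →* Cfsg.SU 2 F q :=
      twist hF (![z, z ^ q, 1] ∘ win 1 2 3 (by omega)) hc2 (RingEquiv.refl F)
    have hconj : ∀ s, e1 * f s * e1⁻¹ = f (tw s) := fun s => by
      show P.θ _ * P.θ _ * (P.θ _)⁻¹ = P.θ _
      rw [← hdD, ← map_inv, ← map_mul, ← map_mul, conj_eq_twist hF hc3 hd, twist_emb hF _ _ hc3]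
    obtain ⟨X, hX⟩ : ∃ X, β X = tw (β t) := β.surjective _
    have hX1 : g X = e1 * g t * e1⁻¹ := by rw [← hβ, hX, ← hconj, hβ]
    have hXd : suMat X 0 1 = 0 := by
      refine Q.diag_of_normal hF fun Y => ?_
      obtain ⟨Y', hY'⟩ := Q.normal_of_diag hF ht Y
      refine ⟨Y', ?_⟩
      show g X * _ * (g X)⁻¹ = _
      have hc : ∀ Z, e1 * Q.θ (emb (win 1 2 3 (by omega)) Z) = Q.θ (emb (win 1 2 3 (by omega)) Z) * e1 :=
        fun Z => hcomm _ he1 _ (Q.right_mem Z)
      have hY : e1⁻¹ * Q.θ (emb (win 1 2 3 (by omega)) Y) * e1 = Q.θ (emb (win 1 2 3 (by omega)) Y) := by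
        rw [mul_assoc, ← hc, inv_mul_cancel_left]
      rw [hX1]
      calc e1 * g t * e1⁻¹ * Q.θ (emb (win 1 2 3 (by omega)) Y) * (e1 * g t * e1⁻¹)⁻¹
          = e1 * (g t * (e1⁻¹ * Q.θ (emb (win 1 2 3 (by omega)) Y) * e1) * (g t)⁻¹) * e1⁻¹ := by group
        _ = e1 * Q.θ (emb (win 1 2 3 (by omega)) Y') * e1⁻¹ := by rw [hY, show g t * _ * (g t)⁻¹ = _ from hY']
        _ = Q.θ (emb (win 1 2 3 (by omega)) Y') := by rw [hc, mul_inv_cancel_right]
    have hcm := congrArg β (diag_two_comm hF hXd ht)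
    rw [map_mul, map_mul, hX] at hcm
    set s := β t
    have he := congrArg (fun x => suMat x 0 0) hcm
    simp only [suMat_mul, Matrix.mul_apply, Fin.sum_univ_two, (su2_shape hF s).1,
      (su2_shape hF (tw s)).1] at he
    simp only [tw, suMat_twist, Function.comp_apply, RingEquiv.refl_apply,
      show win 1 2 3 (by omega) 0 = (1 : Fin 3) from rfl, show win 1 2 3 (by omega) 1 = (2 : Fin 3) from rfl,
      Matrix.cons_val_one, Matrix.cons_val_zero, Matrix.cons_val, one_pow, mul_one,
      mul_pow, pow_q_q hF] at he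
    have hfin : (suMat s 0 1 * suMat s 0 1 ^ q) * (z - z ^ q) = 0 := by linear_combination he
    rcases mul_eq_zero.1 hfin with h | h
    · rcases mul_eq_zero.1 h with h | h
      · exact h
      · exact eq_zero_of_pow_eq_zero h
    · exact absurd (sub_eq_zero.1 h).symm hz2
  obtain ⟨ζ, hc, γ, hβγ⟩ := aut_torus hF β hdiag
  have hc3 : Unitvec q ![ζ, 1, 1] := fun i => by
    fin_cases i
    · exact hc 0
    · exact hc 1
    · exact hc 1
  let a : Cfsg.SU 3 F q ≃* Cfsg.SU 3 F q :=
    MulEquiv.ofBijective (twist hF ![ζ, 1, 1] hc3 γ)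
      ((Finite.injective_iff_bijective).1 (twist_injective hF _ _ _))
  have ha : ∀ k, a k = twist hF ![ζ, 1, 1] hc3 γ k := fun _ => rfl
  have ha0 : ∀ X, a (emb (win 0 2 3 (by omega)) X) = emb (win 0 2 3 (by omega)) (β X) := fun X => by
    rw [ha, twist_emb hF _ _ hc3, hβγ]
    have ec : (![ζ, 1, 1] : Fin 3 → F) ∘ win 0 2 3 (by omega) = ![ζ, 1] :=
      funext fun i => by fin_cases i <;> rfl
    refine congrArg (emb _) (su2_ext hF ?_ ?_) <;> simp [suMat_twist, ec]
  have himg : ∀ i (hi : i + 2 ≤ 3),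
      (emb (F := F) (q := q) (win i 2 3 hi)).range.map a.symm.toMonoidHom =
        (emb (F := F) (q := q) (win i 2 3 hi)).range := by
    intro i hi
    set R := (emb (F := F) (q := q) (win i 2 3 hi)).range
    have h1 : R.map a.toMonoidHom ≤ R := by
      rintro _ ⟨_, ⟨X, rfl⟩, rfl⟩
      exact ⟨_, (twist_emb hF _ _ hc3 γ X).symm⟩
    have h2 : R.map a.toMonoidHom = R :=
      Subgroup.eq_of_le_of_card_ge h1
        (le_of_eq (Nat.card_congr (Subgroup.equivMapOfInjective R _ a.injective).toEquiv))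
    conv_lhs => rw [← h2, Subgroup.map_map]
    convert Subgroup.map_id R
    ext k; simp
  refine ⟨⟨Q.θ.comp a.symm.toMonoidHom, fun k hk => ?_, ?_, ?_, ?_⟩, fun X => ?_⟩
  · obtain ⟨c, hc'⟩ := Q.ker_scalar _ hk
    refine ⟨γ c, fun i => funext fun j => ?_⟩
    have hk' : k = a (a.symm k) := (a.apply_symm_apply k).symm
    rw [hk', suMat_apply, ha, suMat_twist]
    have := congrFun (hc' i) j
    rw [suMat_apply] at this
    simp only [MulEquiv.coe_toMonoidHom] at this
    rw [this]
    by_cases h : j = i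
    · subst h
      simp [ev]
      linear_combination (γ c) * hc3 j
    · simp [ev, h]
  · rw [MonoidHom.range_comp, MonoidHom.range_eq_top.2 a.symm.surjective, ← MonoidHom.range_eq_map]
    exact Q.range_eq
  · rw [← Subgroup.map_map, himg 0 (by omega)]; exact Q.left_eq
  · rw [← Subgroup.map_map, himg 1 (by omega)]; exact Q.right_eq
  · show Q.θ (a.symm _) = _
    have : a.symm (emb (win 0 2 3 (by omega)) X) = emb (win 0 2 3 (by omega)) (β.symm X) :=
      a.symm_apply_eq.2 (by rw [ha0, MulEquiv.apply_symm_apply])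
    rw [this]
    exact (hβ (β.symm X)).symm.trans (by rw [MulEquiv.apply_symm_apply]; rfl)

include hF in
/-- A weak Phan system gives a chain. -/
theorem exists_system (hq : 3 ≤ q) {N : ℕ} (U : ℕ → Subgroup G) (V : ℕ → Subgroup G)
    (hU : ∀ i j, i + 2 ≤ j → j < N → ∀ x ∈ U i, ∀ y ∈ U j, x * y = y * x)
    (hV : ∀ i, i + 1 < N → Cfsg.IsStandardUnitaryPair (V i) (U i) (U (i + 1)) F q) (hN : 2 ≤ N) :
    ∃ D : Chain F q N G, ∀ i, i + 1 < N →
      (D.ψ i).range = V i ∧ (∀ X, D.u i X ∈ U i) := by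
  classical
  have step : ∀ k, ∃ P : ∀ i, i + 1 < N → Pres F q (V i) (U i) (U (i + 1)),
      ∀ i (h : i + 2 < N), i < k → ∀ X,
        (P (i + 1) h).θ (emb (win 0 2 3 (by omega)) X) =
          (P i (by omega)).θ (emb (win 1 2 3 (by omega)) X) := by
    intro k
    induction k with
    | zero => exact ⟨fun i h => (exists_pres hF (hV i h)).some, fun i _ h => absurd h (by omega)⟩
    | succ k ih =>
      obtain ⟨P, hP⟩ := ih
      by_cases hk : k + 2 < N
      · obtain ⟨Q, hQ⟩ := (P k (by omega)).align hF (P (k + 1) hk) (hU k (k + 2) le_rfl hk)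
        refine ⟨Function.update P (k + 1) (fun _ => Q), fun i h hi X => ?_⟩
        rw [Function.update_of_ne (show i ≠ k + 1 by omega)]
        rcases Nat.lt_or_ge i k with h' | h'
        · rw [Function.update_of_ne (show i + 1 ≠ k + 1 by omega)]
          exact hP i h h' X
        · obtain rfl : i = k := by omega
          rw [Function.update_self]
          exact hQ X
      · exact ⟨P, fun i h hi => hP i h (by omega)⟩
  obtain ⟨P, hP⟩ := step N
  let ψ : ℕ → Cfsg.SU 3 F q →* G := fun i => if h : i + 1 < N then (P i h).θ else 1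
  let u : ℕ → Cfsg.SU 2 F q →* G := fun i =>
    if i = 0 then (ψ 0).comp (emb (win 0 2 3 (by omega))) else (ψ (i - 1)).comp (emb (win 1 2 3 (by omega)))
  have hψ : ∀ i (h : i + 1 < N), ψ i = (P i h).θ := fun i h => dif_pos h
  have h12 : ∀ i, i + 1 < N → ∀ X, ψ i (emb (win 1 2 3 (by omega)) X) = u (i + 1) X := fun i _ X => rfl
  have h01 : ∀ i, i + 1 < N → ∀ X, ψ i (emb (win 0 2 3 (by omega)) X) = u i X := fun i h X => by
    cases i with
    | zero => rfl
    | succ j =>
      show _ = ψ j _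
      rw [hψ _ h, hψ j (by omega)]
      exact hP j h (by omega) X
  have hu : ∀ i, i < N → ∀ X, u i X ∈ U i := fun i hi X => by
    cases i with
    | zero => show ψ 0 _ ∈ _; rw [hψ 0 (by omega)]; exact (P 0 _).left_mem X
    | succ j => show ψ j _ ∈ _; rw [hψ j hi]; exact (P j hi).right_mem X
  obtain ⟨D, hDu, hDψ⟩ := exists_chain hF hq u ψ h01 h12 fun i j hij hj X Y =>
    hU i j hij hj _ (hu i (by omega) X) _ (hu j hj Y)
  exact ⟨D, fun i h => ⟨by rw [hDψ, hψ i h]; exact (P i h).range_eq, fun X => by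
    rw [hDu]; exact hu i (by omega) X⟩⟩

end CfsgLib.Phan
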