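import Cfsg.Agent.Phan.Vec
import Cfsg.Prelude.Def_PhanSystems
import Mathlib.LinearAlgebra.Matrix.Permutation
import Mathlib.Logic.Equiv.Fintype
import Mathlib.Data.Matrix.Block

/-!
The special unitary group on a set of coordinates inside a bigger one.
-/

set_option autoImplicit false
set_option linter.unusedSectionVars false
set_option linter.style.haveILetI false

namespace CfsgLib.Phan

open Matrix CfsgLib.Forms CfsgLib.Unitary

variable {F : Type*} [Field F] [Finite F] {q n m : ℕ} (hF : Nat.card F = q ^ 2)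

local notation "hm" => Cfsg.hermForm _ F q

/-- The splitting of the coordinates. -/
noncomputable def split (f : Fin m ↪ Fin n) : Fin m ⊕ {i // i ∉ Set.range f} ≃ Fin n := by
  classical
  exact (Equiv.sumCongr (Equiv.ofInjective f f.injective) (Equiv.refl _)).trans
    (Equiv.sumCompl fun i => i ∈ Set.range f)

theorem split_inl (f : Fin m ↪ Fin n) (a : Fin m) : split f (Sum.inl a) = f a := by
  classical simp [split]

theorem split_inr (f : Fin m ↪ Fin n) (i : {i // i ∉ Set.range f}) : split f (Sum.inr i) = i.1 := by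
  classical simp [split]

/-- The block matrix. -/
noncomputable def blk (f : Fin m ↪ Fin n) : Matrix (Fin m) (Fin m) F →* Matrix (Fin n) (Fin n) F :=
  by classical exact
    { toFun := fun A => (Matrix.fromBlocks A 0 0 1).submatrix (split f).symm (split f).symm
      map_one' := by rw [Matrix.fromBlocks_one, Matrix.submatrix_one_equiv]
      map_mul' := fun A B => by
        rw [Matrix.submatrix_mul_equiv, Matrix.fromBlocks_multiply]
        simp }

theorem blk_mulVec_ev (f : Fin m ↪ Fin n) (A : Matrix (Fin m) (Fin m) F) (a : Fin m) :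
    blk f A *ᵥ ev (f a) = Function.extend f (A *ᵥ ev a) 0 := by
  classical
  funext i
  rw [ev, mulVec_single_one]
  show (Matrix.fromBlocks A 0 0 1).submatrix (split f).symm (split f).symm i (f a) = _
  rw [Matrix.submatrix_apply, (split f).symm_apply_eq.2 (split_inl f a).symm]
  by_cases hi : i ∈ Set.range f
  · obtain ⟨b, rfl⟩ := hi
    rw [(split f).symm_apply_eq.2 (split_inl f b).symm, f.injective.extend_apply]
    simp [ev, Matrix.col]
  · rw [(split f).symm_apply_eq.2 (split_inr f ⟨i, hi⟩).symm, Function.extend_apply' _ _ _ (by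
      rintro ⟨b, hb⟩; exact hi ⟨b, hb⟩)]
    simp

theorem blk_mulVec_ev_outside (f : Fin m ↪ Fin n) (A : Matrix (Fin m) (Fin m) F) {j : Fin n}
    (hj : j ∉ Set.range f) : blk f A *ᵥ ev j = ev j := by
  classical
  funext i
  rw [ev, mulVec_single_one]
  show (Matrix.fromBlocks A 0 0 1).submatrix (split f).symm (split f).symm i j = _
  rw [Matrix.submatrix_apply, (split f).symm_apply_eq.2 (split_inr f ⟨j, hj⟩).symm]
  by_cases hi : i ∈ Set.range f
  · obtain ⟨b, rfl⟩ := hi
    have hne : f b ≠ j := fun e => hj ⟨b, e⟩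
    rw [(split f).symm_apply_eq.2 (split_inl f b).symm]
    simp [hne]
  · rw [(split f).symm_apply_eq.2 (split_inr f ⟨i, hi⟩).symm]
    simp [Matrix.one_apply, Pi.single_apply, Subtype.ext_iff]

theorem det_blk (f : Fin m ↪ Fin n) (A : Matrix (Fin m) (Fin m) F) : (blk f A).det = A.det := by
  classical
  show ((Matrix.fromBlocks A 0 0 1).submatrix (split f).symm (split f).symm).det = _
  rw [Matrix.det_submatrix_equiv_self, Matrix.det_fromBlocks_zero₂₁, Matrix.det_one, mul_one]

theorem blk_mulVec (f : Fin m ↪ Fin n) (A : Matrix (Fin m) (Fin m) F) (x : Fin n → F) :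
    ∀ i, (blk f A *ᵥ x) (split f i) = Sum.elim (A *ᵥ fun a => x (f a)) (fun j => x j.1) i := by
  classical
  intro i
  show ((Matrix.fromBlocks A 0 0 1).submatrix (split f).symm (split f).symm *ᵥ x) (split f i) = _
  rw [Matrix.submatrix_mulVec_equiv, Function.comp_apply, Equiv.symm_apply_apply, Matrix.fromBlocks_mulVec]
  rcases i with a | j
  · simp [Function.comp_def, split_inl]
  · simp [split_inr]

theorem blk_preserves (f : Fin m ↪ Fin n) (A : Cfsg.SU m F q) (x y : Fin n → F) :
    hm (blk f (suMat A) *ᵥ x) (blk f (suMat A) *ᵥ y) = hm x y := by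
  classical
  unfold Cfsg.hermForm
  rw [← (split f).sum_comp, ← (split f).sum_comp, Fintype.sum_sum_type, Fintype.sum_sum_type]
  simp only [blk_mulVec]
  simp only [Sum.elim_inl, Sum.elim_inr, split_inl, split_inr]
  congr 1
  exact su_preserves A _ _

/-- `SU` on the coordinates in the range of `f`. -/
noncomputable def emb (f : Fin m ↪ Fin n) : Cfsg.SU m F q →* Cfsg.SU n F q where
  toFun A := ⟨⟨blk f (suMat A), by rw [det_blk]; exact A.1.2⟩, blk_preserves f A⟩
  map_one' := Subtype.ext (Subtype.ext (map_one (blk f)))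
  map_mul' A B := Subtype.ext (Subtype.ext (map_mul (blk f) (suMat A) (suMat B)))

theorem act_emb_ev (f : Fin m ↪ Fin n) (A : Cfsg.SU m F q) (a : Fin m) :
    act (emb f A) (ev (f a)) = Function.extend f (act A (ev a)) 0 := blk_mulVec_ev f _ a

theorem act_emb_outside (f : Fin m ↪ Fin n) (A : Cfsg.SU m F q) {j : Fin n} (hj : j ∉ Set.range f) :
    act (emb f A) (ev j) = ev j := blk_mulVec_ev_outside f _ hj

theorem extend_ev (f : Fin m ↪ Fin n) (b : Fin m) :
    Function.extend f (ev b : Fin m → F) 0 = ev (f b) := by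
  classical
  funext i
  by_cases hi : i ∈ Set.range f
  · obtain ⟨a, rfl⟩ := hi
    rw [f.injective.extend_apply]
    simp [ev, Pi.single_apply]
  · rw [Function.extend_apply' _ _ _ (by rintro ⟨b, hb⟩; exact hi ⟨b, hb⟩)]
    have : i ≠ f b := fun e => hi ⟨b, e.symm⟩
    simp [ev, this]

theorem extend_neg (f : Fin m ↪ Fin n) (v : Fin m → F) :
    Function.extend f (-v) 0 = -Function.extend f v 0 := by
  funext i
  by_cases hi : i ∈ Set.range f
  · obtain ⟨a, rfl⟩ := hi; simp [f.injective.extend_apply]
  · simp [Function.extend_apply' _ _ _ (by rintro ⟨b, hb⟩; exact hi ⟨b, hb⟩ : ¬∃ a, f a = i)]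

theorem emb_injective (f : Fin m ↪ Fin n) : Function.Injective (emb (F := F) (q := q) f) :=
  fun A B e => act_eq_of_basis fun a => by
    have := congrArg (fun g => act g (ev (f a))) e
    simp only [act_emb_ev] at this
    funext b
    have := congrFun this (f b)
    rwa [f.injective.extend_apply, f.injective.extend_apply] at this

theorem emb_comp {r : ℕ} (f : Fin m ↪ Fin n) (g : Fin r ↪ Fin m) (A : Cfsg.SU r F q) :
    emb f (emb g A) = emb (g.trans f) A := by
  classical
  refine act_eq_of_basis fun i => ?_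
  by_cases hi : i ∈ Set.range (g.trans f)
  · obtain ⟨c, rfl⟩ := hi
    rw [act_emb_ev (g.trans f), show (g.trans f) c = f (g c) from rfl, act_emb_ev, act_emb_ev]
    funext j
    by_cases hj : j ∈ Set.range f
    · obtain ⟨b, rfl⟩ := hj
      rw [f.injective.extend_apply]
      by_cases hb : b ∈ Set.range g
      · obtain ⟨a, rfl⟩ := hb
        rw [g.injective.extend_apply, show f (g a) = (g.trans f) a from rfl,
          (g.trans f).injective.extend_apply]
      · rw [Function.extend_apply' _ _ _ (by rintro ⟨a, ha⟩; exact hb ⟨a, ha⟩),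
          Function.extend_apply' _ _ _ (by rintro ⟨a, ha⟩; exact hb ⟨a, f.injective ha⟩)]
        rfl
    · rw [Function.extend_apply' _ _ _ (by rintro ⟨b, hb⟩; exact hj ⟨b, hb⟩),
        Function.extend_apply' _ _ _ (by rintro ⟨a, ha⟩; exact hj ⟨g a, ha⟩)]
  · rw [act_emb_outside (g.trans f) A hi]
    by_cases hi' : i ∈ Set.range f
    · obtain ⟨b, rfl⟩ := hi'
      rw [act_emb_ev, act_emb_outside g A (fun ⟨a, ha⟩ => hi ⟨a, congrArg f ha⟩), extend_ev]
    · exact act_emb_outside f _ hi'

include hF in
/-- The image of a block: the elements fixing the other coordinates. -/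
theorem mem_range_emb {f : Fin m ↪ Fin n} {g : Cfsg.SU n F q} :
    g ∈ (emb (F := F) (q := q) f).range ↔ ∀ j, j ∉ Set.range f → act g (ev j) = ev j := by
  classical
  refine ⟨?_, fun h => ?_⟩
  · rintro ⟨A, rfl⟩ j hj; exact act_emb_outside f A hj
  set w : Fin m → Fin m → F := fun a b => act g (ev (f a)) (f b)
  have hzero : ∀ a j, j ∉ Set.range f → act g (ev (f a)) j = 0 := fun a j hj => by
    have h1 : hm (ev j : Fin n → F) (act g (ev (f a))) = 0 := by
      rw [← h j hj, act_herm, herm_ev hF, if_neg (fun e => hj ⟨a, e.symm⟩)]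
    rw [ev, herm_single_left] at h1
    exact eq_zero_of_pow_eq_zero h1
  set A : Matrix (Fin m) (Fin m) F := Matrix.of fun b a => w a b
  have hblk : blk f A = suMat g := Matrix.ext_of_mulVec_single fun i => by
    show blk f A *ᵥ ev i = act g (ev i)
    by_cases hi : i ∈ Set.range f
    · obtain ⟨a, rfl⟩ := hi
      rw [blk_mulVec_ev]
      funext j
      by_cases hj : j ∈ Set.range f
      · obtain ⟨b, rfl⟩ := hj
        rw [f.injective.extend_apply]
        simp [ev, A, Matrix.col, w]
      · rw [Function.extend_apply' _ _ _ (by rintro ⟨b, hb⟩; exact hj ⟨b, hb⟩), hzero a j hj]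
        rfl
    · rw [blk_mulVec_ev_outside f A hi, h i hi]
  have hdet : A.det = 1 := by rw [← det_blk f A, hblk]; exact g.1.2
  have hpres : ∀ u v : Fin m → F, hm (A *ᵥ u) (A *ᵥ v) = hm u v := fun u v => by
    have e := su_preserves g (Function.extend f u 0) (Function.extend f v 0)
    rw [← hblk] at e
    unfold Cfsg.hermForm at e ⊢
    rw [← (split f).sum_comp, ← (split f).sum_comp, Fintype.sum_sum_type, Fintype.sum_sum_type] at e
    have h0 : ∀ (u : Fin m → F) (j : {i // i ∉ Set.range f}), Function.extend f u 0 j.1 = 0 := fun u j => by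
      rw [Function.extend_apply' _ _ _ (by rintro ⟨b, hb⟩; exact j.2 ⟨b, hb⟩)]; rfl
    simp only [blk_mulVec] at e
    simp only [Sum.elim_inl, Sum.elim_inr, split_inl, split_inr, h0, zero_mul,
      Finset.sum_const_zero, add_zero, f.injective.extend_apply] at e
    exact e
  exact ⟨⟨⟨A, hdet⟩, hpres⟩, Subtype.ext (Subtype.ext hblk)⟩

theorem commute_emb {r : ℕ} (f : Fin m ↪ Fin n) (g : Fin r ↪ Fin n) (h : ∀ a b, f a ≠ g b)
    (A : Cfsg.SU m F q) (B : Cfsg.SU r F q) : emb f A * emb g B = emb g B * emb f A := by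
  classical
  have key : ∀ {m r : ℕ} (f : Fin m ↪ Fin n) (g : Fin r ↪ Fin n), (∀ a b, f a ≠ g b) →
      ∀ (A : Cfsg.SU m F q) (B : Cfsg.SU r F q) (a : Fin m),
        act (emb g B) (act (emb f A) (ev (f a))) = act (emb f A) (ev (f a)) := by
    intro m r f g h A B a
    have e : ∀ x : Fin n → F, (∀ b, x (g b) = 0) → act (emb g B) x = x := fun x hx => by
      funext i
      obtain ⟨i, rfl⟩ := (split g).surjective i
      show (blk g (suMat B) *ᵥ x) _ = _
      rw [blk_mulVec]
      rcases i with b | j
      · rw [Sum.elim_inl, split_inl, hx b]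
        rw [show (fun a => x (g a)) = 0 from funext hx, Matrix.mulVec_zero]
        rfl
      · simp [split_inr]
    refine e _ fun b => ?_
    rw [act_emb_ev, Function.extend_apply' _ _ _ (by rintro ⟨c, hc⟩; exact h c b hc)]
    rfl
  refine act_eq_of_basis fun i => ?_
  rw [act_mul, act_mul]
  by_cases hi : i ∈ Set.range f
  · obtain ⟨a, rfl⟩ := hi
    rw [act_emb_outside g B (fun ⟨b, hb⟩ => h a b hb.symm), key f g h A B a]
  · rw [act_emb_outside f A hi]
    by_cases hi' : i ∈ Set.range g
    · obtain ⟨b, rfl⟩ := hi'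
      exact key g f (fun a b e => h b a e.symm) B A b
    · rw [act_emb_outside g B hi', act_emb_outside f A hi]

include hF in
/-- A block is the block subgroup. -/
theorem range_emb_eq_suBlock (f : Fin m ↪ Fin n) :
    (emb (F := F) (q := q) f).range = Cfsg.suBlock n F q (Set.range f) := by
  classical
  refine le_antisymm (fun g hg => ?_) ((Subgroup.closure_le _).2 fun A hA => ?_)
  · refine Subgroup.subset_closure fun k hk => ?_
    have h1 := (mem_range_emb hF).1 hg k hk
    refine ⟨by simpa [act, ev, mulVec_single_one, Matrix.col] using congrFun h1 k, fun l hl => ⟨?_, ?_⟩⟩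
    · have h2 : hm (ev k : Fin n → F) (act g (ev l)) = 0 := by
        rw [← h1, act_herm, herm_ev hF, if_neg (Ne.symm hl)]
      rw [ev, herm_single_left] at h2
      simpa [act, ev, mulVec_single_one, Matrix.col] using eq_zero_of_pow_eq_zero h2
    · simpa [act, ev, mulVec_single_one, Matrix.col, hl] using congrFun h1 l
  · refine (mem_range_emb hF).2 fun j hj => ?_
    funext i
    have h := hA j hj
    by_cases hi : i = j
    · subst hi; simpa [act, ev, mulVec_single_one, Matrix.col] using h.1
    · simpa [act, ev, mulVec_single_one, Matrix.col, hi] using (h.2 i hi).2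

end CfsgLib.Phan
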