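import Cfsg.Agent.Phan.Cover

/-!
The covering is trivial: at least five dimensions, or the general criterion.
-/

set_option autoImplicit false
set_option linter.unusedSectionVars false
set_option linter.style.haveILetI false

namespace CfsgLib.Phan

open Matrix CfsgLib.Forms CfsgLib.Unitary

variable {F : Type*} [Field F] [Finite F] {q n : ℕ} (hF : Nat.card F = q ^ 2)

local notation "hm" => Cfsg.hermForm _ F q

namespace Cov

variable {G : Type*} [Group G] (C : Cov F q n G)

include hF in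
/-- The block lemma at an arbitrary point. -/
theorem block {d : ℕ} {ι : Fin d → Fin n} (hC : C.Comm ι) {x : C.X} {M : Fin d → Fin n → F}
    (hM : Orth q M) {i₀ : Fin d} (hi₀ : ι i₀ = C.i0) (hx : M i₀ = C.p x) {v : Fin n → F}
    (hv : hm v v = 1) (hspan : v ∈ Submodule.span F (Set.range M)) {m m' y y' : C.X}
    (h1 : C.Adj x m) (h2 : C.Adj x m') (h3 : C.Adj m y) (h4 : C.Adj m' y') (e : C.p y = v)
    (e' : C.p y' = v) (hperp : ∀ i, hm (C.p m) (M i) = 0) (hperp' : ∀ i, hm (C.p m') (M i) = 0) :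
    y = y' := by
  obtain ⟨hι, hd, hdn, -, -, -⟩ := id hC
  obtain ⟨g, rfl⟩ := C.exists_smul x
  obtain ⟨k, hk⟩ := exists_ext hF hι (by omega) (orth_map hF hM g.1.1⁻¹)
  have hk0 : k ∈ St q (ev C.i0 : Fin n → F) := by
    have := hk i₀
    rw [hi₀, hx, p_smul, act_inv_act, p_o] at this
    exact this
  set a : C.E := g * C.gk ⟨k, hk0⟩ with ha
  have hao : a • C.o = g • C.o := by rw [ha, mul_smul, gk_o]
  have haM : ∀ i, act a.1.1 (ev (ι i)) = M i := fun i => by
    show act (g.1.1 * k) _ = _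
    rw [act_mul, hk i, act_act_inv]
  set v' := act a.1.1⁻¹ v
  have hv' : hm v' v' = 1 := by rw [act_herm, hv]
  have hvI : ∀ j, (∀ i, ι i ≠ j) → hm v' (ev j) = 0 := by
    intro j hj
    rw [← act_herm a.1.1, act_act_inv]
    clear_value v'
    clear hv hv' e e' v'
    induction hspan using Submodule.span_induction with
    | mem z hz =>
      obtain ⟨i, rfl⟩ := hz
      rw [← haM i, act_herm, herm_ev hF, if_neg (hj i)]
    | zero => exact herm_zero_left hF _
    | add z z' _ _ hz hz' => rw [herm_add_left, hz, hz', add_zero]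
    | smul c z _ hz => rw [herm_smul_left, hz, mul_zero]
  obtain ⟨y₀, hy₀⟩ := C.block_base hF hC hv' hvI
  have hpm : ∀ z, (∀ i, hm (C.p z) (M i) = 0) → ∀ i, hm (C.p (a⁻¹ • z)) (ev (ι i)) = 0 :=
    fun z hz i => by
      rw [p_smul, ← act_inv_eq (haM i)]
      show hm (act (a.1.1)⁻¹ _) _ = 0
      rw [act_herm, hz]
  have key : ∀ {m y : C.X}, C.Adj (g • C.o) m → C.Adj m y → C.p y = v →
      (∀ i, hm (C.p m) (M i) = 0) → a⁻¹ • y = y₀ := fun {m y} hxm hmy e hp => by
    refine hy₀ (a⁻¹ • m) (a⁻¹ • y) ?_ (hmy.smul C _) (hpm _ hp) ?_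
    · have := hxm.smul C a⁻¹
      rwa [← hao, inv_smul_smul] at this
    · rw [p_smul, e]; rfl
  exact smul_left_cancel a⁻¹ ((key h1 h3 e hperp).trans (key h2 h4 e' hperp').symm)

include hF in
/-- A non-degenerate line. -/
theorem ind_nondeg {ι : Fin 2 → Fin n} (hC : C.Comm ι) (hι : ι 0 = C.i0) {x : C.X} {v : Fin n → F}
    (hv : hm v v = 1) (h : hm v (C.p x) ^ (q + 1) ≠ 1) : C.Ind x v := by
  intro m m' y y' h1 h2 h3 h4 e e'
  set a := C.p x
  have ha : hm a a = 1 := C.p_unit hF x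
  set w := v - hm v a • a
  have hwa : hm w a = 0 := by simp [w, herm_sub_left hF, herm_smul_left, ha]
  have hww : hm w w = 1 - hm v a ^ (q + 1) := by
    simp only [w, herm_sub_left hF, herm_sub_right hF, herm_smul_left, herm_smul_right hF, hv, ha,
      herm_swap hF v a]
    ring
  obtain ⟨t, ht⟩ := exists_unit_mul hF (n := n) (z := w) (by rw [hww]; exact sub_ne_zero.2 (Ne.symm h))
  have ht0 : t ≠ 0 := fun e0 => by
    rw [e0, zero_smul, herm_zero_left hF] at ht; exact zero_ne_one ht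
  have hat : hm a (t • w) = 0 := by rw [herm_smul_right hF, (herm_comm_zero hF).1 hwa, mul_zero]
  refine C.block hF hC (M := ![a, t • w]) (orth_two hF ha ht hat) hι rfl hv ?_ h1 h2 h3 h4 e e' ?_ ?_
  · refine (Submodule.mem_span_range_iff_exists_fun F).2 ⟨![hm v a, t⁻¹], ?_⟩
    simp [Fin.sum_univ_two, smul_smul, inv_mul_cancel₀ ht0, w]
  all_goals
    intro i
    have p1 := (h1.orth hF)
    have p2 := (h2.orth hF)
    have p3 := (h3.orth hF)
    have p4 := (h4.orth hF)
    rw [e] at p3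
    rw [e'] at p4
    rw [herm_comm_zero hF]
    fin_cases i <;>
      simp [a, w, herm_smul_left, herm_sub_left hF, p1, p2, (herm_comm_zero hF).1 p3,
        (herm_comm_zero hF).1 p4]

include hF in
/-- **Independence of the path in at least five dimensions.** -/
theorem ind_large (h5 : 5 ≤ n) {ι2 : Fin 2 → Fin n} (hC2 : C.Comm ι2) (hι2 : ι2 0 = C.i0)
    {ι3 : Fin 3 → Fin n} (hC3 : C.Comm ι3) (hι3 : ι3 0 = C.i0) (x : C.X) {v : Fin n → F}
    (hv : hm v v = 1) : C.Ind x v := by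
  by_cases hk : hm v (C.p x) ^ (q + 1) ≠ 1
  · exact C.ind_nondeg hF hC2 hι2 hv hk
  push Not at hk
  intro m m' y y' h1 h2 h3 h4 e e'
  set a := C.p x with ha'
  set c := C.p m
  set c' := C.p m'
  have ha : hm a a = 1 := C.p_unit hF x
  have hc : hm c c = 1 := C.p_unit hF m
  have hc' : hm c' c' = 1 := C.p_unit hF m'
  have hac : hm a c = 0 := h1.orth hF
  have hac' : hm a c' = 0 := h2.orth hF
  have hvc : hm v c = 0 := by rw [← e, herm_comm_zero hF]; exact h3.orth hF
  have hvc' : hm v c' = 0 := by rw [← e', herm_comm_zero hF]; exact h4.orth hF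
  set κ := hm v a with hκ
  set r := v - κ • a with hr
  have hra : hm r a = 0 := by simp [hr, hκ, herm_sub_left hF, herm_smul_left, ha]
  have hrr : hm r r = 0 := by
    simp only [hr, herm_sub_left hF, herm_sub_right hF, herm_smul_left, herm_smul_right hF, hv, ha,
      herm_swap hF v a, ← hκ]
    linear_combination -hk
  have hrc : hm r c = 0 := by simp [hr, herm_sub_left hF, herm_smul_left, hvc, hac]
  have hrc' : hm r c' = 0 := by simp [hr, herm_sub_left hF, herm_smul_left, hvc', hac']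
  have hv_eq : v = κ • a + r := by rw [hr]; abel
  have common : ∀ w, hm w w = 1 → hm w a = 0 → hm w c = 0 → hm w c' = 0 → hm w r = 0 → y = y' :=
    fun w hw hwa hwc hwc' hwr => C.same_of_common hF h1 h2 h3 h4 (e.trans e'.symm) hw hwa hwc hwc'
      (by rw [e, hv_eq, herm_add_right hF, herm_smul_right hF, hwa, hwr, mul_zero, add_zero])
  by_cases hr0 : r = 0
  · obtain ⟨w, hw, hwx, hwc'⟩ := exists_perp hF (by omega) (orth_two hF ha hc hac) c'
    exact common w hw (hwx 0) (hwx 1) hwc' (by rw [hr0, herm_zero_right hF])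
  by_cases hmem : r ∈ Submodule.span F (Set.range ![a, c, c'])
  · obtain ⟨u, hu⟩ := (Submodule.mem_span_range_iff_exists_fun F).1 hmem
    simp only [Fin.sum_univ_three, Matrix.cons_val_zero, Matrix.cons_val_one, Matrix.cons_val_two,
      Matrix.tail_cons, Matrix.head_cons] at hu
    obtain ⟨w, hw, hwx, hwr⟩ := exists_perp hF (by omega) (orth_two hF ha hc hac) r
    have hwa : hm w a = 0 := hwx 0
    have hwc : hm w c = 0 := hwx 1
    have hu0 : u 0 = 0 := by
      rw [← hu] at hra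
      simpa [herm_add_left, herm_smul_left, ha, (herm_comm_zero hF).1 hac,
        (herm_comm_zero hF).1 hac'] using hra
    have hu2 : u 2 ≠ 0 := by
      intro h0
      rw [← hu, hu0, h0] at hrc
      simp [herm_add_left, herm_smul_left, hc] at hrc
      exact hr0 (by rw [← hu, hu0, h0, hrc]; simp)
    refine common w hw hwa hwc ?_ hwr
    rw [← hu, herm_add_right hF, herm_add_right hF, herm_smul_right hF, herm_smul_right hF,
      herm_smul_right hF, hwa, hwc, mul_zero, mul_zero, zero_add, zero_add] at hwr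
    exact (mul_eq_zero.1 hwr).resolve_left (pow_ne_zero _ hu2)
  · obtain ⟨z, hzP, hzr⟩ := exists_pair_of_not_mem hF hmem
    have hrP : ∀ i, hm r (![a, c, c'] i) = 0 := fun i => by fin_cases i <;> simp [hra, hrc, hrc']
    obtain ⟨m1, m2, h11, h22, h12, hP1, hP2, s, t, hst⟩ := exists_plane hF hrr hrP hzP hzr
    refine C.block hF hC3 (M := ![a, m1, m2])
      (orth_three hF ha h11 h22 ((herm_comm_zero hF).1 (hP1 0)) ((herm_comm_zero hF).1 (hP2 0)) h12)
      hι3 rfl hv ?_ h1 h2 h3 h4 e e' ?_ ?_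
    · refine (Submodule.mem_span_range_iff_exists_fun F).2 ⟨![κ, s, t], ?_⟩
      rw [hv_eq, hst]
      simp [Fin.sum_univ_three, add_assoc]
    · intro i
      rw [herm_comm_zero hF]
      fin_cases i
      exacts [hac, hP1 1, hP2 1]
    · intro i
      rw [herm_comm_zero hF]
      fin_cases i
      exacts [hac', hP1 2, hP2 2]

/-- Lifts over an orthogonal pair are adjacent. -/
def EdgeOK : Prop :=
  ∀ (x : C.X) (m m' y y' : C.X), C.Adj x m → C.Adj m y → C.Adj x m' → C.Adj m' y' →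
    Cfsg.hermForm n F q (C.p y) (C.p y') = 0 → C.Adj y y'

include hF in
theorem edge_of_common (hind : ∀ (x : C.X) (v : Fin n → F), hm v v = 1 → C.Ind x v) {x m m' y y' : C.X}
    (h1 : C.Adj x m) (h3 : C.Adj m y) (h2 : C.Adj x m') (h4 : C.Adj m' y')
    (h : hm (C.p y) (C.p y') = 0) {w : Fin n → F} (hw : hm w w = 1) (hwx : hm w (C.p x) = 0)
    (hwy : hm w (C.p y) = 0) (hwy' : hm w (C.p y') = 0) : C.Adj y y' := by
  obtain ⟨z, hz, hzw⟩ := C.exists_adj hF x hw hwx
  obtain ⟨a, ha, hap⟩ := C.exists_adj hF z (C.p_unit hF y) (by rw [hzw]; exact (herm_comm_zero hF).1 hwy)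
  obtain ⟨b, hb, hbp⟩ := C.exists_adj hF z (C.p_unit hF y') (by rw [hzw]; exact (herm_comm_zero hF).1 hwy')
  rw [hind x _ (C.p_unit hF y) m z y a h1 hz h3 ha rfl hap,
    hind x _ (C.p_unit hF y') m' z y' b h2 hz h4 hb rfl hbp]
  exact C.triangle hF ha hb (by rw [hap, hbp]; exact h)

include hF in
theorem edge_large (h5 : 5 ≤ n) (hind : ∀ (x : C.X) (v : Fin n → F), hm v v = 1 → C.Ind x v) :
    C.EdgeOK := by
  intro x m m' y y' h1 h3 h2 h4 h
  obtain ⟨w, hw, hwy, hwx⟩ := exists_perp hF (by omega)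
    (orth_two hF (C.p_unit hF y) (C.p_unit hF y') h) (C.p x)
  exact C.edge_of_common hF hind h1 h3 h2 h4 h hw hwx (hwy 0) (hwy 1)

include hF in
/-- **The completion.** -/
theorem exists_hom (hind : ∀ (x : C.X) (v : Fin n → F), hm v v = 1 → C.Ind x v) (hedge : C.EdgeOK) :
    ∃ Φ : Cfsg.SU n F q →* G, (∀ k (h : k ∈ St q (ev C.i0 : Fin n → F)), Φ k = C.φ ⟨k, h⟩) ∧ Φ C.τ = C.t := by
  classical
  have hn := C.h4
  -- the section
  have hex : ∀ v : Fin n → F, hm v v = 1 → ∃ m y, C.Adj C.o m ∧ C.Adj m y ∧ C.p y = v := by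
    intro v hv
    obtain ⟨c, hc, hc0, hcv⟩ := exists_perp hF (j := 1) (x := ![C.p C.o]) (by omega)
      (orth_one hF (C.p_unit hF C.o)) v
    obtain ⟨m, hm1, hmc⟩ := C.exists_adj hF C.o hc (hc0 0)
    obtain ⟨y, hy, hyv⟩ := C.exists_adj hF m hv (by rw [hmc]; exact (herm_comm_zero hF).1 hcv)
    exact ⟨m, y, hm1, hy, hyv⟩
  let P : C.X → Prop := fun x => ∃ m, C.Adj C.o m ∧ C.Adj m x
  have hone : ∀ x x', P x → P x' → C.p x = C.p x' → x = x' := by
    rintro x x' ⟨m, h1, h3⟩ ⟨m', h2, h4⟩ e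
    exact hind C.o _ (C.p_unit hF x) m m' x x' h1 h2 h3 h4 rfl e.symm
  have hPo : P C.o := ⟨C.o1, C.adj_base, C.adj_base.symm⟩
  have hPadj : ∀ x y, P x → C.Adj x y → P y := by
    intro x y hx hxy
    obtain ⟨m', y', hm', hy', hy'p⟩ := hex (C.p y) (C.p_unit hF y)
    obtain ⟨m, hm0, hmx⟩ := hx
    have := hedge C.o m m' x y' hm0 hmx hm' hy' (by rw [hy'p]; exact hxy.orth hF)
    rw [C.unique hxy this hy'p.symm]
    exact ⟨m', hm', hy'⟩
  -- every point is joined to the base point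
  let R : C.X → Prop := fun x => Relation.ReflTransGen C.Adj C.o x
  have hRP : ∀ x, R x → P x := fun x hx => by
    induction hx with
    | refl => exact hPo
    | tail _ hab ih => exact hPadj _ _ ih hab
  have hmap : ∀ (a : C.E) x y, Relation.ReflTransGen C.Adj x y →
      Relation.ReflTransGen C.Adj (a • x) (a • y) := fun a x y h => by
    induction h with
    | refl => exact .refl
    | tail _ hab ih => exact ih.tail (hab.smul C a)
  have hsymm : ∀ x y, Relation.ReflTransGen C.Adj x y → Relation.ReflTransGen C.Adj y x := fun x y h => by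
    induction h with
    | refl => exact .refl
    | tail _ hab ih => exact (Relation.ReflTransGen.single (hab.symm C)).trans ih
  have hR : ∀ g : C.E, R (g • C.o) := by
    rintro ⟨g, hg⟩
    induction hg using Subgroup.closure_induction with
    | mem z hz =>
      rcases hz with ⟨k, rfl⟩ | rfl
      · exact (C.gk_o k).symm ▸ (Relation.ReflTransGen.refl : R C.o)
      · exact (Relation.ReflTransGen.single C.adj_base : R C.o1)
    | one => exact (one_smul C.E C.o).symm ▸ (Relation.ReflTransGen.refl : R C.o)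
    | mul a b ha hb iha ihb =>
      rw [show (⟨a * b, mul_mem ha hb⟩ : C.E) = ⟨a, ha⟩ * ⟨b, hb⟩ from rfl, mul_smul]
      exact iha.trans (hmap _ _ _ ihb)
    | inv a ha iha =>
      rw [show (⟨a⁻¹, inv_mem ha⟩ : C.E) = (⟨a, ha⟩ : C.E)⁻¹ from rfl]
      have := hmap (⟨a, ha⟩ : C.E)⁻¹ _ _ iha
      rw [inv_smul_smul] at this
      exact hsymm _ _ this
  have hinj : ∀ x x' : C.X, C.p x = C.p x' → x = x' := fun x x' e => by
    obtain ⟨g, rfl⟩ := C.exists_smul x
    obtain ⟨g', rfl⟩ := C.exists_smul x'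
    exact hone _ _ (hRP _ (hR g)) (hRP _ (hR g')) e
  let π : C.E →* Cfsg.SU n F q := (MonoidHom.fst _ _).comp C.E.subtype
  have hπi : Function.Injective π := by
    rw [injective_iff_map_eq_one]
    intro g (hg : g.1.1 = 1)
    obtain ⟨k, rfl⟩ := (C.fix_o_iff g).1 (hinj _ _ (by rw [p_smul, hg, act_one]))
    have hk : k = 1 := Subtype.ext hg
    rw [hk]
    exact Subtype.ext (map_one C.gr)
  have hπs : Function.Surjective π := by
    intro s
    obtain ⟨m, y, -, -, hy⟩ := hex (act s (ev C.i0)) (by rw [act_herm, herm_ev hF, if_pos rfl])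
    obtain ⟨g, rfl⟩ := C.exists_smul y
    rw [p_smul, p_o] at hy
    have hk : g.1.1⁻¹ * s ∈ St q (ev C.i0 : Fin n → F) := by
      rw [mem_St, act_mul, ← hy, act_inv_act]
    refine ⟨g * C.gk ⟨_, hk⟩, ?_⟩
    show g.1.1 * (g.1.1⁻¹ * s) = s
    rw [mul_inv_cancel_left]
  let e := MulEquiv.ofBijective π ⟨hπi, hπs⟩
  refine ⟨((MonoidHom.snd _ _).comp C.E.subtype).comp e.symm.toMonoidHom, fun k h => ?_, ?_⟩
  · have he : e.symm k = C.gk ⟨k, h⟩ := e.symm_apply_eq.2 rfl
    show (e.symm k).1.2 = _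
    rw [he]; rfl
  · have he : e.symm C.τ = C.T := e.symm_apply_eq.2 rfl
    show (e.symm C.τ).1.2 = _
    rw [he]; rfl

include hF in
theorem exists_hom_large (h5 : 5 ≤ n) {ι2 : Fin 2 → Fin n} (hC2 : C.Comm ι2) (hι2 : ι2 0 = C.i0)
    {ι3 : Fin 3 → Fin n} (hC3 : C.Comm ι3) (hι3 : ι3 0 = C.i0) :
    ∃ Φ : Cfsg.SU n F q →* G, (∀ k (h : k ∈ St q (ev C.i0 : Fin n → F)), Φ k = C.φ ⟨k, h⟩) ∧ Φ C.τ = C.t := by
  have hind : ∀ (x : C.X) (v : Fin n → F), hm v v = 1 → C.Ind x v :=
    fun x v hv => C.ind_large hF h5 hC2 hι2 hC3 hι3 x hv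
  exact C.exists_hom hF hind (C.edge_large hF h5 hind)

end Cov

end CfsgLib.Phan
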