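import Cfsg.Agent.Phan.Vec
import Mathlib.GroupTheory.GroupAction.Quotient
import Mathlib.Logic.Relation

/-!
The covering of the orthogonality graph of unit vectors attached to a point stabiliser and one
edge reversing element.
-/

set_option autoImplicit false
set_option linter.unusedSectionVars false
set_option linter.style.haveILetI false

namespace CfsgLib.Phan

open Matrix CfsgLib.Forms CfsgLib.Unitary

variable {F : Type*} [Field F] [Finite F] {q n : ℕ} (hF : Nat.card F = q ^ 2)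

local notation "hm" => Cfsg.hermForm _ F q

/-- The stabiliser of a vector. -/
def St (q : ℕ) {n : ℕ} (a : Fin n → F) : Subgroup (Cfsg.SU n F q) where
  carrier := {g | act g a = a}
  one_mem' := act_one a
  mul_mem' := fun {g h} (hg : act g a = a) (hh : act h a = a) => by
    show act (g * h) a = a
    rw [act_mul, hh, hg]
  inv_mem' := fun {g} (hg : act g a = a) => act_inv_eq hg

theorem mem_St {a : Fin n → F} {g : Cfsg.SU n F q} : g ∈ St q a ↔ act g a = a := Iff.rfl

include hF in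
/-- An element fixing the other coordinates fixes what is orthogonal to the range. -/
theorem fixes_perp {d : ℕ} {ι : Fin d → Fin n} {g : Cfsg.SU n F q}
    (hg : ∀ j, (∀ i, ι i ≠ j) → act g (ev j) = ev j) {x : Fin n → F}
    (hx : ∀ i, hm x (ev (ι i)) = 0) : act g x = x := by

  classical
  have hz : ∀ j, (∃ i, ι i = j) → x j = 0 := by
    rintro _ ⟨i, rfl⟩
    have := (herm_comm_zero hF).1 (hx i)
    rw [ev, herm_single_left] at this
    exact eq_zero_of_pow_eq_zero this
  have e : x = ∑ j, x j • (ev j : Fin n → F) := by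
    funext k; simp [ev, Pi.single_apply]
  rw [e]
  show suMat g *ᵥ _ = _
  rw [Matrix.mulVec_sum]
  refine Finset.sum_congr rfl fun j _ => ?_
  by_cases hj : ∃ i, ι i = j
  · simp [hz j hj]
  · push Not at hj
    show act g (x j • ev j) = _
    rw [act_smul, hg j hj]

/-- The data of a covering. -/
structure Cov (F : Type*) [Field F] [Finite F] (q n : ℕ) (G : Type*) [Group G] where
  h4 : 4 ≤ n
  /-- the first index -/
  i0 : Fin n
  /-- the second index -/
  i1 : Fin n
  hne : i0 ≠ i1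
  /-- the map of the point stabiliser -/
  φ : St q (ev i0 : Fin n → F) →* G
  /-- the image of the edge reversing element -/
  t : G
  /-- the edge reversing element -/
  τ : Cfsg.SU n F q
  τ0 : act τ (ev i0) = ev i1
  τ1 : act τ (ev i1) = ev i0
  τsq : τ * τ = 1
  /-- an element rotating a triangle together with `τ` -/
  σ : Cfsg.SU n F q
  σ0 : σ ∈ St q (ev i0 : Fin n → F)
  σ1 : Cfsg.hermForm n F q (act (τ * σ) (ev i1)) (ev i0) = 0
  σ3 : (τ * σ) ^ 3 ∈ St q (ev i0 : Fin n → F)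
  H1 : ∀ (k : Cfsg.SU n F q) (h : k ∈ St q (ev i0 : Fin n → F))
    (h' : τ * k * τ ∈ St q (ev i0 : Fin n → F)), t * φ ⟨k, h⟩ * t = φ ⟨τ * k * τ, h'⟩
  H2 : t * t = 1
  H3 : (t * φ ⟨σ, σ0⟩) ^ 3 = φ ⟨(τ * σ) ^ 3, σ3⟩

namespace Cov

variable {G : Type*} [Group G] (C : Cov F q n G)

/-- The graph of the stabiliser. -/
def gr : St q (ev C.i0 : Fin n → F) →* Cfsg.SU n F q × G :=
  (St q (ev C.i0 : Fin n → F)).subtype.prod C.φ

/-- The completion. -/
def E : Subgroup (Cfsg.SU n F q × G) := Subgroup.closure (Set.range C.gr ∪ {(C.τ, C.t)})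

/-- The base stabiliser. -/
def E0 : Subgroup C.E := C.gr.range.subgroupOf C.E

/-- The covering graph. -/
abbrev X : Type _ := C.E ⧸ C.E0

/-- The base point. -/
def o : C.X := ((1 : C.E) : C.X)

/-- The element of the stabiliser in the completion. -/
def gk (k : St q (ev C.i0 : Fin n → F)) : C.E :=
  ⟨C.gr k, Subgroup.subset_closure (Or.inl ⟨k, rfl⟩)⟩

/-- The edge reversing element in the completion. -/
def T : C.E := ⟨(C.τ, C.t), Subgroup.subset_closure (Or.inr rfl)⟩

/-- The second base point. -/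
def o1 : C.X := C.T • C.o

theorem T_sq : C.T * C.T = 1 := Subtype.ext (Prod.ext C.τsq C.H2)

theorem smul_o (g : C.E) : g • C.o = (g : C.X) := by
  rw [o, MulAction.Quotient.smul_coe, smul_eq_mul, mul_one]

theorem fix_o_iff (g : C.E) : g • C.o = C.o ↔ ∃ k, g = C.gk k := by
  rw [C.smul_o, o, QuotientGroup.eq, mul_one, Subgroup.inv_mem_iff, E0, Subgroup.mem_subgroupOf]
  constructor
  · rintro ⟨k, hk⟩; exact ⟨k, Subtype.ext hk.symm⟩
  · rintro ⟨k, rfl⟩; exact ⟨k, rfl⟩

theorem gk_o (k : St q (ev C.i0 : Fin n → F)) : C.gk k • C.o = C.o := (C.fix_o_iff _).2 ⟨k, rfl⟩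

theorem T_o1 : C.T • C.o1 = C.o := by rw [o1, smul_smul, C.T_sq, one_smul]

theorem exists_smul (x : C.X) : ∃ g : C.E, g • C.o = x := by
  obtain ⟨g, rfl⟩ := QuotientGroup.mk_surjective x
  exact ⟨g, C.smul_o g⟩

/-- The covering map. -/
def p : C.X → (Fin n → F) :=
  Quotient.lift (fun g : C.E => act g.1.1 (ev C.i0)) fun a b hab => by
    replace hab := QuotientGroup.leftRel_apply.1 hab
    rw [E0, Subgroup.mem_subgroupOf] at hab
    obtain ⟨k, hk⟩ := hab
    have h1 : (k : Cfsg.SU n F q) = a.1.1⁻¹ * b.1.1 := congrArg Prod.fst hk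
    have h2 := mem_St.1 k.2
    rw [h1, act_mul] at h2
    have := congrArg (act a.1.1) h2
    rw [act_act_inv] at this
    exact this.symm

theorem p_smul (g : C.E) (x : C.X) : C.p (g • x) = act g.1.1 (C.p x) := by
  obtain ⟨h, rfl⟩ := QuotientGroup.mk_surjective x
  exact act_mul g.1.1 h.1.1 (ev C.i0)

theorem p_o : C.p C.o = ev C.i0 := act_one _

theorem p_o1 : C.p C.o1 = ev C.i1 := by rw [o1, p_smul, p_o]; exact C.τ0

include hF in
theorem p_unit (x : C.X) : hm (C.p x) (C.p x) = 1 := by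
  obtain ⟨g, rfl⟩ := C.exists_smul x
  rw [p_smul, act_herm, p_o, herm_ev hF, if_pos rfl]

/-- Adjacency. -/
def Adj (x y : C.X) : Prop := ∃ g : C.E, g • C.o = x ∧ g • C.o1 = y

theorem Adj.symm {x y : C.X} (h : C.Adj x y) : C.Adj y x := by
  obtain ⟨g, h1, h2⟩ := h
  exact ⟨g * C.T, by rw [mul_smul, ← o1, h2], by rw [mul_smul, C.T_o1, h1]⟩

theorem Adj.smul {x y : C.X} (h : C.Adj x y) (g : C.E) : C.Adj (g • x) (g • y) := by
  obtain ⟨f, rfl, rfl⟩ := h
  exact ⟨g * f, mul_smul _ _ _, mul_smul _ _ _⟩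

theorem adj_base : C.Adj C.o C.o1 := ⟨1, one_smul _ _, one_smul _ _⟩

include hF in
theorem Adj.orth {x y : C.X} (h : C.Adj x y) : hm (C.p x) (C.p y) = 0 := by
  obtain ⟨g, rfl, rfl⟩ := h
  rw [p_smul, p_smul, act_herm, p_o, p_o1, herm_ev hF, if_neg C.hne]

theorem fix_o1 {k : St q (ev C.i0 : Fin n → F)} (h : act k.1 (ev C.i1) = ev C.i1) :
    C.gk k • C.o1 = C.o1 := by
  have h' : C.τ * k.1 * C.τ ∈ St q (ev C.i0 : Fin n → F) := by
    rw [mem_St, act_mul, act_mul, C.τ0, h, C.τ1]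
  have e : C.T * C.gk k * C.T = C.gk ⟨_, h'⟩ := Subtype.ext (Prod.ext rfl (C.H1 k.1 k.2 h'))
  have := C.gk_o ⟨_, h'⟩
  rw [← e, mul_smul, mul_smul, ← o1] at this
  have := congrArg (C.T • ·) this
  simpa [smul_smul, ← mul_assoc, C.T_sq, o1] using this

theorem unique {x y y' : C.X} (h : C.Adj x y) (h' : C.Adj x y') (e : C.p y = C.p y') : y = y' := by
  obtain ⟨g, rfl, rfl⟩ := h
  obtain ⟨g', hg, rfl⟩ := h'
  obtain ⟨k, hk⟩ := (C.fix_o_iff (g⁻¹ * g')).1 (by rw [mul_smul, hg, inv_smul_smul])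
  have hg' : g' = g * C.gk k := by rw [← hk, mul_inv_cancel_left]
  subst hg'
  rw [mul_smul] at e ⊢
  rw [C.fix_o1]
  rw [p_smul, p_smul, p_smul, p_o1] at e
  have := congrArg (act g.1.1⁻¹) e
  rw [act_inv_act, act_inv_act] at this
  exact this.symm

include hF in
theorem exists_adj (x : C.X) {v : Fin n → F} (hv : hm v v = 1) (hxv : hm v (C.p x) = 0) :
    ∃ y, C.Adj x y ∧ C.p y = v := by
  obtain ⟨g, rfl⟩ := C.exists_smul x
  have hn := C.h4
  rw [p_smul, p_o] at hxv
  set w := act g.1.1⁻¹ v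
  have hw : hm w w = 1 := by rw [act_herm, hv]
  have hw0 : hm w (ev C.i0) = 0 := by
    rw [← act_herm g.1.1, act_act_inv]; exact hxv
  obtain ⟨k, hk⟩ := exists_ext hF (ι := ![C.i0, C.i1])
    (fun a b e => by fin_cases a <;> fin_cases b <;> simp [C.hne, C.hne.symm] at e ⊢) (by omega)
    (orth_two hF (show hm (ev C.i0 : Fin n → F) (ev C.i0) = 1 by rw [herm_ev hF, if_pos rfl]) hw
      ((herm_comm_zero hF).1 hw0))
  have hk0 : k ∈ St q (ev C.i0 : Fin n → F) := hk 0
  refine ⟨(g * C.gk ⟨k, hk0⟩) • C.o1, ⟨g * C.gk ⟨k, hk0⟩, by rw [mul_smul, gk_o], rfl⟩, ?_⟩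
  rw [mul_smul, p_smul, p_smul, p_o1]
  show act g.1.1 (act k (ev C.i1)) = v
  rw [show act k (ev C.i1) = w from hk 1, act_act_inv]

include hF in
/-- Triangles. -/
theorem triangle {x y z : C.X} (hy : C.Adj x y) (hz : C.Adj x z) (h : hm (C.p y) (C.p z) = 0) :
    C.Adj y z := by
  have hn := C.h4
  obtain ⟨g, rfl, rfl⟩ := hy
  rw [show z = g • (g⁻¹ • z) from (smul_inv_smul g z).symm] at h hz ⊢
  set w := g⁻¹ • z
  replace hz : C.Adj C.o w := by have := hz.smul C g⁻¹; rwa [inv_smul_smul, inv_smul_smul] at this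
  rw [p_smul, p_smul, act_herm, p_o1] at h
  refine Adj.smul C ?_ g
  set ω : C.E := C.T * C.gk ⟨C.σ, C.σ0⟩
  have hωo : ω • C.o = C.o1 := by rw [mul_smul, gk_o]; rfl
  have h3 : ω ^ 3 • C.o = C.o :=
    (C.fix_o_iff _).2 ⟨⟨_, C.σ3⟩, Subtype.ext (Prod.ext rfl C.H3)⟩
  set r := ω • C.o1
  have hr1 : C.Adj C.o1 r := by have := C.adj_base.smul C ω; rwa [hωo] at this
  have hr0 : C.Adj C.o r := by
    have hω : ω • r = C.o := by
      have e3 : ω ^ 3 = ω * (ω * ω) := pow_three ω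
      rw [e3, ← smul_smul, ← smul_smul ω ω, hωo] at h3
      exact h3
    have := hr1.smul C ω
    rw [hω] at this
    exact this.symm
  have hpr : C.p r = act (C.τ * C.σ) (ev C.i1) := by rw [p_smul, p_o1]; rfl
  have hr2 : hm (C.p r) (ev C.i1) = 0 := by
    rw [← C.p_o1]; exact (herm_comm_zero hF).1 (hr1.orth hF)
  have hw0 : hm (ev C.i0 : Fin n → F) (C.p w) = 0 := by rw [← C.p_o]; exact hz.orth hF
  have e0 : hm (ev C.i0 : Fin n → F) (ev C.i0) = 1 := by rw [herm_ev hF, if_pos rfl]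
  have e1 : hm (ev C.i1 : Fin n → F) (ev C.i1) = 1 := by rw [herm_ev hF, if_pos rfl]
  have e01 : hm (ev C.i0 : Fin n → F) (ev C.i1) = 0 := by rw [herm_ev hF, if_neg C.hne]
  obtain ⟨k, hk⟩ := exists_move hF (k := 3) (by omega)
    (orth_three hF e0 e1 (C.p_unit hF r) e01
      ((herm_comm_zero hF).1 (by rw [hpr]; exact C.σ1)) ((herm_comm_zero hF).1 hr2))
    (orth_three hF e0 e1 (C.p_unit hF w) e01 hw0 h)
  have hk0 : k ∈ St q (ev C.i0 : Fin n → F) := hk 0
  have hmove : C.gk ⟨k, hk0⟩ • r = w := by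
    refine C.unique (x := C.o) ?_ hz ?_
    · have := hr0.smul C (C.gk ⟨k, hk0⟩); rwa [gk_o] at this
    · rw [p_smul]; exact hk 2
  have := hr1.smul C (C.gk ⟨k, hk0⟩)
  rwa [C.fix_o1 (k := ⟨k, hk0⟩) (hk 1), hmove] at this

/-- Independence of the lift over a vector of the path of length two from `x`. -/
def Ind (x : C.X) (v : Fin n → F) : Prop :=
  ∀ m m' y y' : C.X, C.Adj x m → C.Adj x m' → C.Adj m y → C.Adj m' y' → C.p y = v → C.p y' = v → y = y'

include hF in
theorem ind_orth {x : C.X} {v : Fin n → F} (hv : hm v v = 1) (h : hm v (C.p x) = 0) : C.Ind x v := by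
  intro m m' y y' hm1 hm2 hy hy' e e'
  obtain ⟨z, hz, hzv⟩ := C.exists_adj hF x hv h
  have key : ∀ {m y}, C.Adj x m → C.Adj m y → C.p y = v → y = z := fun {m y} hxm hmy e => by
    refine C.unique hmy (C.triangle hF hxm hz ?_) (e.trans hzv.symm)
    rw [hzv, ← e]; exact hmy.orth hF
  rw [key hm1 hy e, key hm2 hy' e']

include hF in
/-- A common neighbour joins two paths. -/
theorem same_of_common {x m m' y y' : C.X} (h1 : C.Adj x m) (h2 : C.Adj x m') (h3 : C.Adj m y)
    (h4 : C.Adj m' y') (e : C.p y = C.p y') {w : Fin n → F} (hw : hm w w = 1)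
    (hwx : hm w (C.p x) = 0) (hwm : hm w (C.p m) = 0) (hwm' : hm w (C.p m') = 0)
    (hwy : hm w (C.p y) = 0) : y = y' := by
  obtain ⟨z, hz, hzw⟩ := C.exists_adj hF x hw hwx
  have key : ∀ {m y : C.X}, C.Adj x m → C.Adj m y → hm w (C.p m) = 0 → hm w (C.p y) = 0 → C.Adj z y :=
    fun {m y} hxm hmy hwm hwy => by
      have hmz : C.Adj m z := C.triangle hF hxm hz (by rw [hzw]; exact (herm_comm_zero hF).1 hwm)
      exact C.triangle hF hmz hmy (by rw [hzw]; exact hwy)
  exact C.unique (key h1 h3 hwm hwy) (key h2 h4 hwm' (e ▸ hwy)) e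

include hF in
/-- Adjacent middle points join two paths. -/
theorem same_of_adj {x m m' y y' : C.X} (h1 : C.Adj x m) (h2 : C.Adj x m') (h3 : C.Adj m y)
    (h4 : C.Adj m' y') (e : C.p y = C.p y') (h : hm (C.p m) (C.p m') = 0) : y = y' := by
  have hmm : C.Adj m m' := C.triangle hF h1 h2 h
  exact C.unique (C.triangle hF hmm h3 (by rw [e]; exact h4.orth hF)) h4 e

/-- Commuting blocks: the coordinates in the range of `ι` against the others. -/
def Comm {d : ℕ} (ι : Fin d → Fin n) : Prop :=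
  Function.Injective ι ∧ 2 ≤ d ∧ d + 2 ≤ n ∧ (∃ i, ι i = C.i0) ∧ (∀ i, ι i ≠ C.i1) ∧
    ∀ (g u : Cfsg.SU n F q) (hg : C.τ * g * C.τ ∈ St q (ev C.i0 : Fin n → F))
      (hu : u ∈ St q (ev C.i0 : Fin n → F)),
      (∀ j, (∀ i, ι i ≠ j) → act g (ev j) = ev j) → (∀ i, act u (ev (ι i)) = ev (ι i)) →
        Commute (C.t * C.φ ⟨_, hg⟩ * C.t) (C.φ ⟨u, hu⟩)

include hF in
theorem block_base {d : ℕ} {ι : Fin d → Fin n} (hC : C.Comm ι) {v : Fin n → F} (hv : hm v v = 1)
    (hvI : ∀ j, (∀ i, ι i ≠ j) → hm v (ev j) = 0) :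
    ∃ y₀ : C.X, ∀ m y : C.X, C.Adj C.o m → C.Adj m y → (∀ i, hm (C.p m) (ev (ι i)) = 0) →
      C.p y = v → y = y₀ := by
  classical
  obtain ⟨hι, hd, hdn, ⟨i₀, hi₀⟩, hi1, hcomm⟩ := hC
  -- the complement
  set S : Finset (Fin n) := Finset.univ \ Finset.univ.image ι
  have hS : S.card = n - d := by
    rw [Finset.card_sdiff, Finset.inter_univ, Finset.card_univ, Fintype.card_fin,
      Finset.card_image_of_injective _ hι, Finset.card_univ, Fintype.card_fin]
  have hSmem : ∀ j, j ∈ S ↔ ∀ i, ι i ≠ j := fun j => by simp [S]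
  let κ : Fin (n - d) → Fin n := fun i => S.orderEmbOfFin hS i
  have hκ : ∀ i j, ι j ≠ κ i := fun i => (hSmem _).1 (Finset.orderEmbOfFin_mem S hS i)
  have hκsurj : ∀ j, (∀ i, ι i ≠ j) → ∃ i, κ i = j := fun j hj => by
    have : j ∈ Set.range (S.orderEmbOfFin hS) := by
      rw [Finset.range_orderEmbOfFin]; exact (hSmem j).2 hj
    exact this
  have hκ0 : ∀ i, C.i0 ≠ κ i := fun i => hi₀ ▸ hκ i i₀
  have hinj : Function.Injective (Fin.cons C.i0 κ : Fin (n - d + 1) → Fin n) :=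
    Fin.cons_injective_iff.2 ⟨fun ⟨i, hi⟩ => hκ0 i hi.symm, (S.orderEmbOfFin hS).injective⟩
  have horth : Orth q (Fin.cons v fun i => (ev (κ i) : Fin n → F) : Fin (n - d + 1) → Fin n → F) := by
    intro a b
    induction a using Fin.cases with
    | zero =>
      induction b using Fin.cases with
      | zero => simpa using hv
      | succ b => simp [hvI _ (fun i => hκ b i), (Fin.succ_ne_zero b).symm]
    | succ a =>
      induction b using Fin.cases with
      | zero => simp [(herm_comm_zero hF).1 (hvI _ (fun i => hκ a i)), Fin.succ_ne_zero a]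
      | succ b =>
        simp only [Fin.cons_succ, Fin.succ_inj]
        exact orth_ev hF (S.orderEmbOfFin hS).injective a b
  obtain ⟨g, hg⟩ := exists_ext hF hinj (by omega) horth
  have hg0 : act g (ev C.i0) = v := by simpa using hg 0
  have hgS : ∀ j, (∀ i, ι i ≠ j) → act g (ev j) = ev j := fun j hj => by
    obtain ⟨i, rfl⟩ := hκsurj j hj
    simpa using hg i.succ
  have hgτ : C.τ * g * C.τ ∈ St q (ev C.i0 : Fin n → F) := by
    rw [mem_St, act_mul, act_mul, C.τ0, hgS _ hi1, C.τ1]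
  set gh : C.E := C.T * C.gk ⟨_, hgτ⟩ * C.T with hgh
  have hgh1 : gh.1.1 = g := by
    show C.τ * (C.τ * g * C.τ) * C.τ = g
    simp only [← mul_assoc, C.τsq, one_mul]
    rw [mul_assoc, C.τsq, mul_one]
  refine ⟨gh • C.o, fun m y hm1 hm2 hperp e => ?_⟩
  -- move the middle point to the base
  have hι' : Function.Injective (Fin.cons C.i1 ι : Fin (d + 1) → Fin n) :=
    Fin.cons_injective_iff.2 ⟨fun ⟨i, hi⟩ => hi1 i hi, hι⟩
  have horth' : Orth q (Fin.cons (C.p m) fun i => (ev (ι i) : Fin n → F) : Fin (d + 1) → Fin n → F) := by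
    intro a b
    induction a using Fin.cases with
    | zero =>
      induction b using Fin.cases with
      | zero => simpa using C.p_unit hF m
      | succ b => simp [hperp, (Fin.succ_ne_zero b).symm]
    | succ a =>
      induction b using Fin.cases with
      | zero => simp [(herm_comm_zero hF).1 (hperp a), Fin.succ_ne_zero a]
      | succ b =>
        simp only [Fin.cons_succ, Fin.succ_inj]
        exact orth_ev hF hι a b
  obtain ⟨u, hu⟩ := exists_ext hF hι' (by omega) horth'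
  have huI : ∀ i, act u (ev (ι i)) = ev (ι i) := fun i => by simpa using hu i.succ
  have hu0 : u ∈ St q (ev C.i0 : Fin n → F) := hi₀ ▸ huI i₀
  have hu1 : act u (ev C.i1) = C.p m := by simpa using hu 0
  have hm' : C.gk ⟨u, hu0⟩ • C.o1 = m := by
    refine C.unique (x := C.o) ?_ hm1 ?_
    · have := C.adj_base.smul C (C.gk ⟨u, hu0⟩); rwa [gk_o] at this
    · rw [p_smul, p_o1]; exact hu1
  -- the two elements commute
  have hgu : g * u = u * g := by
    refine act_eq_of_basis fun j => ?_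
    by_cases hj : ∀ i, ι i ≠ j
    · rw [act_mul, act_mul, hgS j hj]
      have : ∀ i, hm (act u (ev j)) (ev (ι i)) = 0 := fun i => by
        rw [← huI i, act_herm, herm_ev hF, if_neg (hj i).symm]
      exact fixes_perp hF hgS this
    · push Not at hj
      obtain ⟨i, rfl⟩ := hj
      rw [act_mul, act_mul, huI i]
      refine (fixes_perp hF (ι := κ) (g := u) (fun j hj => ?_) fun k => ?_).symm
      · by_cases hj' : ∀ i, ι i ≠ j
        · obtain ⟨k, hk⟩ := hκsurj j hj'; exact absurd hk (hj k)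
        · push Not at hj'; obtain ⟨i', rfl⟩ := hj'; exact huI i'
      · show hm (act g (ev (ι i))) (ev (κ k)) = 0
        rw [← hgS (κ k) (fun i => hκ k i), act_herm, herm_ev hF, if_neg (hκ k i)]
  have hc : gh * C.gk ⟨u, hu0⟩ = C.gk ⟨u, hu0⟩ * gh :=
    Subtype.ext (Prod.ext (by
      show gh.1.1 * u = u * gh.1.1
      rw [hgh1, hgu]) (hcomm g u hgτ hu0 hgS huI))
  have hfix : gh • C.o1 = C.o1 := by
    rw [hgh, mul_smul, C.T_o1, mul_smul, gk_o]; rfl
  refine (C.unique (x := m) (y := C.gk ⟨u, hu0⟩ • gh • C.o) ?_ hm2 ?_).symm.trans ?_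
  · have := (C.adj_base.symm.smul C gh).smul C (C.gk ⟨u, hu0⟩)
    rwa [hfix, hm'] at this
  · rw [smul_smul, ← hc, mul_smul, gk_o, p_smul, p_o, hgh1, hg0, e]
  · rw [smul_smul, ← hc, mul_smul, gk_o]
end Cov

end CfsgLib.Phan
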