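import Cfsg.Agent.Phan.Complete

/-!
The covering is trivial in dimension four for fields with at least sixteen elements.
-/

set_option autoImplicit false
set_option linter.unusedSectionVars false
set_option linter.style.haveILetI false

namespace CfsgLib.Phan

open Matrix CfsgLib.Forms CfsgLib.Unitary

variable {F : Type*} [Field F] [Finite F] {q n : ℕ} (hF : Nat.card F = q ^ 2)

local notation "hm" => Cfsg.hermForm _ F q

include hF in
/-- An element of the fixed field outside a small set. -/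
theorem exists_fixed_avoid (S : Finset F) (hS : S.card < q) : ∃ K : F, K ^ q = K ∧ K ∉ S := by
  classical
  haveI := Fintype.ofFinite F
  by_contra hc
  push Not at hc
  let f : Option (powMonoidHom (q - 1) : Fˣ →* Fˣ).ker → F := fun o => o.elim 0 fun u => (u.1 : F)
  have hinj : Function.Injective f := by
    rintro (_ | u) (_ | u') e
    · rfl
    · exact absurd e.symm u'.1.ne_zero
    · exact absurd e u.1.ne_zero
    · exact congrArg some (Subtype.ext (Units.ext e))
  have hq := two_le_q hF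
  have hfix : ∀ o, f o ∈ S := by
    rintro (_ | u)
    · exact hc 0 (zero_pow (by omega))
    · refine hc _ ?_
      have h1 : u.1 ^ (q - 1) = 1 := MonoidHom.mem_ker.1 u.2
      show (u.1 : F) ^ q = u.1
      have h2 : u.1 ^ q = u.1 := by
        calc u.1 ^ q = u.1 ^ (q - 1) * u.1 := by rw [← pow_succ, Nat.sub_add_cancel (by omega)]
          _ = u.1 := by rw [h1, one_mul]
      rw [← Units.val_pow_eq_pow_val, h2]
  have h := Nat.card_le_card_of_injective (fun o => (⟨f o, hfix o⟩ : S))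
    fun a b e => hinj (congrArg Subtype.val e)
  rw [Finite.card_option, IsCyclic.card_powMonoidHom_ker, card_units_eq hF, Nat.gcd_mul_left_left,
    Nat.card_eq_fintype_card (α := S), Fintype.card_coe] at h
  omega

include hF in
theorem norm_conj (a : F) : (a ^ q) ^ (q + 1) = a ^ (q + 1) := by
  rw [← pow_mul, mul_comm, pow_mul, norm_fixed hF]

include hF in
theorem norm_herm_swap {x y : Fin n → F} : hm x y ^ (q + 1) = hm y x ^ (q + 1) := by
  rw [herm_swap hF y x, norm_conj hF]

include hF in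
/-- An isotropic partner. -/
theorem exists_hyp_partner {m : ℕ} {P : Fin m → Fin n → F} {r : Fin n → F} (hr0 : hm r r = 0)
    (hrP : ∀ i, hm r (P i) = 0) (hr : r ∉ Submodule.span F (Set.range P)) :
    ∃ r' : Fin n → F, hm r' r' = 0 ∧ hm r r' = 1 ∧ ∀ i, hm r' (P i) = 0 := by
  obtain ⟨y, hyP, hyr⟩ := exists_pair_of_not_mem hF hr
  set y1 := (hm y r)⁻¹ • y with hy1
  have h1 : hm y1 r = 1 := by rw [hy1, herm_smul_left, inv_mul_cancel₀ hyr]
  have h1' : hm r y1 = 1 := by rw [herm_swap hF y1 r, h1, one_pow]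
  clear_value y1
  obtain ⟨l, hl⟩ := exists_trace_eq hF (μ := -hm y1 y1) (by rw [frob_neg hF, herm_self_fixed hF])
  refine ⟨y1 + l • r, ?_, ?_, fun i => ?_⟩
  · simp only [herm_add_left, herm_add_right hF, herm_smul_left, herm_smul_right hF, hr0, h1, h1']
    linear_combination hl
  · rw [herm_add_right hF, herm_smul_right hF, hr0, h1', mul_zero, add_zero]
  · rw [herm_add_left, herm_smul_left, hrP i, hy1, herm_smul_left, hyP i]; ring

include hF in
/-- A vector orthogonal to a full hyperbolic frame is zero. -/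
theorem eq_zero_of_perp_frame {d b c r r' : Fin 4 → F} (hb : hm b b = 1) (hc : hm c c = 1)
    (hbc : hm b c = 0) (hr : hm r r = 0) (hr' : hm r' r' = 0) (hrr : hm r r' = 1) (hrb : hm r b = 0)
    (hrc : hm r c = 0) (hr'b : hm r' b = 0) (hr'c : hm r' c = 0) (h1 : hm d b = 0) (h2 : hm d c = 0)
    (h3 : hm d r = 0) (h4 : hm d r' = 0) : d = 0 := by
  obtain ⟨t, ht⟩ := exists_trace_eq hF (μ := (1 : F)) (one_pow q)
  have hr'r : hm r' r = 1 := by rw [herm_swap hF r r', hrr, one_pow]
  set m1 := r' + t • r with hm1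
  have h11 : hm m1 m1 = 1 := by
    simp only [hm1, herm_add_left, herm_add_right hF, herm_smul_left, herm_smul_right hF, hr, hr', hrr, hr'r]
    linear_combination ht
  have hr1 : hm r m1 = 1 := by
    simp [hm1, herm_add_right hF, herm_smul_right hF, hr, hrr]
  have h1r : hm m1 r = 1 := by rw [herm_swap hF r m1, hr1, one_pow]
  set m2 := r - m1 with hm2
  have h22 : hm m2 m2 = -1 := by
    simp only [hm2, herm_sub_left hF, herm_sub_right hF, hr, h11, hr1, h1r]; ring
  have h21 : hm m2 m1 = 0 := by rw [hm2, herm_sub_left hF, hr1, h11, sub_self]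
  obtain ⟨s, hs⟩ := exists_unit_mul hF (n := 4) (z := m2) (by rw [h22]; exact neg_ne_zero.2 one_ne_zero)
  have hm1b : hm m1 b = 0 := by simp [hm1, herm_add_left, herm_smul_left, hr'b, hrb]
  have hm1c : hm m1 c = 0 := by simp [hm1, herm_add_left, herm_smul_left, hr'c, hrc]
  have ho := orth_four hF hb hc h11 hs hbc ((herm_comm_zero hF).1 hm1b)
    (by rw [herm_smul_right hF, (herm_comm_zero hF).1 (show hm m2 b = 0 by
      rw [hm2, herm_sub_left hF, hrb, hm1b, sub_self]), mul_zero])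
    ((herm_comm_zero hF).1 hm1c)
    (by rw [herm_smul_right hF, (herm_comm_zero hF).1 (show hm m2 c = 0 by
      rw [hm2, herm_sub_left hF, hrc, hm1c, sub_self]), mul_zero])
    (by rw [herm_smul_right hF, (herm_comm_zero hF).1 h21, mul_zero])
  have hd1 : hm d m1 = 0 := by simp [hm1, herm_add_right hF, herm_smul_right hF, h3, h4]
  have hperp : ∀ i, hm (![b, c, m1, s • m2] i) d = 0 := fun i => by
    rw [herm_comm_zero hF]
    fin_cases i
    exacts [h1, h2, hd1, by
      show hm d (s • m2) = 0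
      rw [herm_smul_right hF, hm2, herm_sub_right hF, h3, hd1, sub_self, mul_zero]]
  have htop := (orth_indep hF ho).span_eq_top_of_card_eq_finrank' (by simp)
  refine uForm_nondeg hF 4 d fun x => ?_
  rw [uForm_h]
  have hx : x ∈ Submodule.span F (Set.range ![b, c, m1, s • m2]) := htop ▸ Submodule.mem_top
  induction hx using Submodule.span_induction with
  | mem z hz => obtain ⟨i, rfl⟩ := hz; exact hperp i
  | zero => exact herm_zero_left hF _
  | add z z' _ _ hz hz' => rw [herm_add_left, hz, hz', add_zero]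
  | smul a z _ hz => rw [herm_smul_left, hz, mul_zero]

include hF in
/-- The element needed for the field of sixteen elements. -/
theorem exists_trace_norm (hq : q = 4) {d : F} (hd : d ^ q = d) (h0 : d ≠ 0) (h1 : d ≠ 1) :
    ∃ s : F, s + s ^ q = 1 ∧ s ^ (q + 1) = d := by
  subst hq
  haveI := Fintype.ofFinite F
  have h2 : (2 : F) = 0 := by
    have h16 : ((16 : ℕ) : F) = 0 := by
      have h := FiniteField.cast_card_eq_zero F
      rwa [← Nat.card_eq_fintype_card, hF] at h
    have : (2 : F) ^ 4 = 0 := by rw [← h16]; norm_num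
    exact eq_zero_of_pow_eq_zero this
  have hd3 : d ^ 2 + d + 1 = 0 := by
    have : d * ((d - 1) * (d ^ 2 + d + 1)) = 0 := by linear_combination hd
    rcases mul_eq_zero.1 this with e | e
    · exact absurd e h0
    rcases mul_eq_zero.1 e with e' | e'
    · exact absurd (sub_eq_zero.1 e') h1
    · exact e'
  obtain ⟨x, hx⟩ := exists_trace_eq hF (μ := (1 : F)) (one_pow 4)
  set D := x ^ (4 + 1)
  have hD : D = x + x ^ 2 := by
    show x ^ 5 = _
    linear_combination x * hx - x ^ 2 * h2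
  have hD2 : D ^ 2 + D + 1 = 0 := by
    rw [hD]; linear_combination hx + (x ^ 2 + x ^ 3 + 1) * h2
  have key : (D - d) * (D + d + 1) = 0 := by linear_combination hD2 - hd3
  rcases mul_eq_zero.1 key with e | e
  · exact ⟨x, hx, sub_eq_zero.1 e⟩
  · refine ⟨x ^ 2, ?_, ?_⟩
    · calc x ^ 2 + (x ^ 2) ^ 4 = (x + x ^ 4) ^ 2 - 2 * x ^ 5 := by ring
        _ = 1 := by rw [hx, h2]; ring
    · calc (x ^ 2) ^ (4 + 1) = D ^ 2 := by ring
        _ = d := by linear_combination hD2 - e - (d + 0) * 0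

namespace Cov

variable {G : Type*} [Group G] (C : Cov F q n G)

include hF in
/-- The lifts through two middle points agree: one admissible parameter. -/
theorem link (h4 : n = 4) {ι2 : Fin 2 → Fin n} (hC2 : C.Comm ι2) (hι2 : ι2 0 = C.i0) (hq : 4 ≤ q)
    {x m m' y y' : C.X} (h1 : C.Adj x m) (h2 : C.Adj x m') (h3 : C.Adj m y) (h3' : C.Adj m' y')
    (eyy : C.p y = C.p y') {κ : F} {ρ ρ' : Fin n → F} (ha : C.p x = κ • C.p y + ρ)
    (hκ : κ ^ (q + 1) = 1) (hρρ : hm ρ ρ = 0) (hρb : hm ρ (C.p y) = 0) (hρc : hm ρ (C.p m) = 0)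
    (hρ'ρ' : hm ρ' ρ' = 0) (hρρ' : hm ρ ρ' = 1) (hρ'b : hm ρ' (C.p y) = 0) (hρ'c : hm ρ' (C.p m) = 0)
    {ζ l : F} (hζ : ζ ^ (q + 1) = 1) (hc' : C.p m' = ζ • C.p m + l • ρ) {Z : F} (hZf : Z ^ q = Z)
    (hZ0 : Z ≠ 0) (hZ1 : Z + 1 ≠ 0) (hZ2 : Z * l ^ (q + 1) ≠ 1) (hZ3 : Z ≠ Z * l ^ (q + 1) - 1) :
    y = y' := by
  classical
  have hn : 4 ≤ n := h4 ▸ le_rfl
  set a := C.p x
  set b := C.p y with hb_def
  set c := C.p m with hc_def
  have hb : hm b b = 1 := C.p_unit hF y
  have hc : hm c c = 1 := C.p_unit hF m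
  have hcb : hm c b = 0 := h3.orth hF
  have hbc : hm b c = 0 := (herm_comm_zero hF).1 hcb
  have hbρ : hm b ρ = 0 := (herm_comm_zero hF).1 hρb
  have hcρ : hm c ρ = 0 := (herm_comm_zero hF).1 hρc
  have hbρ' : hm b ρ' = 0 := (herm_comm_zero hF).1 hρ'b
  have hcρ' : hm c ρ' = 0 := (herm_comm_zero hF).1 hρ'c
  have hρ'ρ : hm ρ' ρ = 1 := by rw [herm_swap hF ρ ρ', hρρ', one_pow]
  obtain ⟨z, hz⟩ := exists_norm_eq hF hZf
  have hz0 : z ≠ 0 := fun e => hZ0 (by rw [← hz, e, zero_pow (by omega)])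
  obtain ⟨t, ht⟩ := exists_trace_eq hF (μ := (1 : F)) (one_pow q)
  set X := t / z ^ q with hX
  have hX1 : X * z ^ q = t := div_mul_cancel₀ t (pow_ne_zero _ hz0)
  have hX2 : X ^ q * z = t ^ q := by rw [← hX1, mul_pow, pow_q_q hF]
  have hzz : z * z ^ q = Z := by rw [← pow_succ', hz]
  have hll : l * l ^ q = l ^ (q + 1) := (pow_succ' l q).symm
  have hζζ : ζ * ζ ^ q = 1 := by rw [← pow_succ', hζ]
  have hκκ : κ * κ ^ q = 1 := by rw [← pow_succ', hκ]
  set γ := z ^ q * l ^ q * ζ with hγ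
  have hγγ : γ * γ ^ q = Z * l ^ (q + 1) := by
    rw [hγ, mul_pow, mul_pow, pow_q_q hF, pow_q_q hF]
    linear_combination (l * l ^ q * ζ * ζ ^ q) * hzz + (Z * ζ * ζ ^ q) * hll + (Z * l ^ (q + 1)) * hζζ
  -- the pole and the two companions
  set P := X • ρ + z • ρ' with hP
  set Y0 := X ^ q • ρ - z ^ q • ρ' with hY0
  set Y0' := Y0 + γ • c with hY0'
  have hPP : hm P P = 1 := by
    simp only [hP, herm_add_left, herm_add_right hF, herm_smul_left, herm_smul_right hF, hρρ, hρρ',
      hρ'ρ, hρ'ρ']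
    linear_combination hX1 + hX2 + ht
  have hYY : hm Y0 Y0 = -1 := by
    simp only [hY0, herm_sub_left hF, herm_sub_right hF, herm_smul_left, herm_smul_right hF, hρρ,
      hρρ', hρ'ρ, hρ'ρ', pow_q_q hF]
    linear_combination (-1 : F) * hX1 - hX2 - ht
  have hY0c : hm Y0 c = 0 := by simp [hY0, herm_sub_left hF, herm_smul_left, hρc, hρ'c]
  have hY0b : hm Y0 b = 0 := by simp [hY0, herm_sub_left hF, herm_smul_left, hρb, hρ'b]
  have hY0P : hm Y0 P = 0 := by
    simp only [hY0, hP, herm_sub_left hF, herm_add_right hF, herm_smul_left, herm_smul_right hF, hρρ,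
      hρρ', hρ'ρ, hρ'ρ']
    ring
  have hcY0 : hm c Y0 = 0 := (herm_comm_zero hF).1 hY0c
  have hcP : hm c P = 0 := by simp [hP, herm_add_right hF, herm_smul_right hF, hcρ, hcρ']
  have hbP : hm b P = 0 := by simp [hP, herm_add_right hF, herm_smul_right hF, hbρ, hbρ']
  have hY'Y' : hm Y0' Y0' = Z * l ^ (q + 1) - 1 := by
    simp only [hY0', herm_add_left, herm_add_right hF, herm_smul_left, herm_smul_right hF, hYY, hY0c,
      hcY0, hc]
    linear_combination hγγ
  have hY'b : hm Y0' b = 0 := by simp [hY0', herm_add_left, herm_smul_left, hY0b, hcb]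
  have hY'P : hm Y0' P = 0 := by simp [hY0', herm_add_left, herm_smul_left, hY0P, hcP]
  have hY'c' : hm Y0' (C.p m') = 0 := by
    rw [hc']
    simp only [hY0', hY0, herm_add_left, herm_sub_left hF, herm_add_right hF, herm_smul_left,
      herm_smul_right hF, hρρ, hρ'ρ, hρc, hρ'c, hcρ, hc]
    rw [hγ]
    linear_combination (z ^ q * l ^ q) * hζζ
  obtain ⟨δ, hδ⟩ := exists_norm_eq hF (μ := (-1 : F)) (by rw [frob_neg hF, one_pow])
  have hne : Z * l ^ (q + 1) - 1 ≠ 0 := sub_ne_zero.2 hZ2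
  obtain ⟨δ', hδ'⟩ := exists_unit_mul hF (n := n) (z := Y0') (by rw [hY'Y']; exact hne)
  rw [herm_smul_self hF, hY'Y'] at hδ'
  set u := δ • Y0 with hu
  set u' := δ' • Y0' with hu'
  have huu : hm u u = 1 := by rw [hu, herm_smul_self hF, hδ, hYY]; ring
  have huu' : hm u' u' = 1 := by rw [hu', herm_smul_self hF, hY'Y', hδ']
  -- the norms of the two inner products with the base vector
  have eY : hm Y0 a = -(z ^ q) := by
    rw [ha]
    simp [hY0, herm_sub_left hF, herm_add_right hF, herm_smul_left, herm_smul_right hF, hρρ, hρ'ρ, hρb,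
      hρ'b]
  have eY' : hm Y0' a = -(z ^ q) := by
    rw [hY0', herm_add_left, eY, herm_smul_left, ha, herm_add_right hF, herm_smul_right hF, hcb, hcρ]
    ring
  have hNz : (-(z ^ q)) ^ (q + 1) = Z := by
    rw [pow_succ, frob_neg hF, pow_q_q hF]
    linear_combination hzz
  have hau : hm a u ^ (q + 1) = -Z := by
    rw [norm_herm_swap hF, hu, herm_smul_left, mul_pow, hδ, eY, hNz]
    ring
  have hau' : hm a u' ^ (q + 1) * (Z * l ^ (q + 1) - 1) = Z := by
    rw [norm_herm_swap hF, hu', herm_smul_left, mul_pow, eY', hNz]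
    linear_combination Z * hδ'
  -- the auxiliary point
  obtain ⟨K, hKf, hKS⟩ := exists_fixed_avoid hF
    ({1, 1 + Z, 1 - hm a u' ^ (q + 1)} : Finset F)
    (lt_of_le_of_lt Finset.card_le_three (by omega))
  simp only [Finset.mem_insert, Finset.mem_singleton, not_or] at hKS
  obtain ⟨hK1, hK2, hK3⟩ := hKS
  have hZ1f : (1 + Z) ^ q = 1 + Z := by rw [frob_add hF, one_pow, hZf]
  have h1Z : 1 + Z ≠ 0 := by rwa [add_comm]
  obtain ⟨A, hA⟩ := exists_norm_eq hF (μ := K / (1 + Z) ^ 2)
    (by rw [div_pow, ← pow_mul, mul_comm, pow_mul, hZ1f, hKf])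
  obtain ⟨B, hB⟩ := exists_norm_eq hF (μ := 1 / (1 + Z) - A ^ (q + 1))
    (by rw [frob_sub hF, div_pow, one_pow, hZ1f, norm_fixed hF])
  set α := (A * z + B * κ) ^ q with hα
  set β := (A * κ ^ q - B * z ^ q) ^ q with hβ
  have hαq : α ^ q = A * z + B * κ := pow_q_q hF _
  have hβq : β ^ q = A * κ ^ q - B * z ^ q := pow_q_q hF _
  set w := α • P + β • b with hw
  have hPb : hm P b = 0 := (herm_comm_zero hF).1 hbP
  have hww : hm w w = 1 := by
    simp only [hw, herm_add_left, herm_add_right hF, herm_smul_left, herm_smul_right hF, hPP, hPb,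
      hbP, hb, hαq, hβq]
    rw [hα, hβ, frob_add hF, frob_sub hF, mul_pow, mul_pow, mul_pow, mul_pow, pow_q_q hF, pow_q_q hF]
    have hA' : A * A ^ q = K / (1 + Z) ^ 2 := by rw [← pow_succ', hA]
    have hB' : B * B ^ q = 1 / (1 + Z) - K / (1 + Z) ^ 2 := by rw [← pow_succ', hB, hA]
    have e : (1 / (1 + Z)) * (Z + 1) = 1 := by field_simp; ring
    linear_combination (Z + 1) * hA' + (Z + 1) * hB' + (A * A ^ q + B * B ^ q) * hzz +
      (A * A ^ q + B * B ^ q) * hκκ + e
  have hwu : hm w u = 0 := by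
    simp [hw, hu, herm_add_left, herm_smul_left, herm_smul_right hF, (herm_comm_zero hF).1 hY0P,
      (herm_comm_zero hF).1 hY0b]
  have hwu' : hm w u' = 0 := by
    simp [hw, hu', herm_add_left, herm_smul_left, herm_smul_right hF, (herm_comm_zero hF).1 hY'P,
      (herm_comm_zero hF).1 hY'b]
  have haw : hm a w ^ (q + 1) = K := by
    have e : hm a w = A * (1 + Z) := by
      rw [ha]
      simp only [hw, hP, herm_add_left, herm_add_right hF, herm_smul_left, herm_smul_right hF, hρρ,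
        hρρ', hbρ, hbρ', hρb, hb, hαq, hβq]
      linear_combination A * hzz + A * hκκ
    rw [e, mul_pow, hA, show (1 + Z) ^ (q + 1) = (1 + Z) ^ 2 by rw [pow_succ, hZ1f, sq]]
    field_simp
  have hbw : hm b w ^ (q + 1) ≠ 1 := by
    intro e
    have e1 : hm b w = β ^ q := by
      simp [hw, herm_add_right hF, herm_smul_right hF, hbP, hb]
    rw [e1, norm_conj hF] at e
    have e2 : α ^ (q + 1) = 0 := by
      have := hww
      simp only [hw, herm_add_left, herm_add_right hF, herm_smul_left, herm_smul_right hF, hPP, hPb,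
        hbP, hb] at this
      rw [pow_succ'] at e ⊢
      linear_combination this - e
    have e3 : hm a w = κ * β ^ q := by
      rw [ha]
      simp [hw, eq_zero_of_pow_eq_zero e2, herm_add_left, herm_smul_left, herm_smul_right hF, hρb, hb, mul_comm]
    rw [e3, mul_pow, hκ, norm_conj hF, e, one_mul] at haw
    exact hK1 haw.symm
  have haa : hm a a = 1 := C.p_unit hF x
  obtain ⟨z1, hz1, hz1a, hz1w, hz1u⟩ := exists_perp_residual hF hn hww huu hwu
    (a := a) (by rw [haa, haw, hau]; intro e; exact hK2 (by linear_combination -e))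
  obtain ⟨z2, hz2, hz2a, hz2w, hz2u⟩ := exists_perp_residual hF hn hww huu' hwu'
    (a := a) (by rw [haa, haw]; intro e; exact hK3 (by linear_combination -e))
  obtain ⟨Z1, hxZ1, eZ1⟩ := C.exists_adj hF x hz1 hz1a
  obtain ⟨Z2, hxZ2, eZ2⟩ := C.exists_adj hF x hz2 hz2a
  obtain ⟨W, hZW, eW⟩ := C.exists_adj hF Z1 hww (by rw [eZ1]; exact (herm_comm_zero hF).1 hz1w)
  obtain ⟨W2, hZW2, eW2⟩ := C.exists_adj hF Z2 hww (by rw [eZ2]; exact (herm_comm_zero hF).1 hz2w)
  obtain rfl : W = W2 := C.ind_nondeg hF hC2 hι2 hww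
    (by rw [norm_herm_swap hF, haw]; exact hK1) Z1 Z2 W W2 hxZ1 hxZ2 hZW hZW2 eW eW2
  have side : ∀ {v : Fin n → F} {N Y M : C.X}, hm v v = 1 → hm a v ^ (q + 1) ≠ 1 →
      C.Adj x N → hm (C.p N) v = 0 → C.Adj N W → hm w v = 0 → C.Adj x M → C.Adj M Y →
      hm v (C.p M) = 0 → hm v (C.p Y) = 0 → ∃ V, C.Adj W V ∧ C.Adj V Y ∧ C.p V = v := by
    intro v N Y M hv hav hxN hNv hNW hwv hxM hMY hvM hvY
    obtain ⟨V, hNV, eV⟩ := C.exists_adj hF N hv ((herm_comm_zero hF).1 hNv)
    obtain ⟨V', hMV, eV'⟩ := C.exists_adj hF M hv hvM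
    obtain rfl : V = V' := C.ind_nondeg hF hC2 hι2 hv (by rw [norm_herm_swap hF]; exact hav)
      N M V V' hxN hxM hNV hMV eV eV'
    refine ⟨V, C.triangle hF hNW hNV ?_, C.triangle hF hMV hMY (by rw [eV]; exact hvY), eV⟩
    rw [eW, eV]; exact hwv
  have huc : hm u c = 0 := by rw [hu, herm_smul_left, hY0c, mul_zero]
  have hub : hm u b = 0 := by rw [hu, herm_smul_left, hY0b, mul_zero]
  have hu'c : hm u' (C.p m') = 0 := by rw [hu', herm_smul_left, hY'c', mul_zero]
  have hu'b : hm u' (C.p y') = 0 := by rw [← eyy, hu', herm_smul_left, hY'b, mul_zero]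
  obtain ⟨V, hWV, hVy, eV⟩ := side huu (by rw [hau]; intro e; exact hZ1 (by linear_combination -e))
    hxZ1 (by rw [eZ1]; exact hz1u) hZW hwu h1 h3 huc hub
  obtain ⟨V', hWV', hVy', eV'⟩ := side huu' (by
      intro e; rw [e, one_mul] at hau'; exact hZ3 hau'.symm)
    hxZ2 (by rw [eZ2]; exact hz2u) hZW2 hwu' h2 h3' hu'c hu'b
  exact C.ind_nondeg hF hC2 hι2 hb (by rw [eW]; exact hbw) V V' y y' hWV hWV' hVy hVy' rfl eyy.symm

include hF in
/-- Independence of the path in dimension four. -/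
theorem ind_four (h4 : n = 4) {ι2 : Fin 2 → Fin n} (hC2 : C.Comm ι2) (hι2 : ι2 0 = C.i0) (hq : 4 ≤ q)
    (x : C.X) {v : Fin n → F} (hv : hm v v = 1) : C.Ind x v := by
  subst h4
  classical
  by_cases hk : hm v (C.p x) ^ (q + 1) ≠ 1
  · exact C.ind_nondeg hF hC2 hι2 hv hk
  push Not at hk
  set a := C.p x with ha_def
  have ha : hm a a = 1 := C.p_unit hF x
  set κ0 := hm v a with hκ0
  have hκ00 : κ0 ≠ 0 := fun e => by rw [e, zero_pow (by omega)] at hk; exact zero_ne_one hk
  set κ := hm a v with hκ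
  have hκN : κ ^ (q + 1) = 1 := by rw [hκ, norm_herm_swap hF, hk]
  set ρ := a - κ • v with hρ
  have haeq : a = κ • v + ρ := by rw [hρ]; abel
  have hρv : hm ρ v = 0 := by simp [hρ, hκ, herm_sub_left hF, herm_smul_left, hv]
  have hρρ : hm ρ ρ = 0 := by
    simp only [hρ, herm_sub_left hF, herm_sub_right hF, herm_smul_left, herm_smul_right hF, hv, ha,
      herm_swap hF a v, ← hκ]
    linear_combination -hκN
  intro m m' y y' h1 h2 h3 h3' e e'
  set c := C.p m with hc_def
  set c' := C.p m' with hc'_def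
  have hc : hm c c = 1 := C.p_unit hF m
  have hc' : hm c' c' = 1 := C.p_unit hF m'
  have hca : hm c a = 0 := (herm_comm_zero hF).1 (h1.orth hF)
  have hc'a : hm c' a = 0 := (herm_comm_zero hF).1 (h2.orth hF)
  have hcv : hm c v = 0 := e ▸ h3.orth hF
  have hc'v : hm c' v = 0 := e' ▸ h3'.orth hF
  have eyy : C.p y = C.p y' := e.trans e'.symm
  by_cases hρ0 : ρ = 0
  · -- the two vectors are proportional
    have haκ : a = κ • v := by rw [haeq, hρ0, add_zero]
    have hκ1 : κ ≠ 0 := fun e0 => by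
      rw [e0, zero_pow (by omega)] at hκN; exact zero_ne_one hκN
    have hperp : ∀ w, hm w a = 0 → hm w v = 0 := fun w hw => by
      rw [haκ, herm_smul_right hF] at hw
      exact (mul_eq_zero.1 hw).resolve_left (pow_ne_zero _ hκ1)
    have close : ∀ {M M' Y Y' : C.X}, C.Adj x M → C.Adj x M' → C.Adj M Y → C.Adj M' Y' →
        C.p Y = v → C.p Y' = v → hm (C.p M') (C.p M) ^ (q + 1) ≠ 1 → Y = Y' := by
      intro M M' Y Y' a1 a2 a3 a4 eY eY' hne
      obtain ⟨w, hw, hwM', hwa, hwM⟩ := exists_perp_residual hF le_rfl (x := a) (y := C.p M)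
        (a := C.p M') ha (C.p_unit hF M) (a1.orth hF) (by
          rw [C.p_unit hF M', (herm_comm_zero hF).1 (a2.orth hF), zero_pow (by omega), zero_add]
          exact Ne.symm hne)
      exact C.same_of_common hF a1 a2 a3 a4 (eY.trans eY'.symm) hw hwa hwM hwM'
        (by rw [eY]; exact hperp w hwa)
    by_cases hne : hm c' c ^ (q + 1) ≠ 1
    · exact close h1 h2 h3 h3' e e' hne
    push Not at hne
    set k := hm c' c with hk'
    set r := c' - k • c with hr
    have hra : hm r a = 0 := by simp [hr, herm_sub_left hF, herm_smul_left, hc'a, hca]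
    have hrc : hm r c = 0 := by simp [hr, hk', herm_sub_left hF, herm_smul_left, hc]
    have hrr : hm r r = 0 := by
      simp only [hr, herm_sub_left hF, herm_sub_right hF, herm_smul_left, herm_smul_right hF, hc, hc',
        herm_swap hF c' c, ← hk']
      linear_combination -hne
    have hac : hm a c = 0 := (herm_comm_zero hF).1 hca
    by_cases hr0 : r = 0
    · obtain ⟨s, hs⟩ := exists_ext hF (ι := ![(0 : Fin 4), 1]) (by decide) (by omega)
        (orth_two hF ha hc hac)
      set w := act s (ev (2 : Fin 4) : Fin 4 → F)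
      have hw : hm w w = 1 := by rw [act_herm, herm_ev hF, if_pos rfl]
      have hwa : hm w a = 0 := by
        rw [show a = act s (ev (0 : Fin 4)) from (hs 0).symm, act_herm, herm_ev hF, if_neg (by decide)]
      have hwc : hm w c = 0 := by
        rw [show c = act s (ev (1 : Fin 4)) from (hs 1).symm, act_herm, herm_ev hF, if_neg (by decide)]
      refine C.same_of_common hF h1 h2 h3 h3' eyy hw hwa hwc ?_ (by rw [e]; exact hperp w hwa)
      show hm w c' = 0
      rw [show c' = r + k • c by rw [hr]; abel, hr0, zero_add, herm_smul_right hF, hwc, mul_zero]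
    have hmem : r ∉ Submodule.span F (Set.range ![a, c]) := fun hmem => hr0 (by
      obtain ⟨u, hu⟩ := (Submodule.mem_span_range_iff_exists_fun F).1 hmem
      simp [Fin.sum_univ_two] at hu
      rw [← hu] at hra hrc
      simp [herm_add_left, herm_smul_left, ha, hca] at hra
      simp [herm_add_left, herm_smul_left, hc, hac] at hrc
      rw [← hu, hra, hrc]; simp)
    obtain ⟨r', hr'r', hrr', hr'P⟩ := exists_hyp_partner hF hrr
      (P := ![a, c]) (fun i => by fin_cases i; exacts [hra, hrc]) hmem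
    obtain ⟨Z, hZf, hZS⟩ := exists_fixed_avoid hF ({0, 1} : Finset F)
      (lt_of_le_of_lt Finset.card_le_two (by omega))
    simp only [Finset.mem_insert, Finset.mem_singleton, not_or] at hZS
    obtain ⟨z, hz⟩ := exists_norm_eq hF hZf
    have hz0 : z ≠ 0 := fun e0 => hZS.1 (by rw [← hz, e0, zero_pow (by omega)])
    obtain ⟨t, ht⟩ := exists_trace_eq hF (μ := (1 : F)) (one_pow q)
    set X := t / z ^ q
    have hX1 : X * z ^ q = t := div_mul_cancel₀ t (pow_ne_zero _ hz0)
    have hX2 : X ^ q * z = t ^ q := by rw [← hX1, mul_pow, pow_q_q hF]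
    have hr'r : hm r' r = 1 := by rw [herm_swap hF r r', hrr', one_pow]
    set w := X • r + z • r' with hw_def
    have hw : hm w w = 1 := by
      simp only [hw_def, herm_add_left, herm_add_right hF, herm_smul_left, herm_smul_right hF, hrr,
        hrr', hr'r, hr'r']
      linear_combination hX1 + hX2 + ht
    have hwa : hm w a = 0 := by
      simp [hw_def, herm_add_left, herm_smul_left, hra, show hm r' a = 0 from hr'P 0]
    have hwc : hm w c = 0 := by
      simp [hw_def, herm_add_left, herm_smul_left, hrc, show hm r' c = 0 from hr'P 1]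
    have hwc' : hm w c' = z := by
      rw [show c' = r + k • c by rw [hr]; abel, herm_add_right hF, herm_smul_right hF, hwc, hw_def,
        herm_add_left, herm_smul_left, herm_smul_left, hrr, hr'r]
      ring
    obtain ⟨M, hxM, eM⟩ := C.exists_adj hF x hw hwa
    obtain ⟨Y, hMY, eY⟩ := C.exists_adj hF M hv (by rw [eM]; exact (herm_comm_zero hF).1 (hperp w hwa))
    exact (C.same_of_adj hF h1 hxM h3 hMY (e.trans eY.symm) (by
      rw [eM]; exact (herm_comm_zero hF).1 hwc)).trans
      (close h2 hxM h3' hMY e' eY (by rw [eM, hwc', hz]; exact hZS.2)).symm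
  -- a degenerate line
  have hρc : hm ρ c = 0 := by
    simp [hρ, herm_sub_left hF, herm_smul_left, (herm_comm_zero hF).1 hca, (herm_comm_zero hF).1 hcv]
  have hρc' : hm ρ c' = 0 := by
    simp [hρ, herm_sub_left hF, herm_smul_left, (herm_comm_zero hF).1 hc'a, (herm_comm_zero hF).1 hc'v]
  have hvc : hm v c = 0 := (herm_comm_zero hF).1 hcv
  have hmem : ρ ∉ Submodule.span F (Set.range ![v, c]) := fun hmem => hρ0 (by
    obtain ⟨u, hu⟩ := (Submodule.mem_span_range_iff_exists_fun F).1 hmem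
    simp [Fin.sum_univ_two] at hu
    rw [← hu] at hρv hρc
    simp [herm_add_left, herm_smul_left, hv, hcv] at hρv
    simp [herm_add_left, herm_smul_left, hc, hvc] at hρc
    rw [← hu, hρv, hρc]; simp)
  obtain ⟨ρ', hρ'ρ', hρρ', hρ'P⟩ := exists_hyp_partner hF hρρ
    (P := ![v, c]) (fun i => by fin_cases i; exacts [hρv, hρc]) hmem
  have hρ'v : hm ρ' v = 0 := hρ'P 0
  have hρ'c : hm ρ' c = 0 := hρ'P 1
  have hρ'ρ : hm ρ' ρ = 1 := by rw [herm_swap hF ρ ρ', hρρ', one_pow]
  have hcρ : hm c ρ = 0 := (herm_comm_zero hF).1 hρc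
  have hcρ' : hm c ρ' = 0 := (herm_comm_zero hF).1 hρ'c
  set ζ := hm c' c
  set l := hm c' ρ'
  have hdec : c' = ζ • c + l • ρ := by
    refine sub_eq_zero.1 (eq_zero_of_perp_frame hF hv hc hvc hρρ hρ'ρ' hρρ' hρv hρc hρ'v hρ'c ?_ ?_ ?_ ?_)
    · simp [herm_sub_left hF, herm_add_left, herm_smul_left, hc'v, hcv, hρv]
    · simp [herm_sub_left hF, herm_add_left, herm_smul_left, hc, hρc, ζ]
    · simp [herm_sub_left hF, herm_add_left, herm_smul_left, hcρ, hρρ, (herm_comm_zero hF).1 hρc']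
    · simp [herm_sub_left hF, herm_add_left, herm_smul_left, hcρ', hρρ', l]
  have hζ : ζ ^ (q + 1) = 1 := by
    have := hc'
    rw [hdec] at this
    simp only [herm_add_left, herm_add_right hF, herm_smul_left, herm_smul_right hF, hc, hcρ, hρc,
      hρρ] at this
    rw [pow_succ']; linear_combination this
  have hhave : a = κ • C.p y + ρ := by rw [e]; exact haeq
  have hfix : (l ^ (q + 1)) ^ q = l ^ (q + 1) := norm_fixed hF l
  set L := l ^ (q + 1) with hL
  by_cases hgood : ∃ Z : F, Z ^ q = Z ∧ Z ≠ 0 ∧ Z + 1 ≠ 0 ∧ Z * L ≠ 1 ∧ Z ≠ Z * L - 1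
  · obtain ⟨Z, z1, z2, z3, z4, z5⟩ := hgood
    exact C.link hF rfl hC2 hι2 hq h1 h2 h3 h3' eyy hhave hκN hρρ (e ▸ hρv) hρc hρ'ρ' hρρ'
      (e ▸ hρ'v) hρ'c hζ hdec z1 z2 z3 z4 z5
  -- the exceptional parameter over the field with sixteen elements
  have hL01 : L ≠ 0 ∧ L ≠ 1 ∧ q = 4 := by
    classical
    have hZ : ∀ S : Finset F, S.card < q → (∀ Z, Z ∉ S → Z ≠ 0 ∧ Z + 1 ≠ 0 ∧ Z * L ≠ 1 ∧ Z ≠ Z * L - 1) → False :=
      fun S hS hgoodS => by
        obtain ⟨Z, hZf, hZS⟩ := exists_fixed_avoid hF S hS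
        exact hgood ⟨Z, hZf, hgoodS Z hZS⟩
    refine ⟨fun h0 => hZ {0, -1} (lt_of_le_of_lt Finset.card_le_two (by omega)) ?_,
      fun h0 => hZ {0, -1, 1} (lt_of_le_of_lt Finset.card_le_three (by omega)) ?_,
      by_contra fun h5 => hZ {0, -1, L⁻¹, (L - 1)⁻¹} (lt_of_le_of_lt Finset.card_le_four (by omega)) ?_⟩
    · intro Z hZS
      simp only [Finset.mem_insert, Finset.mem_singleton, not_or] at hZS
      refine ⟨hZS.1, fun e => hZS.2 (eq_neg_of_add_eq_zero_left e), by rw [h0, mul_zero]; exact zero_ne_one, ?_⟩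
      rw [h0, mul_zero, zero_sub]; exact hZS.2
    · intro Z hZS
      simp only [Finset.mem_insert, Finset.mem_singleton, not_or] at hZS
      refine ⟨hZS.1, fun e => hZS.2.1 (eq_neg_of_add_eq_zero_left e), by rw [h0, mul_one]; exact hZS.2.2, ?_⟩
      rw [h0, mul_one]; intro e; exact one_ne_zero (by linear_combination e)
    · intro Z hZS
      simp only [Finset.mem_insert, Finset.mem_singleton, not_or] at hZS
      refine ⟨hZS.1, fun e => hZS.2.1 (eq_neg_of_add_eq_zero_left e),
        fun e => hZS.2.2.1 (eq_inv_of_mul_eq_one_left e),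
        fun e => hZS.2.2.2 (eq_inv_of_mul_eq_one_left (by linear_combination -e))⟩
  obtain ⟨hL0, hL1, hq4⟩ := hL01
  obtain ⟨s, hs1, hs2⟩ := exists_trace_norm hF hq4 (d := L⁻¹) (by rw [inv_pow, hfix]) (inv_ne_zero hL0)
    (fun e0 => hL1 (inv_eq_one.1 e0))
  set μ1 := l * s with hμ1
  set μ := ζ ^ q * μ1 with hμ
  have hμ1N : μ1 ^ (q + 1) = 1 := by rw [hμ1, mul_pow, hs2, ← hL, mul_inv_cancel₀ hL0]
  have hζζ : ζ * ζ ^ q = 1 := by rw [← pow_succ', hζ]
  have hμN : μ ^ (q + 1) = 1 := by rw [hμ, mul_pow, norm_conj hF, hζ, hμ1N, one_mul]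
  have hrestN : (l - μ1) ^ (q + 1) = 1 := by
    have : (l - μ1) ^ (q + 1) = L * (1 - (s + s ^ q) + s ^ (q + 1)) := by
      rw [hL, hμ1, show l - l * s = l * (1 - s) by ring, mul_pow, pow_succ (1 - s), frob_sub hF, one_pow,
        pow_succ s]
      ring
    rw [this, hs1, hs2, sub_self, zero_add, mul_inv_cancel₀ hL0]
  set c'' := c + μ • ρ with hc''
  have hc''1 : hm c'' c'' = 1 := by
    simp [hc'', herm_add_left, herm_add_right hF, herm_smul_left, herm_smul_right hF, hc, hcρ, hρc, hρρ]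
  have hc''v : hm c'' v = 0 := by simp [hc'', herm_add_left, herm_smul_left, hcv, hρv]
  have hρρa : hm ρ a = 0 := by
    rw [haeq, herm_add_right hF, herm_smul_right hF, hρv, hρρ, mul_zero, add_zero]
  have hc''a : hm c'' a = 0 := by simp [hc'', herm_add_left, herm_smul_left, hca, hρρa]
  obtain ⟨M, hxM, eM⟩ := C.exists_adj hF x hc''1 hc''a
  obtain ⟨Y, hMY, eY⟩ := C.exists_adj hF M hv (by rw [eM]; exact (herm_comm_zero hF).1 hc''v)
  obtain ⟨Z, hZf, hZS⟩ := exists_fixed_avoid hF ({0, -1, 1} : Finset F)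
    (lt_of_le_of_lt Finset.card_le_three (by omega))
  simp only [Finset.mem_insert, Finset.mem_singleton, not_or] at hZS
  have hZ2 : Z * (1 : F) ≠ 1 := by rw [mul_one]; exact hZS.2.2
  have hZ3 : Z ≠ Z * (1 : F) - 1 := fun e0 => one_ne_zero (by linear_combination e0)
  have hZ1 : Z + 1 ≠ 0 := fun e0 => hZS.2.1 (eq_neg_of_add_eq_zero_left e0)
  have step1 : y = Y := C.link hF rfl hC2 hι2 hq h1 hxM h3 hMY (e.trans eY.symm) hhave hκN hρρ
    (e ▸ hρv) hρc hρ'ρ' hρρ' (e ▸ hρ'v) hρ'c (ζ := 1) (one_pow _) (l := μ)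
    (by rw [eM, one_smul]) hZf hZS.1 hZ1 (by rw [hμN]; exact hZ2) (by rw [hμN]; exact hZ3)
  -- the partner at the new middle point
  obtain ⟨t, ht⟩ := exists_trace_eq hF (μ := -(μ ^ (q + 1))) (by rw [frob_neg hF, norm_fixed hF])
  set ρ'' := ρ' - μ ^ q • c + t • ρ with hρ''
  have e2 : hm ρ'' ρ'' = 0 := by
    simp only [hρ'', herm_add_left, herm_add_right hF, herm_sub_left hF, herm_sub_right hF,
      herm_smul_left, herm_smul_right hF, hρ'ρ', hρ'c, hcρ', hc, hρρ, hρρ', hρ'ρ, hρc, hcρ, pow_q_q hF]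
    linear_combination ht + (-1 : F) * (pow_succ μ q).symm
  have step2 : Y = y' := C.link hF rfl hC2 hι2 hq hxM h2 hMY h3' (eY.trans e'.symm)
    (show C.p x = κ • C.p Y + ρ by rw [eY]; exact haeq) hκN hρρ (eY ▸ hρv)
    (ρ' := ρ'') (by rw [eM]; simp [hc'', herm_add_right hF, herm_smul_right hF, hρc, hρρ]) e2
    (by simp [hρ'', herm_add_right hF, herm_sub_right hF, herm_smul_right hF, hρρ', hρc, hρρ])
    (by rw [eY]; simp [hρ'', herm_add_left, herm_sub_left hF, herm_smul_left, hρ'v, hcv, hρv])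
    (by
      rw [eM]
      simp [hρ'', hc'', herm_add_left, herm_sub_left hF, herm_add_right hF, herm_smul_left,
        herm_smul_right hF, hρ'c, hρ'ρ, hc, hcρ, hρc, hρρ])
    hζ (l := l - μ1) (by
      rw [eM, ← hc'_def, hdec, hc'', smul_add, smul_smul, hμ, ← mul_assoc, hζζ, one_mul]
      module) hZf hZS.1 hZ1 (by rw [hrestN]; exact hZ2) (by rw [hrestN]; exact hZ3)
  exact step1.trans step2

include hF in
/-- Lifts over an orthogonal pair are adjacent in dimension four. -/
theorem edge_four (h4 : n = 4) (hq : 4 ≤ q)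
    (hind : ∀ (x : C.X) (v : Fin n → F), hm v v = 1 → C.Ind x v) : C.EdgeOK := by
  subst h4
  classical
  intro x m m' y y' h1 h3 h2 h3' h
  set a := C.p x
  set v := C.p y
  set v' := C.p y'
  have ha : hm a a = 1 := C.p_unit hF x
  have hv : hm v v = 1 := C.p_unit hF y
  have hv' : hm v' v' = 1 := C.p_unit hF y'
  by_cases hres : hm a a ≠ hm a v ^ (q + 1) + hm a v' ^ (q + 1)
  · obtain ⟨w, hw, hwa, hwv, hwv'⟩ := exists_perp_residual hF le_rfl hv hv' h hres
    exact C.edge_of_common hF hind h1 h3 h2 h3' h hw hwa hwv hwv'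
  push Not at hres
  set r := a - hm a v • v - hm a v' • v' with hr
  have hv'v : hm v' v = 0 := (herm_comm_zero hF).1 h
  have hrv : hm r v = 0 := by simp [hr, herm_sub_left hF, herm_smul_left, hv, hv'v]
  have hrv' : hm r v' = 0 := by simp [hr, herm_sub_left hF, herm_smul_left, hv', h]
  by_cases hr0 : r = 0
  · obtain ⟨s, hs⟩ := exists_ext hF (ι := ![(0 : Fin 4), 1]) (by decide) (by omega)
      (orth_two hF hv hv' h)
    have e0 : hm (act s (ev (2 : Fin 4))) v = 0 := by
      rw [show v = act s (ev (0 : Fin 4)) from (hs 0).symm, act_herm, herm_ev hF, if_neg (by decide)]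
    have e1 : hm (act s (ev (2 : Fin 4))) v' = 0 := by
      rw [show v' = act s (ev (1 : Fin 4)) from (hs 1).symm, act_herm, herm_ev hF, if_neg (by decide)]
    refine C.edge_of_common hF hind h1 h3 h2 h3' h (w := act s (ev (2 : Fin 4)))
      (by rw [act_herm, herm_ev hF, if_pos rfl]) ?_ e0 e1
    show hm _ a = 0
    rw [show a = r + hm a v • v + hm a v' • v' by rw [hr]; abel, hr0, zero_add, herm_add_right hF,
      herm_smul_right hF, herm_smul_right hF, e0, e1]
    ring
  have hrr : hm r r = 0 := by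
    have e1 : hm r r = hm r a := by
      rw [show hm r r = hm r (a - hm a v • v - hm a v' • v') from congrArg _ hr, herm_sub_right hF,
        herm_sub_right hF, herm_smul_right hF, herm_smul_right hF, hrv, hrv']
      ring
    rw [e1, hr, herm_sub_left hF, herm_sub_left hF, herm_smul_left, herm_smul_left, herm_swap hF a v,
      herm_swap hF a v', ← pow_succ', ← pow_succ']
    linear_combination hres
  have hmem : r ∉ Submodule.span F (Set.range ![v, v']) := fun hmem => hr0 (by
    obtain ⟨u, hu⟩ := (Submodule.mem_span_range_iff_exists_fun F).1 hmem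
    simp [Fin.sum_univ_two] at hu
    rw [← hu] at hrv hrv'
    simp [herm_add_left, herm_smul_left, hv, hv'v] at hrv
    simp [herm_add_left, herm_smul_left, hv', h] at hrv'
    rw [← hu, hrv, hrv']; simp)
  obtain ⟨r', hr'r', hrr', hr'P⟩ := exists_hyp_partner hF hrr
    (P := ![v, v']) (fun i => by fin_cases i; exacts [hrv, hrv']) hmem
  obtain ⟨T, hTf, hTS⟩ := exists_fixed_avoid hF
    ({0, hm a v ^ (q + 1), hm a v' ^ (q + 1)} : Finset F) (lt_of_le_of_lt Finset.card_le_three (by omega))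
  simp only [Finset.mem_insert, Finset.mem_singleton, not_or] at hTS
  obtain ⟨z, hz⟩ := exists_norm_eq hF hTf
  have hz0 : z ≠ 0 := fun e0 => hTS.1 (by rw [← hz, e0, zero_pow (by omega)])
  obtain ⟨t, ht⟩ := exists_trace_eq hF (μ := (1 : F)) (one_pow q)
  set X := t / z ^ q
  have hX1 : X * z ^ q = t := div_mul_cancel₀ t (pow_ne_zero _ hz0)
  have hX2 : X ^ q * z = t ^ q := by rw [← hX1, mul_pow, pow_q_q hF]
  have hr'r : hm r' r = 1 := by rw [herm_swap hF r r', hrr', one_pow]
  set w := X • r + z • r' with hw_def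
  have hw : hm w w = 1 := by
    simp only [hw_def, herm_add_left, herm_add_right hF, herm_smul_left, herm_smul_right hF, hrr,
      hrr', hr'r, hr'r']
    linear_combination hX1 + hX2 + ht
  have hwv : hm w v = 0 := by
    simp [hw_def, herm_add_left, herm_smul_left, hrv, show hm r' v = 0 from hr'P 0]
  have hwv' : hm w v' = 0 := by
    simp [hw_def, herm_add_left, herm_smul_left, hrv', show hm r' v' = 0 from hr'P 1]
  have haw : hm a w ^ (q + 1) = T := by
    have e : hm a w = z ^ q := by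
      rw [show a = r + hm a v • v + hm a v' • v' by rw [hr]; abel, herm_add_left, herm_add_left,
        herm_smul_left, herm_smul_left, (herm_comm_zero hF).1 hwv, (herm_comm_zero hF).1 hwv', hw_def,
        herm_add_right hF, herm_smul_right hF, herm_smul_right hF, hrr, hrr']
      ring
    rw [e, norm_conj hF, hz]
  obtain ⟨z1, hz1, hz1a, hz1v, hz1w⟩ := exists_perp_residual hF le_rfl (a := a) hv hw
    ((herm_comm_zero hF).1 hwv) (by rw [hres, haw]; intro e; exact hTS.2.2 (add_left_cancel e).symm)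
  obtain ⟨z2, hz2, hz2a, hz2v, hz2w⟩ := exists_perp_residual hF le_rfl (a := a) hv' hw
    ((herm_comm_zero hF).1 hwv') (by
      rw [hres, haw]; intro e; exact hTS.2.1 (by linear_combination -e))
  obtain ⟨M, hxM, eM⟩ := C.exists_adj hF x hz1 hz1a
  obtain ⟨W, hMW, eW⟩ := C.exists_adj hF M hw (by rw [eM]; exact (herm_comm_zero hF).1 hz1w)
  have e1 : C.Adj y W := C.edge_of_common hF hind h1 h3 hxM hMW
    (by rw [eW]; exact (herm_comm_zero hF).1 hwv) hz1 hz1a hz1v (by rw [eW]; exact hz1w)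
  have e2 : C.Adj W y' := C.edge_of_common hF hind hxM hMW h2 h3'
    (by rw [eW]; exact hwv') hz2 hz2a (by rw [eW]; exact hz2w) hz2v
  exact C.triangle hF (e1.symm C) e2 h

include hF in
/-- **The completion in dimension four.** -/
theorem exists_hom_four (h4 : n = 4) (hq : 4 ≤ q) {ι2 : Fin 2 → Fin n} (hC2 : C.Comm ι2)
    (hι2 : ι2 0 = C.i0) :
    ∃ Φ : Cfsg.SU n F q →* G, (∀ k (h : k ∈ St q (ev C.i0 : Fin n → F)), Φ k = C.φ ⟨k, h⟩) ∧ Φ C.τ = C.t := by
  have hind : ∀ (x : C.X) (v : Fin n → F), hm v v = 1 → C.Ind x v :=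
    fun x v hv => C.ind_four hF h4 hC2 hι2 hq x hv
  exact C.exists_hom hF hind (C.edge_four hF h4 hq hind)

end Cov

end CfsgLib.Phan
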