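import Cfsg.Agent.Phan.Four
import Cfsg.Agent.Phan.Block

/-!
Monomial elements and generation by block subgroups.
-/

set_option autoImplicit false
set_option linter.unusedSectionVars false
set_option linter.style.haveILetI false

namespace CfsgLib.Phan

open Matrix CfsgLib.Forms CfsgLib.Unitary

/-- The coordinates `i, …, i + r - 1`. -/
def win (i r k : ℕ) (h : i + r ≤ k) : Fin r ↪ Fin k :=
  ⟨fun j => ⟨i + j.1, by omega⟩, fun a b e => Fin.ext (by simpa using congrArg Fin.val e)⟩

@[simp] theorem win_val (i r k : ℕ) (h : i + r ≤ k) (j : Fin r) : ((win i r k h j : Fin k) : ℕ) = i + j.1 :=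
  rfl

theorem mem_range_win {i r k : ℕ} (h : i + r ≤ k) {j : Fin k} :
    j ∈ Set.range (win i r k h) ↔ i ≤ j.1 ∧ j.1 < i + r := by
  constructor
  · rintro ⟨a, rfl⟩; simp
  · rintro ⟨h1, h2⟩; exact ⟨⟨j.1 - i, by omega⟩, Fin.ext (by simp; omega)⟩

theorem win_trans {i r k : ℕ} (h : i + r ≤ k) {i' r' : ℕ} (h' : i' + r' ≤ r) :
    (win i' r' r h').trans (win i r k h) = win (i + i') r' k (by omega) := by
  refine DFunLike.ext _ _ fun j => Fin.ext ?_
  simp; omega

variable {F : Type*} [Field F] [Finite F] {q n : ℕ} (hF : Nat.card F = q ^ 2)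

local notation "hm" => Cfsg.hermForm _ F q

theorem emb_win {i r k : ℕ} (h : i + r ≤ k) {i' r' : ℕ} (h' : i' + r' ≤ r) (X : Cfsg.SU r' F q) :
    emb (win i r k h) (emb (win i' r' r h') X) = emb (win (i + i') r' k (by omega)) X := by
  rw [emb_comp, win_trans]

include hF in
/-- The monomial element exchanging `a` and `b` with a sign at `j`. -/
theorem exists_swap {a b : Fin n} (hab : a ≠ b) (j : Fin n) :
    ∃ g : Cfsg.SU n F q, ∀ k, act g (ev k) =
      (if k = j then (-1 : F) else 1) • ev (Equiv.swap a b k) := by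
  classical
  let c : Fin n → F := fun k => if k = j then -1 else 1
  let M : Matrix (Fin n) (Fin n) F := (Matrix.diagonal fun i => c (Equiv.swap a b i)).submatrix id (Equiv.swap a b)
  have hcol : ∀ k, M *ᵥ ev k = c k • ev (Equiv.swap a b k) := fun k => by
    funext i
    by_cases h : i = Equiv.swap a b k <;> simp [M, ev, Matrix.col, Matrix.diagonal, h]
  have hmul : ∀ x : Fin n → F, M *ᵥ x = fun i => c (Equiv.swap a b i) * x (Equiv.swap a b i) := fun x => by
    funext i
    have : M *ᵥ x = (Matrix.diagonal fun i => c (Equiv.swap a b i)) *ᵥ (x ∘ (Equiv.swap a b).symm) := by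
      show ((Matrix.diagonal fun i => c (Equiv.swap a b i)).submatrix (id : Fin n → Fin n) (Equiv.swap a b)) *ᵥ x = _
      rw [Matrix.submatrix_mulVec_equiv]; rfl
    rw [this, Matrix.mulVec_diagonal]; simp
  have hc : ∀ k, c k * c k ^ q = 1 := fun k => by
    by_cases h : k = j
    · simp [c, h, frob_neg hF]
    · simp [c, h]
  have hdet : M.det = 1 := by
    show ((Matrix.diagonal fun i => c (Equiv.swap a b i)).submatrix (id : Fin n → Fin n) (Equiv.swap a b)).det = 1
    rw [Matrix.det_permute', Matrix.det_diagonal, Equiv.Perm.sign_swap hab,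
      Equiv.prod_comp (Equiv.swap a b) c]
    simp [c]
  have hpres : ∀ x y, hm (M *ᵥ x) (M *ᵥ y) = hm x y := fun x y => by
    unfold Cfsg.hermForm
    rw [hmul, hmul]
    refine (Equiv.sum_comp (Equiv.swap a b) (fun i => c i * x i * (c i * y i) ^ q)).trans ?_
    refine Finset.sum_congr rfl fun i _ => ?_
    rw [mul_pow]
    linear_combination (x i * y i ^ q) * hc i
  exact ⟨⟨⟨M, hdet⟩, hpres⟩, hcol⟩

include hF in
/-- The orbit of a unit vector is everything. -/
theorem orbit_top (h3 : 3 ≤ n) (hq : n = 3 → 3 ≤ q) {O : (Fin n → F) → Prop} {i0 : Fin n}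
    (h0 : O (ev i0))
    (hcl : ∀ v w : Fin n → F, O v → hm w w = 1 → hm w v = 0 → O w) {w : Fin n → F} (hw : hm w w = 1) :
    O w := by
  classical
  have e0 : hm (ev i0 : Fin n → F) (ev i0) = 1 := by rw [herm_ev hF, if_pos rfl]
  rcases Nat.lt_or_ge n 4 with hn | hn
  · obtain rfl : n = 3 := by omega
    -- nondegenerate pairs
    have near : ∀ v : Fin 3 → F, hm v v = 1 → hm v (ev i0) ^ (q + 1) ≠ 1 → O v := fun v hv hne => by
      obtain ⟨i1, hi1⟩ : ∃ i1 : Fin 3, i1 ≠ i0 := exists_ne i0
      set r := v - hm v (ev i0) • ev i0 with hr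
      have hr0 : hm r (ev i0) = 0 := by simp [hr, herm_sub_left hF, herm_smul_left, e0]
      have hrr : hm r r = 1 - hm v (ev i0) ^ (q + 1) := by
        simp only [hr, herm_sub_left hF, herm_sub_right hF, herm_smul_left, herm_smul_right hF, e0, hv,
          herm_swap hF v (ev i0)]
        ring
      obtain ⟨d, hd⟩ := exists_unit_mul hF (z := r) (by rw [hrr]; exact sub_ne_zero.2 (Ne.symm hne))
      have horth := orth_two hF e0 hd
        ((herm_comm_zero hF).1 (by rw [herm_smul_left, hr0, mul_zero]))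
      obtain ⟨g, hg⟩ := exists_ext hF (ι := ![i0, i1])
        (fun x y e => by fin_cases x <;> fin_cases y <;> simp [hi1, hi1.symm] at e ⊢) (by omega) horth
      obtain ⟨i2, h20, h21⟩ : ∃ i2 : Fin 3, i2 ≠ i0 ∧ i2 ≠ i1 := by
        have key : ∀ a b : Fin 3, b ≠ a → ∃ i2 : Fin 3, i2 ≠ a ∧ i2 ≠ b := by decide
        exact key i0 i1 hi1
      set p := act g (ev i2 : Fin 3 → F)
      have g0 : act g (ev i0) = ev i0 := hg 0
      have g1 : act g (ev i1) = d • r := hg 1
      have hp : hm p p = 1 := by rw [act_herm, herm_ev hF, if_pos rfl]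
      have hp0 : hm p (ev i0) = 0 := by rw [← g0, act_herm, herm_ev hF, if_neg h20]
      have hpr : hm p r = 0 := by
        have : hm p (d • r) = 0 := by rw [← g1, act_herm, herm_ev hF, if_neg h21]
        rw [herm_smul_right hF] at this
        refine (mul_eq_zero.1 this).resolve_left fun e => ?_
        rw [herm_smul_self hF] at hd
        rw [eq_zero_of_pow_eq_zero e, zero_pow (by omega), zero_mul] at hd
        exact zero_ne_one hd
      have hpv : hm p v = 0 := by
        rw [show v = r + hm v (ev i0) • ev i0 by rw [hr]; abel, herm_add_right hF, herm_smul_right hF,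
          hpr, hp0, mul_zero, add_zero]
      exact hcl p v (hcl _ p h0 hp hp0) hv ((herm_comm_zero hF).1 hpv)
    by_cases hne : hm w (ev i0) ^ (q + 1) ≠ 1
    · exact near w hw hne
    obtain ⟨g, hg⟩ := exists_ext hF (ι := ![(0 : Fin 3)]) (fun x y _ => Subsingleton.elim x y) (by omega)
      (orth_one hF hw)
    have g0 : act g (ev (0 : Fin 3)) = w := hg 0
    set r := act g (ev (1 : Fin 3) : Fin 3 → F) with hr
    set r' := act g (ev (2 : Fin 3) : Fin 3 → F) with hr'
    have hr1 : hm r r = 1 := by rw [act_herm, herm_ev hF, if_pos rfl]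
    have hr1' : hm r' r' = 1 := by rw [act_herm, herm_ev hF, if_pos rfl]
    have hrr' : hm r r' = 0 := by rw [act_herm, herm_ev hF, if_neg (by decide)]
    have hrw : hm r w = 0 := by rw [← g0, act_herm, herm_ev hF, if_neg (by decide)]
    have hr'w : hm r' w = 0 := by rw [← g0, act_herm, herm_ev hF, if_neg (by decide)]
    have step : ∀ v : Fin 3 → F, hm v v = 1 → hm v w = 0 → hm v (ev i0) ^ (q + 1) ≠ 1 → O w :=
      fun v hv hvw hvne => hcl v w (near v hv hvne) hw ((herm_comm_zero hF).1 hvw)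
    by_cases hne1 : hm r (ev i0) ^ (q + 1) ≠ 1
    · exact step r hr1 hrw hne1
    by_cases hne2 : hm r' (ev i0) ^ (q + 1) ≠ 1
    · exact step r' hr1' hr'w hne2
    push Not at hne hne1 hne2
    set a := hm r (ev i0) with ha
    set b := hm r' (ev i0) with hb
    have hS : (1 : F) + 1 + 1 = 1 := by
      have h := herm_ev hF (F := F) (q := q) i0 i0
      rw [if_pos rfl, ← act_herm g⁻¹] at h
      set x := act g⁻¹ (ev i0 : Fin 3 → F)
      have hx : ∀ k, x k ^ q = hm (act g (ev k)) (ev i0) := fun k => by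
        rw [← act_herm g⁻¹, act_inv_act, ev, herm_single_left]
      simp only [Cfsg.hermForm, Fin.sum_univ_three] at h
      have hN : ∀ k, hm (act g (ev k)) (ev i0) ^ (q + 1) = 1 → x k * x k ^ q = 1 := fun k hk => by
        rw [← hx, norm_conj hF] at hk
        rw [← pow_succ', hk]
      rw [hN 0 (by rw [g0]; exact hne), hN 1 hne1, hN 2 hne2] at h
      exact h
    have h2 : (2 : F) = 0 := by linear_combination hS
    obtain ⟨T, hTf, hTS⟩ := exists_fixed_avoid hF ({0, 1} : Finset F)
      (lt_of_le_of_lt Finset.card_le_two (by have := hq rfl; omega))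
    simp only [Finset.mem_insert, Finset.mem_singleton, not_or] at hTS
    obtain ⟨X, hX⟩ := exists_norm_eq hF hTf
    obtain ⟨Z, hZ⟩ := exists_norm_eq hF (μ := 1 - T) (by rw [frob_sub hF, one_pow, hTf])
    have hX0 : X ≠ 0 := fun e => hTS.1 (by rw [← hX, e, zero_pow (by omega)])
    have hZ0 : Z ≠ 0 := fun e => hTS.2 (by rw [e, zero_pow (by omega)] at hZ; linear_combination hZ)
    have haa : a ≠ 0 := fun e => by rw [e, zero_pow (by omega)] at hne1; exact zero_ne_one hne1
    have hbb : b ≠ 0 := fun e => by rw [e, zero_pow (by omega)] at hne2; exact zero_ne_one hne2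
    obtain ⟨ν, hνN, hν⟩ : ∃ ν : F, ν ^ (q + 1) = 1 ∧ ν * (X ^ q * a ^ q * Z * b) +
        (ν * (X ^ q * a ^ q * Z * b)) ^ q ≠ 0 := by
      by_contra hall
      push Not at hall
      set Q := X ^ q * a ^ q * Z * b with hQ
      have hQ0 : Q ≠ 0 := by simp [hQ, hX0, hZ0, haa, hbb]
      have hneg : (-1 : F) = 1 := by linear_combination -h2
      haveI := Fintype.ofFinite F
      have hc := card_norm_fiber hF (μ := (1 : F)) one_ne_zero (one_pow q)
      rw [Nat.card_eq_fintype_card] at hc
      obtain ⟨⟨ν, hν⟩, hne'⟩ := Fintype.exists_ne_of_one_lt_card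
        (show 1 < Fintype.card {x : F // x ^ (q + 1) = 1} by have := two_le_q hF; omega) ⟨1, one_pow _⟩
      have e1 := hall 1 (one_pow _)
      have e2 := hall ν hν
      rw [one_mul] at e1
      rw [mul_pow] at e2
      have e3 : (ν - ν ^ q) * Q = 0 := by linear_combination e2 - ν ^ q * e1
      have e4 := sub_eq_zero.1 ((mul_eq_zero.1 e3).resolve_right hQ0)
      have e5 : (ν - 1) ^ 2 = 0 := by
        rw [pow_succ, ← e4] at hν
        linear_combination hν - (ν - 1) * h2
      exact hne' (Subtype.ext (sub_eq_zero.1 (eq_zero_of_pow_eq_zero e5)))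
    set v := X • r + (ν * Z) • r' with hv
    have hνν : ν * ν ^ q = 1 := by rw [← pow_succ', hνN]
    have hr'r : hm r' r = 0 := (herm_comm_zero hF).1 hrr'
    have hvv : hm v v = 1 := by
      simp only [hv, herm_add_left, herm_add_right hF, herm_smul_left, herm_smul_right hF, hr1, hr1',
        hrr', hr'r, mul_pow]
      have eX : X * X ^ q = T := by rw [← pow_succ', hX]
      have eZ : Z * Z ^ q = 1 - T := by rw [← pow_succ', hZ]
      linear_combination eX + eZ + (Z * Z ^ q) * hνν
    have hvw : hm v w = 0 := by simp [hv, herm_add_left, herm_smul_left, hrw, hr'w]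
    refine step v hvv hvw fun e => hν ?_
    have hve : hm v (ev i0) = X * a + ν * Z * b := by simp [hv, herm_add_left, herm_smul_left, ha, hb]
    rw [hve, pow_succ', frob_add hF] at e
    simp only [mul_pow] at e
    have eX : X * X ^ q = T := by rw [← pow_succ', hX]
    have eZ : Z * Z ^ q = 1 - T := by rw [← pow_succ', hZ]
    have eA : a * a ^ q = 1 := by rw [← pow_succ', hne1]
    have eB : b * b ^ q = 1 := by rw [← pow_succ', hne2]
    simp only [mul_pow, pow_q_q hF]
    linear_combination e - (X * X ^ q) * eA - eX - (ν * ν ^ q * (Z * Z ^ q)) * eB -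
      (Z * Z ^ q) * hνν - eZ
  · obtain ⟨c, hc, hc0, hcw⟩ := exists_perp hF (j := 1) (x := ![(ev i0 : Fin n → F)]) (by omega)
      (orth_one hF e0) w
    exact hcl c w (hcl _ c h0 hc (hc0 0)) hw ((herm_comm_zero hF).1 hcw)

include hF in
/-- A point stabiliser and one element moving the point to an orthogonal one generate. -/
theorem eq_top_of_st (h3 : 3 ≤ n) (hq : n = 3 → 3 ≤ q) {K : Subgroup (Cfsg.SU n F q)} {i0 i1 : Fin n}
    (hne : i0 ≠ i1) (hSt : St q (ev i0 : Fin n → F) ≤ K) {τ : Cfsg.SU n F q} (hτ : τ ∈ K)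
    (hτ0 : act τ (ev i0) = ev i1) : K = ⊤ := by
  classical
  refine (Subgroup.eq_top_iff' K).2 fun g => ?_
  have key : ∀ w : Fin n → F, hm w w = 1 → ∃ k ∈ K, act k (ev i0) = w := by
    refine fun w hw => orbit_top hF h3 hq (O := fun w => ∃ k ∈ K, act k (ev i0) = w)
      ⟨1, one_mem _, act_one _⟩ ?_ hw
    rintro v w ⟨k, hk, rfl⟩ hw hwv
    set u := act k⁻¹ w
    have hu : hm u u = 1 := by rw [act_herm, hw]
    have hu0 : hm (ev i0 : Fin n → F) u = 0 := by
      rw [← act_herm k, act_act_inv]; exact (herm_comm_zero hF).1 hwv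
    obtain ⟨s, hs⟩ := exists_ext hF (ι := ![i0, i1])
      (fun a b e => by fin_cases a <;> fin_cases b <;> simp [hne, hne.symm] at e ⊢) (by omega)
      (orth_two hF (show hm (ev i0 : Fin n → F) (ev i0) = 1 by rw [herm_ev hF, if_pos rfl]) hu hu0)
    refine ⟨k * s * τ, mul_mem (mul_mem hk (hSt (hs 0))) hτ, ?_⟩
    rw [act_mul, act_mul, hτ0, show act s (ev i1) = u from hs 1, act_act_inv]
  obtain ⟨k, hk, e⟩ := key (act g (ev i0)) (by rw [act_herm, herm_ev hF, if_pos rfl])
  have : k⁻¹ * g ∈ K := hSt (by rw [mem_St, act_mul, ← e, act_inv_act])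
  simpa using mul_mem hk this

include hF in
/-- The two extreme blocks generate. -/
theorem sup_blocks_eq_top (h3 : 3 ≤ n + 1) (hq : n + 1 = 3 → 3 ≤ q) :
    (emb (F := F) (q := q) (win 0 n (n + 1) (by omega))).range ⊔
      (emb (F := F) (q := q) (win 1 n (n + 1) (by omega))).range = ⊤ := by
  classical
  let i0 : Fin (n + 1) := ⟨0, by omega⟩
  let i1 : Fin (n + 1) := ⟨1, by omega⟩
  have hne : i0 ≠ i1 := fun e => by simpa [i0, i1] using congrArg Fin.val e
  obtain ⟨τ, hτ⟩ := exists_swap hF hne i1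
  refine eq_top_of_st hF h3 hq hne (τ := τ) (fun g hg => Subgroup.mem_sup_right ?_)
    (Subgroup.mem_sup_left ?_) ?_
  · refine (mem_range_emb hF).2 fun j hj => ?_
    rw [mem_range_win] at hj
    obtain rfl : j = i0 := Fin.ext (by simp only [i0]; omega)
    exact hg
  · refine (mem_range_emb hF).2 fun j hj => ?_
    rw [mem_range_win] at hj
    have h0 : j ≠ i0 := fun e => hj (by rw [e]; simp [i0]; omega)
    have h1 : j ≠ i1 := fun e => hj (by rw [e]; simp [i1]; omega)
    rw [hτ, if_neg h1, one_smul, Equiv.swap_apply_of_ne_of_ne h0 h1]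
  · rw [hτ, if_neg hne, one_smul, Equiv.swap_apply_left]

include hF in
/-- Maps agreeing on the two extreme blocks agree. -/
theorem hom_ext_blocks {G : Type*} [Group G] (h3 : 3 ≤ n + 1) (hq : n + 1 = 3 → 3 ≤ q)
    {f g : Cfsg.SU (n + 1) F q →* G}
    (h0 : ∀ X, f (emb (win 0 n (n + 1) (by omega)) X) = g (emb (win 0 n (n + 1) (by omega)) X))
    (h1 : ∀ X, f (emb (win 1 n (n + 1) (by omega)) X) = g (emb (win 1 n (n + 1) (by omega)) X)) :
    f = g := by
  refine MonoidHom.eq_of_eqOn_dense (s := Set.range (emb (F := F) (q := q) (win 0 n (n + 1) (by omega))) ∪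
    Set.range (emb (F := F) (q := q) (win 1 n (n + 1) (by omega)))) ?_ ?_
  · rw [Subgroup.closure_union, ← MonoidHom.coe_range, ← MonoidHom.coe_range, Subgroup.closure_eq,
      Subgroup.closure_eq]
    exact sup_blocks_eq_top hF h3 hq
  · rintro x (⟨X, rfl⟩ | ⟨X, rfl⟩)
    exacts [h0 X, h1 X]

end CfsgLib.Phan
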