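import Cfsg.Agent.Phan.Align
import Cfsg.Agent.Unitary.SUThreeInvol
import Cfsg.Agent.Classical.Transvections

/-!
Subgroups `SU₂` of `SU₃` as point stabilisers, and standard pairs from commuting tori.
-/

set_option autoImplicit false
set_option linter.unusedSectionVars false
set_option linter.style.haveILetI false

namespace CfsgLib.Phan

open Matrix CfsgLib.Forms CfsgLib.Unitary

variable {F : Type*} [Field F] [Finite F] {q : ℕ} (hF : Nat.card F = q ^ 2)

local notation "hm" => Cfsg.hermForm _ F q

include hF in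
/-- Totally isotropic spaces in dimension three are lines. -/
theorem isotropic_prop {v w : Fin 3 → F} (hv : v ≠ 0) (hvv : hm v v = 0) (hww : hm w w = 0)
    (hwv : hm w v = 0) : ∃ c : F, w = c • v := by
  classical
  obtain ⟨j, hj⟩ := Function.ne_iff.1 hv
  simp only [Pi.zero_apply] at hj
  refine ⟨w j / v j, sub_eq_zero.1 ?_⟩
  set u := w - (w j / v j) • v with hu
  have huj : u j = 0 := by simp [hu, hj]
  have hvw : hm v w = 0 := (herm_comm_zero hF).1 hwv
  have huu : hm u u = 0 := by
    simp [hu, herm_sub_left hF, herm_sub_right hF, herm_smul_left, herm_smul_right hF, hvv, hww, hwv, hvw]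
  have huv : hm u v = 0 := by simp [hu, herm_sub_left hF, herm_smul_left, hvv, hwv]
  obtain ⟨i, k, hij, hkj, hik, huniv⟩ : ∃ i k : Fin 3, i ≠ j ∧ k ≠ j ∧ i ≠ k ∧
      (∀ m, m = i ∨ m = k ∨ m = j) := by
    have key : ∀ j : Fin 3, ∃ i k : Fin 3, i ≠ j ∧ k ≠ j ∧ i ≠ k ∧ (∀ m, m = i ∨ m = k ∨ m = j) := by
      decide
    exact key j
  have hsum : ∀ f : Fin 3 → F, f j = 0 → ∑ m, f m = f i + f k := fun f hf => by
    rw [← Finset.sum_subset (Finset.subset_univ {i, k}) (fun m _ hm' => ?_), Finset.sum_pair hik]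
    rcases huniv m with rfl | rfl | rfl
    · simp at hm'
    · simp at hm'
    · exact hf
  have e1 : u i * u i ^ q + u k * u k ^ q = 0 := by
    rw [← hsum (fun m => u m * u m ^ q) (by simp [huj])]; exact huu
  have e2 : u i * v i ^ q + u k * v k ^ q = 0 := by
    rw [← hsum (fun m => u m * v m ^ q) (by simp [huj])]; exact huv
  have e3 : v i * v i ^ q + v k * v k ^ q + v j * v j ^ q = 0 := by
    have := hvv
    simp only [Cfsg.hermForm] at this
    rw [← Finset.sum_subset (Finset.subset_univ {i, k, j}) (fun m _ hm' => by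
      rcases huniv m with rfl | rfl | rfl <;> simp at hm'), Finset.sum_insert (by simp [hik, hij]),
      Finset.sum_pair hkj] at this
    linear_combination this
  have hq0 := q_ne_zero hF
  by_contra hne
  have hik0 : u i ≠ 0 := fun e => hne (funext fun m => by
    rw [e, zero_mul, zero_add, ← pow_succ'] at e1
    have ek := eq_zero_of_pow_eq_zero e1
    rcases huniv m with rfl | rfl | rfl
    exacts [e, ek, huj])
  have e4 : (v i * v i ^ q) * (u i * u i ^ q) = (v k * v k ^ q) * (u k * u k ^ q) := by
    have h := congrArg (fun x : F => x * x ^ q) (eq_neg_of_add_eq_zero_left e2)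
    simp only [mul_pow, frob_neg hF, pow_q_q hF] at h
    linear_combination h
  have e5 : (v j * v j ^ q) * (u i * u i ^ q) = 0 := by
    linear_combination (u i * u i ^ q) * e3 - e4 - (v k * v k ^ q) * e1
  rcases mul_eq_zero.1 e5 with h | h
  · rw [← pow_succ'] at h; exact hj (eq_zero_of_pow_eq_zero h)
  · rw [← pow_succ'] at h; exact hik0 (eq_zero_of_pow_eq_zero h)

/-- The two transvection subgroups of `SL₂`. -/
def sl2up {K : Type*} [Field K] (c : K) : Matrix.SpecialLinearGroup (Fin 2) K :=
  Matrix.SpecialLinearGroup.transvection (show (0 : Fin 2) ≠ 1 by decide) c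

/-- The two transvection subgroups of `SL₂`. -/
def sl2low {K : Type*} [Field K] (c : K) : Matrix.SpecialLinearGroup (Fin 2) K :=
  Matrix.SpecialLinearGroup.transvection (show (1 : Fin 2) ≠ 0 by decide) c

include hF in
/-- An involution in even characteristic has a centre. -/
theorem exists_centre (h2 : (2 : F) = 0) {t : Cfsg.SU 3 F q} (ht : t ≠ 1) (ht2 : t * t = 1) :
    ∃ v x₀ : Fin 3 → F, v ≠ 0 ∧ hm v v = 0 ∧ act t x₀ = x₀ + v ∧ act t v = v ∧
      ∀ x, ∃ c : F, act t x = x + c • v := by
  obtain ⟨j, hj⟩ : ∃ j, act t (ev j) ≠ ev j := by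
    by_contra hall; push Not at hall
    exact ht (act_eq_of_basis fun j => by rw [hall j, act_one])
  have htt : ∀ x, act t (act t x) = x := fun x => by rw [← act_mul, ht2, act_one]
  have himg : ∀ x y, hm (act t x + x) (act t y + y) = 0 := fun x y => by
    have e : hm x (act t y) = hm (act t x) y := by
      rw [← act_herm t, htt]
    rw [herm_add_left, herm_add_right hF, herm_add_right hF, act_herm, e]
    linear_combination (hm x y + hm (act t x) y) * h2
  set v := act t (ev j) + ev j with hv
  have hv0 : v ≠ 0 := fun e => hj (by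
    rw [eq_neg_of_add_eq_zero_left e, ← neg_one_smul F, show (-1 : F) = 1 by linear_combination -h2,
      one_smul])
  have hxx : ∀ x : Fin 3 → F, x + x = 0 := fun x => by
    rw [← two_smul F, h2, zero_smul]
  refine ⟨v, ev j, hv0, himg _ _, by rw [hv, ← add_assoc, add_comm (ev j), add_assoc, hxx, add_zero],
    by rw [hv, act_add, htt, add_comm], fun x => ?_⟩
  obtain ⟨c, hc⟩ := isotropic_prop hF hv0 (himg _ _) (himg x x) (himg x (ev j))
  exact ⟨c, by rw [← hc, add_comm (act t x), ← add_assoc, hxx, zero_add]⟩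

include hF in
/-- Commuting involutions in even characteristic have the same centre. -/
theorem centre_of_commute {t s : Cfsg.SU 3 F q} (hts : t * s = s * t) {v w x₀ y₀ : Fin 3 → F}
    (hv : v ≠ 0) (hvv : hm v v = 0) (hww : hm w w = 0) (hx₀ : act t x₀ = x₀ + v)
    (hy₀ : act s y₀ = y₀ + w) (htall : ∀ x, ∃ c : F, act t x = x + c • v)
    (hsall : ∀ x, ∃ c : F, act s x = x + c • w) : ∃ c : F, w = c • v := by
  have hst : act t (act s x₀) = act s (act t x₀) := by rw [← act_mul, ← act_mul, hts]
  rw [hx₀, act_add] at hst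
  obtain ⟨c, hc⟩ := htall (act s x₀)
  rw [hc] at hst
  obtain ⟨b, hb⟩ := hsall v
  have e : c • v = v + b • w := by rw [← hb]; exact add_left_cancel hst
  by_cases hb0 : b = 0
  · rw [hb0, zero_smul, add_zero] at hb
    have h := act_herm s v y₀
    rw [hb, hy₀, herm_add_right hF, add_eq_left] at h
    exact isotropic_prop hF hv hvv hww ((herm_comm_zero hF).1 h)
  · exact ⟨b⁻¹ * (c - 1), by
      rw [mul_smul, sub_smul, one_smul, e, add_sub_cancel_left, smul_smul, inv_mul_cancel₀ hb0, one_smul]⟩

include hF in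
/-- A subgroup isomorphic to `SU₂` fixes a unit vector. -/
theorem exists_fixed {A : Subgroup (Cfsg.SU 3 F q)} (eA : Cfsg.SU 2 F q ≃* A) :
    ∃ p : Fin 3 → F, hm p p = 1 ∧ ∀ a ∈ A, act a p = p := by
  classical
  obtain ⟨K, iK, fK, hK⟩ := exists_field_card hF
  haveI := Fintype.ofFinite K
  haveI := Fintype.ofFinite F
  obtain ⟨ι, U, e', -⟩ := exists_sl_two_conj hF hK
  let e : Matrix.SpecialLinearGroup (Fin 2) K →* Cfsg.SU 3 F q :=
    A.subtype.comp (e'.trans eA).toMonoidHom
  have hinj : Function.Injective e := Subtype.val_injective.comp (e'.trans eA).injective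
  have hsurj : ∀ a ∈ A, ∃ s, e s = a := fun a ha => by
    obtain ⟨s, hs⟩ := (e'.trans eA).surjective ⟨a, ha⟩
    exact ⟨s, congrArg Subtype.val hs⟩
  suffices h : ∃ p : Fin 3 → F, hm p p = 1 ∧ ∀ (i j : Fin 2) (hij : i ≠ j) (c : K),
      act (e (Matrix.SpecialLinearGroup.transvection hij c)) p = p by
    obtain ⟨p, hp, htr⟩ := h
    refine ⟨p, hp, fun a ha => ?_⟩
    obtain ⟨s, rfl⟩ := hsurj a ha
    exact CfsgLib.Linear.transvection_induction (fun s => act (e s) p = p) htr
      (fun X Y hX hY => by rw [map_mul, act_mul, hY, hX]) s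
  obtain ⟨p0, hp0⟩ := CharP.exists F
  haveI := hp0
  haveI : Fact p0.Prime := ⟨CharP.char_is_prime F p0⟩
  haveI : CharP K p0 := (RingHom.charP_iff_charP ι p0).2 hp0
  have htvp : ∀ (i j : Fin 2) (hij : i ≠ j) (c : K),
      Matrix.SpecialLinearGroup.transvection hij c ^ p0 = 1 := fun i j hij c => by
    rw [← CfsgLib.AutPSL.tv_cFlag i j hij c, CfsgLib.AutPSL.tv_pow_prime p0]
  by_cases h2 : (2 : F) = 0
  · have hp2 : p0 = 2 := by
      have : p0 ∣ 2 := (CharP.cast_eq_zero_iff F p0 2).1 (by exact_mod_cast h2)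
      exact (Nat.prime_dvd_prime_iff_eq Fact.out Nat.prime_two).1 this
    have hinv : ∀ (i j : Fin 2) (hij : i ≠ j) (c : K),
        e (Matrix.SpecialLinearGroup.transvection hij c) * e (Matrix.SpecialLinearGroup.transvection hij c) = 1 :=
      fun i j hij c => by
        have h := htvp i j hij c
        rw [hp2] at h
        rw [← map_mul, ← pow_two, h, map_one]
    have hne : ∀ (i j : Fin 2) (hij : i ≠ j), e (Matrix.SpecialLinearGroup.transvection hij (1 : K)) ≠ 1 :=
      fun i j hij h => by
        rw [← map_one e] at h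
        have := congrArg (fun M : Matrix.SpecialLinearGroup (Fin 2) K => (M : Matrix (Fin 2) (Fin 2) K) i j)
          (hinj h)
        simp [CfsgLib.Linear.transvec_coe, Matrix.transvection, hij] at this
    obtain ⟨v, x₀, hv, hvv, hvx, hvfix, hvall⟩ :=
      exists_centre hF h2 (hne 0 1 (by decide)) (hinv 0 1 (by decide) 1)
    obtain ⟨w, y₀, hw, hww, hwy, hwfix, hwall⟩ :=
      exists_centre hF h2 (hne 1 0 (by decide)) (hinv 1 0 (by decide) 1)
    have hvw : hm v w ≠ 0 := fun h => by
      obtain ⟨c, hc⟩ := isotropic_prop hF hv hvv hww ((herm_comm_zero hF).1 h)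
      have hcomm : e (Matrix.SpecialLinearGroup.transvection (show (0 : Fin 2) ≠ 1 by decide) (1 : K)) *
          e (Matrix.SpecialLinearGroup.transvection (show (1 : Fin 2) ≠ 0 by decide) (1 : K)) =
          e (Matrix.SpecialLinearGroup.transvection (show (1 : Fin 2) ≠ 0 by decide) (1 : K)) *
          e (Matrix.SpecialLinearGroup.transvection (show (0 : Fin 2) ≠ 1 by decide) (1 : K)) := by
        have hc0 : c ≠ 0 := fun e0 => hw (by rw [hc, e0, zero_smul])
        have hvfix' : act (e (Matrix.SpecialLinearGroup.transvection (show (1 : Fin 2) ≠ 0 by decide) (1 : K)))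
            v = v := by
          have := hwfix
          rw [hc, act_smul] at this
          exact smul_right_injective _ hc0 this
        refine act_eq_of_basis fun k => ?_
        rw [act_mul, act_mul]
        obtain ⟨a, ha⟩ := hvall (ev k)
        obtain ⟨b, hb⟩ := hwall (ev k)
        rw [ha, hb, act_add, act_add, ha, hb, hc, act_smul, act_smul, act_smul, hvfix, hvfix']
        abel
      rw [← map_mul, ← map_mul] at hcomm
      have := congrArg (fun M : Matrix.SpecialLinearGroup (Fin 2) K => (M : Matrix (Fin 2) (Fin 2) K) 0 0)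
        (hinj hcomm)
      simp [CfsgLib.Linear.transvec_coe, Matrix.transvection, Matrix.mul_apply, Fin.sum_univ_two] at this
    let φ : (Fin 3 → F) →ₗ[F] (Fin 2 → F) :=
      Matrix.mulVecLin (Matrix.of fun (i : Fin 2) j => ![v, w] i j ^ q)
    obtain ⟨p, hp, hp0'⟩ := (Submodule.ne_bot_iff _).1
      (show LinearMap.ker φ ≠ ⊥ from LinearMap.ker_ne_bot_of_finrank_lt (by simp))
    have hperp : hm p v = 0 ∧ hm p w = 0 := by
      have h0 := congrFun (LinearMap.mem_ker.1 hp) 0
      have h1 := congrFun (LinearMap.mem_ker.1 hp) 1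
      simp [φ, Matrix.mulVec, dotProduct] at h0 h1
      constructor <;> simp only [Cfsg.hermForm]
      · simpa [mul_comm] using h0
      · simpa [mul_comm] using h1
    have hpp : hm p p ≠ 0 := fun h => by
      obtain ⟨c, hc⟩ := isotropic_prop hF hv hvv h hperp.1
      have := hperp.2
      rw [hc, herm_smul_left] at this
      rcases mul_eq_zero.1 this with e0 | e0
      · exact hp0' (by rw [hc, e0, zero_smul])
      · exact hvw e0
    obtain ⟨d, hd⟩ := exists_unit_mul hF hpp
    refine ⟨d • p, hd, fun i j hij c => ?_⟩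
    rw [act_smul]
    congr 1
    have key : ∀ (i j : Fin 2) (hij : i ≠ j) (u x₁ : Fin 3 → F), u ≠ 0 → hm u u = 0 →
        act (e (Matrix.SpecialLinearGroup.transvection hij (1 : K))) x₁ = x₁ + u →
        (∀ x, ∃ c : F, act (e (Matrix.SpecialLinearGroup.transvection hij (1 : K))) x = x + c • u) →
        hm p u = 0 → ∀ c : K, act (e (Matrix.SpecialLinearGroup.transvection hij c)) p = p := by
      intro i j hij u x₁ hu huu hx₁ hall hpu c
      set t := e (Matrix.SpecialLinearGroup.transvection hij c) with ht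
      by_cases ht1 : t = 1
      · rw [ht1, act_one]
      obtain ⟨u', x₂, hu', huu', hx₂, -, hall'⟩ := exists_centre hF h2 ht1 (hinv i j hij c)
      obtain ⟨r, hr⟩ := centre_of_commute hF (t := e (Matrix.SpecialLinearGroup.transvection hij (1 : K)))
        (s := t) (by rw [ht, ← map_mul, ← map_mul, ← Matrix.SpecialLinearGroup.transvection_add,
          ← Matrix.SpecialLinearGroup.transvection_add, add_comm]) hu huu huu' hx₁ hx₂ hall hall'
      have hpu' : hm p u' = 0 := by rw [hr, herm_smul_right hF, hpu, mul_zero]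
      obtain ⟨a, ha⟩ := hall' p
      have hu'y : ∃ y, hm u' y ≠ 0 := by
        obtain ⟨k, hk⟩ := Function.ne_iff.1 hu'
        exact ⟨ev k, fun e0 => hk (by
          have := (herm_comm_zero hF).1 e0
          rw [ev, herm_single_left] at this
          exact eq_zero_of_pow_eq_zero this)⟩
      obtain ⟨y, hy⟩ := hu'y
      have h := act_herm t p y
      obtain ⟨b, hb⟩ := hall' y
      rw [ha, hb, herm_add_left, herm_add_right hF, herm_add_right hF, herm_smul_left, herm_smul_left,
        herm_smul_right hF, herm_smul_right hF, hpu', huu'] at h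
      have : a * hm u' y = 0 := by linear_combination h
      rw [ha, (mul_eq_zero.1 this).resolve_right hy, zero_smul, add_zero]
    fin_cases i <;> fin_cases j
    · exact absurd rfl hij
    · exact key 0 1 (by decide) v x₀ hv hvv hvx hvall hperp.1 c
    · exact key 1 0 (by decide) w y₀ hw hww hwy hwall hperp.2 c
    · exact absurd rfl hij
  · have hodd : Odd q := by
      obtain ⟨p, k, hcp, hp, hqk⟩ := exists_charP_pow hF
      haveI := hcp
      rw [hqk]
      refine Odd.pow (hp.odd_of_ne_two fun e2 => h2 ?_)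
      subst e2
      exact_mod_cast CharP.cast_eq_zero F 2
    have hp2 : p0 ≠ 2 := fun e2 => h2 (by subst e2; exact_mod_cast CharP.cast_eq_zero F 2)
    have h2K : (2 : K) ≠ 0 := fun h => h2 (by rw [← map_ofNat ι, h, map_zero])
    let z : Matrix.SpecialLinearGroup (Fin 2) K := ⟨-1, by simp [Matrix.det_neg]⟩
    have hz : e z ≠ 1 := fun h => by
      rw [← map_one e] at h
      have := congrArg (fun M : Matrix.SpecialLinearGroup (Fin 2) K => (M : Matrix (Fin 2) (Fin 2) K) 0 0) (hinj h)
      simp [z] at this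
      exact h2K (by linear_combination -this)
    obtain ⟨v, hv, hzv⟩ := SUThree.eq_refl_of_invol hF hodd hz
      (by rw [← map_mul, show z * z = 1 from Subtype.ext (show (-1 : Matrix (Fin 2) (Fin 2) K) * -1 = 1 by simp), map_one])
    refine ⟨v, hv, fun i j hij c => ?_⟩
    set T := Matrix.SpecialLinearGroup.transvection hij c with hT
    have hcomm : e T * e z * (e T)⁻¹ = e z := by
      rw [← map_inv, ← map_mul, ← map_mul]
      congr 1
      rw [mul_inv_eq_iff_eq_mul]
      exact Subtype.ext (show (T : Matrix (Fin 2) (Fin 2) K) * -1 = -1 * (T : Matrix (Fin 2) (Fin 2) K) by simp)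
    rw [hzv, SUThree.conj_refl hF _ hv] at hcomm
    obtain ⟨l, hl, hlv⟩ := (SUThree.refl_eq_iff hF hodd hv (by rw [SUThree.su_herm, hv])).1 hcomm
    have hiter : ∀ k : ℕ, act (e T ^ k) v = l ^ k • v := fun k => by
      induction k with
      | zero => rw [pow_zero, pow_zero, act_one, one_smul]
      | succ k ih =>
        rw [pow_succ, act_mul, show act (e T) v = l • v from hlv, act_smul, ih, smul_smul, ← pow_succ']
    have hlp : l ^ p0 = 1 := by
      have := hiter p0
      rw [← map_pow, hT, htvp, map_one, act_one] at this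
      obtain ⟨k, hk⟩ := Function.ne_iff.1 (show v ≠ 0 from fun e0 => by
        rw [e0, herm_zero_left hF] at hv; exact zero_ne_one hv)
      have e1 := congrFun this k
      simp only [Pi.smul_apply, smul_eq_mul] at e1
      exact mul_right_cancel₀ hk (by rw [one_mul]; exact e1.symm)
    have hl1 : l = 1 := by
      apply frobenius_inj F p0
      rw [frobenius_def, frobenius_def, hlp, one_pow]
    show act (e T) v = v
    rw [show act (e T) v = l • v from hlv, hl1, one_smul]

include hF in
theorem exists_move_line {p : Fin 3 → F} (hp : hm p p = 1) :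
    ∃ g : Cfsg.SU 3 F q, act g (ev (2 : Fin 3)) = p := by
  obtain ⟨g, hg⟩ := exists_ext hF (ι := ![(2 : Fin 3)]) (fun a b _ => Subsingleton.elim a b) (by omega)
    (orth_one hF hp)
  exact ⟨g, hg 0⟩

include hF in
theorem range_win01 : (emb (F := F) (q := q) (win 0 2 3 (by omega))).range = St q (ev (2 : Fin 3) : Fin 3 → F) := by
  ext g
  rw [mem_range_emb hF, mem_St]
  constructor
  · exact fun h => h 2 (by rw [mem_range_win]; simp)
  · intro h j hj
    rw [mem_range_win] at hj
    obtain rfl : j = 2 := Fin.ext (by simp; omega)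
    exact h

include hF in
theorem range_win12 : (emb (F := F) (q := q) (win 1 2 3 (by omega))).range = St q (ev (0 : Fin 3) : Fin 3 → F) := by
  ext g
  rw [mem_range_emb hF, mem_St]
  constructor
  · exact fun h => h 0 (by rw [mem_range_win]; simp)
  · intro h j hj
    rw [mem_range_win] at hj
    obtain rfl : j = 0 := Fin.ext (by simp; omega)
    exact h

theorem map_conj_St {n : ℕ} {g : Cfsg.SU n F q} {a p : Fin n → F} (hg : act g a = p) :
    (St q a).map (MulAut.conj g).toMonoidHom = St q p := by
  ext x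
  constructor
  · rintro ⟨y, hy, rfl⟩
    show act (g * y * g⁻¹) p = p
    rw [act_mul, act_mul, act_inv_eq hg, mem_St.1 hy, hg]
  · intro hx
    refine ⟨g⁻¹ * x * g, ?_, by simp [mul_assoc]⟩
    show act (g⁻¹ * x * g) a = a
    rw [act_mul, act_mul, hg, mem_St.1 hx, act_inv_eq hg]

include hF in
theorem eq_St {A : Subgroup (Cfsg.SU 3 F q)} (eA : Cfsg.SU 2 F q ≃* A) {p : Fin 3 → F}
    (hp : hm p p = 1) (hA : ∀ a ∈ A, act a p = p) : A = St q p := by
  obtain ⟨g, hg⟩ := exists_move_line hF hp
  refine Subgroup.eq_of_le_of_card_ge (fun a ha => hA a ha) (le_of_eq ?_)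
  rw [← map_conj_St hg, ← range_win01 hF, ← MonoidHom.range_comp]
  refine (Nat.card_congr (MonoidHom.ofInjective
    (f := (MulAut.conj g).toMonoidHom.comp (emb (win 0 2 3 (by omega)))) ?_).toEquiv).symm.trans
    (Nat.card_congr eA.toEquiv)
  exact (MulAut.conj g).injective.comp (emb_injective _)

include hF in
/-- A semisimple element of a point stabiliser fixes one line only. -/
theorem fixed_line {r y : Fin 3 → F} (hr : hm r r = 1) {b : Cfsg.SU 3 F q} (hb : act b r = r)
    (hb1 : b ≠ 1) (hbq : b ^ (q + 1) = 1) (hy : act b y = y) : ∃ μ : F, y = μ • r := by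
  classical
  obtain ⟨g, hg⟩ := exists_move_line hF hr
  have hmem : g⁻¹ * b * g ∈ (emb (F := F) (q := q) (win 0 2 3 (by omega))).range := by
    rw [range_win01 hF, mem_St, act_mul, act_mul, hg, hb, act_inv_eq hg]
  obtain ⟨X, hX⟩ := hmem
  set x := act g⁻¹ y with hx
  have hbx : act (emb (win 0 2 3 (by omega)) X) x = x := by
    rw [hX, act_mul, act_mul, hx, act_act_inv, hy]
  set f := win 0 2 3 (by omega) with hf
  have hXz : act X (fun a => x (f a)) = fun a => x (f a) := funext fun a => by
    have h1 := blk_mulVec f (suMat X) x (Sum.inl a)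
    rw [split_inl, Sum.elim_inl] at h1
    exact h1.symm.trans (congrFun hbx (f a))
  by_cases hz : (fun a => x (f a)) = 0
  · refine ⟨x 2, ?_⟩
    have h0 : x = x 2 • ev (2 : Fin 3) := funext fun i => by
      fin_cases i
      · simp [ev]; exact congrFun hz 0
      · simp [ev]; exact congrFun hz 1
      · simp [ev]
    have := congrArg (act g) h0
    rwa [hx, act_act_inv, act_smul, hg] at this
  exfalso
  obtain ⟨p, k, hcp, hp, hqk⟩ := exists_charP_pow hF
  haveI := hcp
  haveI : Fact p.Prime := ⟨hp⟩
  set N := suMat X - 1 with hN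
  have hdet : N.det = 0 := Matrix.exists_mulVec_eq_zero_iff.1
    ⟨fun a => x (f a), hz, by rw [hN, Matrix.sub_mulVec, Matrix.one_mulVec]; exact sub_eq_zero.2 hXz⟩
  have hX1 : (suMat X).det = 1 := X.1.2
  rw [Matrix.det_fin_two] at hdet hX1
  simp only [hN, Matrix.sub_apply, Matrix.one_apply] at hdet
  simp at hdet
  have hNN : N * N = 0 := by
    ext i j
    fin_cases i <;> fin_cases j <;> simp [hN, Matrix.mul_apply, Fin.sum_univ_two]
    · linear_combination -(suMat X 0 0) * hdet + (suMat X 0 0 - 1) * hX1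
    · linear_combination -(suMat X 0 1) * hdet + (suMat X 0 1) * hX1
    · linear_combination -(suMat X 1 0) * hdet + (suMat X 1 0) * hX1
    · linear_combination -(suMat X 1 1) * hdet + (suMat X 1 1 - 1) * hX1
  have hXp : X ^ p = 1 := by
    refine Subtype.ext (Subtype.ext ?_)
    show suMat (X ^ p) = 1
    have hpow : ∀ k : ℕ, suMat (X ^ k) = suMat X ^ k := fun k => by
      induction k with
      | zero => rw [pow_zero, pow_zero, suMat_one]
      | succ k ih => rw [pow_succ, pow_succ, suMat_mul, ih]
    rw [hpow, show suMat X = N + 1 by rw [hN, sub_add_cancel],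
      add_pow_char_of_commute p (Commute.one_right N), one_pow]
    obtain ⟨c, hc⟩ := Nat.exists_eq_add_of_le hp.two_le
    rw [hc, pow_add, pow_two, hNN, zero_mul, zero_add]
  have hXq : X ^ (q + 1) = 1 := by
    apply emb_injective f
    rw [map_pow, hX, map_one, show g⁻¹ * b * g = g⁻¹ * b * g⁻¹⁻¹ by rw [inv_inv], conj_pow, hbq]
    group
  have hco : Nat.Coprime p (q + 1) := by
    refine hp.coprime_iff_not_dvd.2 fun hd => ?_
    rcases Nat.eq_zero_or_pos k with hk | hk
    · have := two_le_q hF; rw [hqk, hk, pow_zero] at this; omega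
    · have : p ∣ q := hqk ▸ dvd_pow_self p (by omega)
      exact hp.one_lt.ne' (Nat.dvd_one.1 ((Nat.dvd_add_right this).1 hd))
  have hX_one : X = 1 := by
    have := pow_gcd_eq_one.2 ⟨hXp, hXq⟩
    rwa [hco.gcd_eq_one, pow_one] at this
  rw [hX_one, map_one] at hX
  exact hb1 (by
    have := congrArg (fun w => g * w * g⁻¹) hX
    simpa [mul_assoc] using this.symm)

include hF in
/-- Commuting tori force a standard pair. -/
theorem exists_std {A B : Subgroup (Cfsg.SU 3 F q)} (eA : Cfsg.SU 2 F q ≃* A) (eB : Cfsg.SU 2 F q ≃* B)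
    (hgen : A ⊔ B = ⊤) {a b : Cfsg.SU 3 F q} (ha : a ∈ A) (hb : b ∈ B) (ha1 : a ≠ 1) (hb1 : b ≠ 1)
    (haq : a ^ (q + 1) = 1) (hbq : b ^ (q + 1) = 1) (hab : a * b = b * a) :
    ∃ g : Cfsg.SU 3 F q,
      (emb (F := F) (q := q) (win 0 2 3 (by omega))).range.map (MulAut.conj g).toMonoidHom = A ∧
      (emb (F := F) (q := q) (win 1 2 3 (by omega))).range.map (MulAut.conj g).toMonoidHom = B := by
  obtain ⟨p, hp, hA⟩ := exists_fixed hF eA
  obtain ⟨r, hr, hB⟩ := exists_fixed hF eB
  have hAe := eq_St hF eA hp hA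
  have hBe := eq_St hF eB hr hB
  obtain ⟨μ, hμ⟩ := fixed_line hF hr (hB b hb) hb1 hbq (y := act a r) (by
    rw [← act_mul, ← hab, act_mul, hB b hb])
  have hpr : hm p r = 0 := by
    by_contra hne
    have h := act_herm a p r
    rw [hA a ha, hμ, herm_smul_right hF] at h
    have hμ1 : μ = 1 := by
      have h1 : μ ^ q = 1 := mul_right_cancel₀ hne (by rw [one_mul]; exact h)
      have := pow_q_q hF μ
      rw [h1, one_pow] at this
      exact this.symm
    rw [hμ1, one_smul] at hμ
    obtain ⟨ν, hν⟩ := fixed_line hF hp (hA a ha) ha1 haq hμ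
    have hsub : St q r ≤ St q p := fun x hx => by
      have hν0 : ν ≠ 0 := fun e0 => by rw [hν, e0, zero_smul, herm_zero_left hF] at hr; exact zero_ne_one hr
      have h' := mem_St.1 hx
      rw [hν, act_smul] at h'
      exact smul_right_injective _ hν0 h'
    have htop : (⊤ : Subgroup (Cfsg.SU 3 F q)) ≤ St q p := by
      rw [← hgen, hAe, hBe]; exact sup_le le_rfl hsub
    obtain ⟨g, hg⟩ := exists_move_line hF hp
    obtain ⟨w, hw⟩ := exists_swap hF (show (2 : Fin 3) ≠ 0 by decide) 1
    have h2 := mem_St.1 (htop (Subgroup.mem_top (g * w * g⁻¹)))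
    rw [act_mul, act_mul, act_inv_eq hg, hw, if_neg (by decide), one_smul, Equiv.swap_apply_left] at h2
    have := congrArg (act g⁻¹) h2
    rw [act_inv_act, act_inv_eq hg] at this
    exact absurd (congrFun this 0) (by simp [ev])
  obtain ⟨g, hg⟩ := exists_ext hF (ι := ![(2 : Fin 3), 0])
    (fun x y e => by fin_cases x <;> fin_cases y <;> simp at e ⊢) (by omega) (orth_two hF hp hr hpr)
  refine ⟨g, ?_, ?_⟩
  · rw [range_win01 hF, map_conj_St (show act g (ev 2) = p from hg 0), hAe]
  · rw [range_win12 hF, map_conj_St (show act g (ev 0) = r from hg 1), hBe]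

end CfsgLib.Phan
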