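import Cfsg.Agent.Phan.Gen

/-!
Gluing two unitary groups along their common part.
-/

set_option autoImplicit false
set_option linter.unusedSectionVars false
set_option linter.style.haveILetI false

namespace CfsgLib.Phan

open Matrix CfsgLib.Forms CfsgLib.Unitary

variable {F : Type*} [Field F] [Finite F] {q : ℕ} (hF : Nat.card F = q ^ 2)

local notation "hm" => Cfsg.hermForm _ F q

theorem emb_win' {i r k : ℕ} (h : i + r ≤ k) {i' r' : ℕ} (h' : i' + r' ≤ r) {l : ℕ} (e : i + i' = l)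
    (X : Cfsg.SU r' F q) :
    emb (win i r k h) (emb (win i' r' r h') X) = emb (win l r' k (by omega)) X := by
  subst e; exact emb_win h h' X

include hF in
/-- An element fixing the coordinates outside a window comes from it. -/
theorem exists_emb_win {i r k : ℕ} (h : i + r ≤ k) {g : Cfsg.SU k F q}
    (hg : ∀ j : Fin k, (j.1 < i ∨ i + r ≤ j.1) → act g (ev j) = ev j) :
    ∃ X, emb (win i r k h) X = g :=
  (mem_range_emb hF).2 fun j hj => hg j (by rw [mem_range_win] at hj; omega)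

theorem act_emb_win_outside {i r k : ℕ} (h : i + r ≤ k) (X : Cfsg.SU r F q) {j : Fin k}
    (hj : j.1 < i ∨ i + r ≤ j.1) : act (emb (win i r k h) X) (ev j) = ev j :=
  act_emb_outside _ X (by rw [mem_range_win]; omega)

include hF in
/-- **The step.** -/
theorem exists_hom_step {m : ℕ} (hm2 : 2 ≤ m) (hq : m = 2 → 4 ≤ q) {G : Type*} [Group G]
    (A B : Cfsg.SU (m + 1) F q →* G)
    (hagree : ∀ X : Cfsg.SU m F q,
      B (emb (win 1 m (m + 1) (by omega)) X) = A (emb (win 0 m (m + 1) (by omega)) X))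
    (hC2 : ∀ (X : Cfsg.SU 2 F q) (Y : Cfsg.SU m F q),
      Commute (B (emb (win 0 2 (m + 1) (by omega)) X)) (A (emb (win 1 m (m + 1) (by omega)) Y)))
    (hC3 : ∀ (h3 : 3 ≤ m) (X : Cfsg.SU 3 F q) (Y : Cfsg.SU (m - 1) F q),
      Commute (B (emb (win 0 3 (m + 1) (by omega)) X)) (A (emb (win 2 (m - 1) (m + 1) (by omega)) Y))) :
    ∃ Φ : Cfsg.SU (m + 2) F q →* G,
      (∀ X, Φ (emb (win 1 (m + 1) (m + 2) (by omega)) X) = A X) ∧
        ∀ X, Φ (emb (win 0 (m + 1) (m + 2) (by omega)) X) = B X := by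
  classical
  set w1 := win 1 (m + 1) (m + 2) (by omega) with hw1
  set w0 := win 0 (m + 1) (m + 2) (by omega) with hw0
  let i0 : Fin (m + 2) := ⟨0, by omega⟩
  let i1 : Fin (m + 2) := ⟨1, by omega⟩
  let i2 : Fin (m + 2) := ⟨2, by omega⟩
  let il : Fin (m + 2) := ⟨m + 1, by omega⟩
  have n01 : i0 ≠ i1 := fun e => by simpa [i0, i1] using congrArg Fin.val e
  have n02 : i0 ≠ i2 := fun e => by simpa [i0, i2] using congrArg Fin.val e
  have n12 : i1 ≠ i2 := fun e => by simpa [i1, i2] using congrArg Fin.val e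
  have n0l : il ≠ i0 := fun e => by simpa [i0, il] using congrArg Fin.val e
  have n1l : il ≠ i1 := fun e => by have := congrArg Fin.val e; simp [i1, il] at this; omega
  have n2l : il ≠ i2 := fun e => by have := congrArg Fin.val e; simp [i2, il] at this; omega
  -- the map on the point stabiliser
  have hle : St q (ev i0 : Fin (m + 2) → F) ≤ (emb (F := F) (q := q) w1).range := fun g hg => by
    obtain ⟨X, hX⟩ := exists_emb_win hF (i := 1) (r := m + 1) (by omega) (g := g) fun j hj => by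
      obtain rfl : j = i0 := Fin.ext (by simp only [i0]; omega)
      exact hg
    exact ⟨X, hX⟩
  have hinj : Function.Injective (emb (F := F) (q := q) w1) := emb_injective w1
  let φ : St q (ev i0 : Fin (m + 2) → F) →* G :=
    A.comp ((MonoidHom.ofInjective hinj).symm.toMonoidHom.comp (Subgroup.inclusion hle))
  have φspec : ∀ {g : Cfsg.SU (m + 2) F q} (h : g ∈ St q (ev i0 : Fin (m + 2) → F)) {X},
      emb w1 X = g → φ ⟨g, h⟩ = A X := by
    intro g h X e
    subst e
    show A ((MonoidHom.ofInjective hinj).symm _) = A X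
    refine congrArg A ((MonoidHom.ofInjective hinj).symm_apply_eq.2 ?_)
    exact Subtype.ext rfl
  have key : ∀ {g : Cfsg.SU (m + 2) F q} (h : g ∈ St q (ev i0 : Fin (m + 2) → F)) {Z},
      emb w0 Z = g → φ ⟨g, h⟩ = B Z := by
    intro g h Z e
    obtain ⟨Y, hY⟩ := exists_emb_win hF (i := 1) (r := m) (k := m + 2) (by omega) (g := g) fun j hj => by
      rcases hj with hj | hj
      · obtain rfl : j = i0 := Fin.ext (by simp only [i0]; omega)
        exact h
      · rw [← e]; exact act_emb_win_outside _ Z (by omega)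
    have e1 : emb w1 (emb (win 0 m (m + 1) (by omega)) Y) = g := by
      rw [hw1, emb_win' (l := 1) _ _ rfl, hY]
    have e0 : emb (win 1 m (m + 1) (by omega)) Y = Z := by
      apply emb_injective w0
      rw [e, hw0, emb_win' (l := 1) _ _ rfl, hY]
    rw [φspec h e1, ← e0, hagree]
  -- the reversing element
  obtain ⟨τ, hτ⟩ := exists_swap hF n01 i2
  obtain ⟨τ1, hτ1⟩ := exists_swap hF n01 i1
  obtain ⟨σ, hσ⟩ := exists_swap hF n12 i2
  have sfix : ∀ {a b j : Fin (m + 2)} {g : Cfsg.SU (m + 2) F q},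
      (∀ k, act g (ev k) = (if k = j then (-1 : F) else 1) • ev (Equiv.swap a b k)) →
        ∀ k, k ≠ a → k ≠ b → k ≠ j → act g (ev k) = ev k := fun hg k ha hb hj => by
    rw [hg, if_neg hj, one_smul, Equiv.swap_apply_of_ne_of_ne ha hb]
  have hτ0 : act τ (ev i0) = ev i1 := by rw [hτ, if_neg n02, one_smul, Equiv.swap_apply_left]
  have hτ1' : act τ (ev i1) = ev i0 := by rw [hτ, if_neg n12, one_smul, Equiv.swap_apply_right]
  have hτ2 : act τ (ev i2) = -ev i2 := by
    rw [hτ, if_pos rfl, Equiv.swap_apply_of_ne_of_ne n02.symm n12.symm, neg_one_smul]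
  have hτl : act τ (ev il) = ev il := sfix hτ il n0l n1l n2l
  have hτsq : τ * τ = 1 := act_eq_of_basis fun k => by
    rw [act_mul, act_one, hτ, act_smul, hτ, smul_smul, Equiv.swap_apply_self]
    by_cases h : k = i2
    · subst h; rw [Equiv.swap_apply_of_ne_of_ne n02.symm n12.symm, if_pos rfl]; simp
    · have h' : Equiv.swap i0 i1 k ≠ i2 := fun e => h (by
        rw [← Equiv.swap_apply_self i0 i1 k, e, Equiv.swap_apply_of_ne_of_ne n02.symm n12.symm])
      rw [if_neg h, if_neg h']; simp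
  have low : ∀ {g : Cfsg.SU (m + 2) F q}, act g (ev il) = ev il → ∃ Z, emb w0 Z = g := fun {g} hg => by
    refine exists_emb_win hF (i := 0) (r := m + 1) (by omega) fun j hj => ?_
    obtain rfl : j = il := Fin.ext (by simp only [il]; omega)
    exact hg
  obtain ⟨τ', eτ⟩ := low hτl
  obtain ⟨X2, eτ1⟩ := exists_emb_win hF (i := 0) (r := 2) (k := m + 2) (by omega) (g := τ1) fun j hj =>
    sfix hτ1 j (fun e => by subst e; simp [i0] at hj) (fun e => by subst e; simp [i1] at hj)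
      (fun e => by subst e; simp [i1] at hj)
  set τ1' := emb (win 0 2 (m + 1) (by omega)) X2 with hτ1'def
  have eτ1' : emb w0 τ1' = τ1 := by rw [hτ1'def, hw0, emb_win' (l := 0) _ _ rfl, eτ1]
  have hσl : act σ (ev il) = ev il := sfix hσ il n1l n2l n2l
  obtain ⟨σ', eσ⟩ := low hσl
  have hσ0 : act σ (ev i0) = ev i0 := sfix hσ i0 n01 n02 n02
  have hσ1 : act σ (ev i1) = ev i2 := by rw [hσ, if_neg n12, one_smul, Equiv.swap_apply_left]
  have hσ2 : act σ (ev i2) = -ev i1 := by rw [hσ, if_pos rfl, Equiv.swap_apply_right, neg_one_smul]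
  have hneg : ∀ (g : Cfsg.SU (m + 2) F q) (v : Fin (m + 2) → F), act g (-v) = -act g v := fun g v => by
    rw [← neg_one_smul F v, act_smul, neg_one_smul]
  have hσ3 : (τ * σ) ^ 3 ∈ St q (ev i0 : Fin (m + 2) → F) := by
    rw [mem_St, pow_three, act_mul, act_mul, act_mul, act_mul, act_mul, hσ0, hτ0, hσ1, hτ2, hneg, hσ2,
      neg_neg, hτ1']
  -- the complementary element
  have hδ0 : act (τ1⁻¹ * τ) (ev i0) = ev i0 := by
    rw [act_mul, hτ0]
    exact act_inv_eq (by rw [hτ1, if_neg n01, one_smul, Equiv.swap_apply_left])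
  have hδ1 : act (τ1⁻¹ * τ) (ev i1) = -ev i1 := by
    rw [act_mul, hτ1']
    exact act_inv_eq (by rw [hneg, hτ1, if_pos rfl, Equiv.swap_apply_right, neg_one_smul, neg_neg])
  have hTT : B τ' * B τ' = 1 := by
    rw [← map_mul, show τ' * τ' = 1 from emb_injective w0 (by rw [map_mul, eτ, hτsq, map_one]), map_one]
  have H1 : ∀ (k : Cfsg.SU (m + 2) F q) (h : k ∈ St q (ev i0 : Fin (m + 2) → F))
      (h' : τ * k * τ ∈ St q (ev i0 : Fin (m + 2) → F)), B τ' * φ ⟨k, h⟩ * B τ' = φ ⟨τ * k * τ, h'⟩ := by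
    intro k h h'
    have hk1 : act k (ev i1) = ev i1 := by
      have e := congrArg (act τ) (mem_St.1 h')
      rwa [act_mul, act_mul, hτ0, ← act_mul τ τ, hτsq, act_one] at e
    set δ := τ1⁻¹ * τ with hδ
    set δ' := τ1'⁻¹ * τ' with hδ'
    have eδ : emb w0 δ' = δ := by rw [hδ', map_mul, map_inv, eτ1', eτ]
    set k' := δ * k * δ⁻¹ with hk'
    have hδi0 : act δ⁻¹ (ev i0) = ev i0 := act_inv_eq hδ0
    have hδi1 : act δ⁻¹ (ev i1) = -ev i1 := act_inv_eq (by rw [hneg, hδ1, neg_neg])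
    have hk'0 : act k' (ev i0) = ev i0 := by rw [hk', act_mul, act_mul, hδi0, mem_St.1 h, hδ0]
    have hk'1 : act k' (ev i1) = ev i1 := by
      rw [hk', act_mul, act_mul, hδi1, hneg, hk1, hneg, hδ1, neg_neg]
    obtain ⟨Y, eY⟩ := exists_emb_win hF (i := 2) (r := m) (k := m + 2) (by omega) (g := k') fun j hj => by
      rcases (show j.1 = 0 ∨ j.1 = 1 by omega) with e | e
      · obtain rfl : j = i0 := Fin.ext e
        exact hk'0
      · obtain rfl : j = i1 := Fin.ext e
        exact hk'1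
    have hAY : φ ⟨k', hk'0⟩ = A (emb (win 1 m (m + 1) (by omega)) Y) :=
      φspec _ (by rw [hw1, emb_win' (l := 2) _ _ rfl, eY])
    have hcomm : Commute (B τ1') (φ ⟨k', hk'0⟩) := hAY ▸ hC2 X2 Y
    have ek : τ * k * τ = k' := by
      have hc : τ1 * k' = k' * τ1 := by
        rw [← eτ1, ← eY]
        exact commute_emb _ _ (fun a b e => by have := congrArg Fin.val e; simp at this; omega) _ _
      calc τ * k * τ = τ1 * k' * τ1⁻¹ := by
            rw [hk', hδ]
            have : τ⁻¹ = τ := inv_eq_of_mul_eq_one_right hτsq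
            simp [mul_assoc, this]
        _ = k' := by rw [hc, mul_inv_cancel_right]
    have eφ : φ ⟨k', hk'0⟩ = B δ' * φ ⟨k, h⟩ * (B δ')⁻¹ := by
      rw [show (⟨k', hk'0⟩ : St q (ev i0 : Fin (m + 2) → F)) = ⟨δ, hδ0⟩ * ⟨k, h⟩ * ⟨δ, hδ0⟩⁻¹ from rfl,
        map_mul, map_mul, map_inv, key hδ0 eδ]
    have et : B τ' = B τ1' * B δ' := by rw [← map_mul, hδ', mul_inv_cancel_left]
    rw [show (⟨τ * k * τ, h'⟩ : St q (ev i0 : Fin (m + 2) → F)) = ⟨k', hk'0⟩ from Subtype.ext ek]
    calc B τ' * φ ⟨k, h⟩ * B τ' = B τ' * φ ⟨k, h⟩ * (B τ')⁻¹ := by rw [inv_eq_of_mul_eq_one_right hTT]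
      _ = B τ1' * φ ⟨k', hk'0⟩ * (B τ1')⁻¹ := by rw [et, eφ]; group
      _ = φ ⟨k', hk'0⟩ := by rw [hcomm.eq, mul_inv_cancel_right]
  let C : Cov F q (m + 2) G :=
    { h4 := by omega
      i0 := i0
      i1 := i1
      hne := n01
      φ := φ
      t := B τ'
      τ := τ
      τ0 := hτ0
      τ1 := hτ1'
      τsq := hτsq
      σ := σ
      σ0 := hσ0
      σ1 := by
        rw [act_mul, hσ1, hτ2, herm_neg_left hF, herm_ev hF, if_neg n02.symm, neg_zero]
      σ3 := hσ3
      H1 := H1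
      H2 := hTT
      H3 := by
        rw [key hσ0 eσ, key hσ3 (Z := (τ' * σ') ^ 3) (by rw [map_pow, map_mul, eτ, eσ]), map_pow, map_mul] }
  -- commuting blocks
  have hComm : ∀ {d : ℕ} (ι : Fin d → Fin (m + 2)) (hd : 2 ≤ d) (hdm : d ≤ m)
      (hι : Function.Injective ι) (i₀ : Fin d) (hi₀v : i₀.1 = 0) (hi₀ : ι i₀ = i0)
      (hι1 : ∀ i, ι i ≠ i1) (hιl : ∀ i, ι i ≠ il),
      (∀ (X : Cfsg.SU d F q) (Y : Cfsg.SU (m + 2 - d) F q),
        Commute (B (emb (win 0 d (m + 1) (by omega)) X))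
          (A (emb (win (d - 1) (m + 2 - d) (m + 1) (by omega)) Y))) → C.Comm ι := by
    intro d ι hd hdm hι i₀ hi₀v hi₀ hι1 hιl hc
    refine ⟨hι, hd, by omega, ⟨i₀, hi₀⟩, hι1, ?_⟩
    show ∀ (g u : Cfsg.SU (m + 2) F q) (hg : τ * g * τ ∈ St q (ev i0 : Fin (m + 2) → F))
      (hu : u ∈ St q (ev i0 : Fin (m + 2) → F)),
      (∀ j, (∀ i, ι i ≠ j) → act g (ev j) = ev j) → (∀ i, act u (ev (ι i)) = ev (ι i)) →
        Commute (B τ' * φ ⟨_, hg⟩ * B τ') (φ ⟨u, hu⟩)
    intro g u hg hu hgfix hufix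
    let κ : Fin d → Fin (m + 2) := fun i => ⟨i.1, by omega⟩
    have hκ : Function.Injective κ := fun a b e => Fin.ext (congrArg Fin.val e :)
    have hκl : ∀ i, κ i ≠ il := fun i e => by
      have := congrArg Fin.val e; simp [κ, il] at this; omega
    let κ' : Fin (d + 1) → Fin (m + 2) := Fin.cons il κ
    obtain ⟨π, hπ⟩ := exists_ext hF (ι := Fin.cons il ι)
      (Fin.cons_injective_iff.2 ⟨fun ⟨i, hi⟩ => hιl i hi, hι⟩) (by omega)
      (f := fun i => (ev (κ' i) : Fin (m + 2) → F))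
      (orth_ev hF (ι := κ') (Fin.cons_injective_iff.2 ⟨fun ⟨i, hi⟩ => hκl i hi, hκ⟩))
    have hπι : ∀ i, act π (ev (ι i)) = ev (κ i) := fun i => by simpa [κ'] using hπ i.succ
    have hπl : act π (ev il) = ev il := by simpa [κ'] using hπ 0
    have hπ0 : π ∈ St q (ev i0 : Fin (m + 2) → F) := by
      rw [mem_St]; nth_rw 1 [← hi₀]; rw [hπι]
      exact congrArg ev (Fin.ext hi₀v)
    obtain ⟨P, eP⟩ := low hπl
    have hgl : act g (ev il) = ev il := hgfix il hιl
    obtain ⟨g', eg⟩ := low hgl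
    have hBg : B τ' * φ ⟨τ * g * τ, hg⟩ * B τ' = B g' := by
      rw [key hg (Z := τ' * g' * τ') (by rw [map_mul, map_mul, eτ, eg]), map_mul, map_mul,
        show B τ' * (B τ' * B g' * B τ') * B τ' = B τ' * B τ' * B g' * (B τ' * B τ') by group, hTT, one_mul,
        mul_one]
    rw [hBg]
    obtain ⟨X, eX⟩ := exists_emb_win hF (i := 0) (r := d) (k := m + 2) (by omega) (g := π * g * π⁻¹)
      fun j hj => by
        have hx : act g (act π⁻¹ (ev j)) = act π⁻¹ (ev j) := fixes_perp hF hgfix fun i => by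
          rw [← act_herm π, act_act_inv, hπι, herm_ev hF, if_neg]
          intro e; subst e; simp [κ] at hj; omega
        rw [act_mul, act_mul, hx, act_act_inv]
    have hu'i : ∀ i, act (π * u * π⁻¹) (ev (κ i)) = ev (κ i) := fun i => by
      rw [act_mul, act_mul, show act π⁻¹ (ev (κ i)) = ev (ι i) from act_inv_eq (hπι i), hufix, hπι]
    obtain ⟨Y, eY⟩ := exists_emb_win hF (i := d) (r := m + 2 - d) (k := m + 2) (by omega)
      (g := π * u * π⁻¹) fun j hj => by
        have e : j = κ ⟨j.1, by omega⟩ := Fin.ext rfl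
        rw [e]; exact hu'i _
    have hu' : π * u * π⁻¹ ∈ St q (ev i0 : Fin (m + 2) → F) :=
      mul_mem (mul_mem hπ0 hu) (inv_mem hπ0)
    have e1 : emb (win 0 d (m + 1) (by omega)) X = P * g' * P⁻¹ := by
      apply emb_injective w0
      rw [hw0, emb_win' (l := 0) _ _ rfl, eX, map_mul, map_mul, map_inv, ← hw0, eP, eg]
    have e2 : A (emb (win (d - 1) (m + 2 - d) (m + 1) (by omega)) Y) = B P * φ ⟨u, hu⟩ * (B P)⁻¹ := by
      rw [← φspec hu' (by rw [hw1, emb_win' (l := d) _ _ (by omega), eY]),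
        show (⟨π * u * π⁻¹, hu'⟩ : St q (ev i0 : Fin (m + 2) → F)) = ⟨π, hπ0⟩ * ⟨u, hu⟩ * ⟨π, hπ0⟩⁻¹ from rfl,
        map_mul, map_mul, map_inv, key hπ0 eP]
    have h := hc X Y
    rw [e1, e2, map_mul, map_mul, map_inv] at h
    exact (Commute.conj_iff _).1 h
  have hC2' : C.Comm ![i0, i2] := hComm ![i0, i2] le_rfl hm2
    (fun a b e => by fin_cases a <;> fin_cases b <;> simp [n02, n02.symm] at e ⊢) 0 rfl rfl
    (fun i => by fin_cases i <;> simp [n01, n12.symm])
    (fun i => by fin_cases i <;> simp [n0l.symm, n2l.symm])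
    (fun X Y => hC2 X Y)
  have hΦ : ∃ Φ : Cfsg.SU (m + 2) F q →* G,
      (∀ k (h : k ∈ St q (ev i0 : Fin (m + 2) → F)), Φ k = φ ⟨k, h⟩) ∧ Φ τ = B τ' := by
    rcases Nat.lt_or_ge m 3 with h | h
    · exact C.exists_hom_four hF (by omega) (hq (by omega)) hC2' rfl
    · let i3 : Fin (m + 2) := ⟨3, by omega⟩
      have n03 : i0 ≠ i3 := fun e => by simpa [i0, i3] using congrArg Fin.val e
      have n13 : i1 ≠ i3 := fun e => by simpa [i1, i3] using congrArg Fin.val e
      have n23 : i2 ≠ i3 := fun e => by simpa [i2, i3] using congrArg Fin.val e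
      have n3l : i3 ≠ il := fun e => by have := congrArg Fin.val e; simp [i3, il] at this; omega
      have hC3' : C.Comm ![i0, i2, i3] := hComm ![i0, i2, i3] (by omega) h
        (fun a b e => by
          fin_cases a <;> fin_cases b <;> simp [n02, n02.symm, n03, n03.symm, n23, n23.symm] at e ⊢)
        0 rfl rfl
        (fun i => by fin_cases i <;> simp [n01, n12.symm, n13.symm])
        (fun i => by fin_cases i <;> simp [n0l.symm, n2l.symm, n3l])
        (fun X Y => hC3 h X Y)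
      exact C.exists_hom_large hF (by omega) hC2' rfl hC3' rfl
  obtain ⟨Φ, hΦφ, hΦτ⟩ := hΦ
  have hA : ∀ X, Φ (emb w1 X) = A X := fun X => by
    rw [hΦφ _ (act_emb_win_outside _ X (by simp [i0]))]; exact φspec _ rfl
  refine ⟨Φ, hA, fun X => ?_⟩
  suffices e : Φ.comp (emb w0) = B from DFunLike.congr_fun e X
  have hK : ∀ {K : Subgroup (Cfsg.SU (m + 1) F q)}, (∀ g, act g (ev (⟨0, by omega⟩ : Fin (m + 1))) =
      ev (⟨0, by omega⟩ : Fin (m + 1)) → g ∈ K) → τ' ∈ K → K = ⊤ := fun {K} h1 h2 => by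
    refine eq_top_of_st hF (by omega) (fun e => by have := hq (by omega); omega)
      (i0 := (⟨0, by omega⟩ : Fin (m + 1))) (i1 := ⟨1, by omega⟩) (by simp) h1 h2 ?_
    have e := hτ0
    rw [← eτ, show i0 = w0 ⟨0, by omega⟩ from Fin.ext (by simp [hw0, i0]), act_emb_ev,
      show i1 = w0 ⟨1, by omega⟩ from Fin.ext (by simp [hw0, i1]), ← extend_ev] at e
    funext a
    have := congrFun e (w0 a)
    rwa [w0.injective.extend_apply, w0.injective.extend_apply] at this
  refine MonoidHom.eq_of_eqOn_top fun x _ => ?_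
  have htop : (Φ.comp (emb w0)).eqLocus B = ⊤ := by
    refine hK (fun g hg => ?_) ?_
    · have h0 : emb w0 g ∈ St q (ev i0 : Fin (m + 2) → F) := by
        rw [mem_St, show i0 = w0 ⟨0, by omega⟩ from Fin.ext (by simp [hw0, i0]), act_emb_ev, hg, extend_ev]
      show Φ (emb w0 g) = B g
      rw [hΦφ _ h0]; exact key h0 rfl
    · show Φ (emb w0 τ') = B τ'
      rw [eτ, hΦτ]
  have hx : x ∈ (Φ.comp (emb w0)).eqLocus B := htop ▸ Subgroup.mem_top x
  exact hx

end CfsgLib.Phan
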