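import Cfsg.Agent.Phan.ThreeTwist
import Cfsg.Agent.Unitary.Simple

/-!
Two overlapping `SU₃(3)` inside an image of `SU₄(3)` come from one map.
-/

set_option autoImplicit false
set_option linter.unusedSectionVars false
set_option linter.style.haveILetI false

namespace CfsgLib.Phan

open Matrix CfsgLib.Forms CfsgLib.Unitary
open scoped commutatorElement

variable {F : Type*} [Field F] [Finite F] (hF : Nat.card F = 3 ^ 2)

include hF

/-- A normal subgroup of `SU` is central or everything. -/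
theorem normal_central_or_top {k : ℕ} (hk : 3 ≤ k) (N : Subgroup (Cfsg.SU k F 3)) [N.Normal] :
    N ≤ Subgroup.center (Cfsg.SU k F 3) ∨ N = ⊤ := by
  haveI := isSimpleGroup_PSU hF (n := k) hk (by omega)
  set Z := Subgroup.center (Cfsg.SU k F 3)
  rcases Subgroup.Normal.eq_bot_or_eq_top
    (Subgroup.Normal.map (inferInstance : N.Normal) (QuotientGroup.mk' Z) (QuotientGroup.mk'_surjective Z)) with h | h
  · left
    rwa [Subgroup.map_eq_bot_iff, QuotientGroup.ker_mk'] at h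
  · right
    rw [eq_top_iff, ← commutator_SU_eq_top hF hk (by omega), commutator_eq_closure, Subgroup.closure_le]
    rintro _ ⟨a, b, rfl⟩
    obtain ⟨a', ha', ea⟩ := (h ▸ Subgroup.mem_top (QuotientGroup.mk' Z a) : QuotientGroup.mk' Z a ∈ N.map (QuotientGroup.mk' Z))
    obtain ⟨b', hb', eb⟩ := (h ▸ Subgroup.mem_top (QuotientGroup.mk' Z b) : QuotientGroup.mk' Z b ∈ N.map (QuotientGroup.mk' Z))
    obtain ⟨x, hx, rfl⟩ : ∃ x ∈ Z, a = x * a' := ⟨a * a'⁻¹, by
      rw [← (QuotientGroup.eq_one_iff (N := Z) _)]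
      show QuotientGroup.mk' Z (a * a'⁻¹) = 1
      rw [map_mul, map_inv, ea, mul_inv_cancel], (inv_mul_cancel_right a a').symm⟩
    obtain ⟨y, hy, rfl⟩ : ∃ y ∈ Z, b = y * b' := ⟨b * b'⁻¹, by
      rw [← (QuotientGroup.eq_one_iff (N := Z) _)]
      show QuotientGroup.mk' Z (b * b'⁻¹) = 1
      rw [map_mul, map_inv, eb, mul_inv_cancel], (inv_mul_cancel_right b b').symm⟩
    have hxc := Subgroup.mem_center_iff.1 hx
    have hyc := Subgroup.mem_center_iff.1 hy
    have : ⁅x * a', y * b'⁆ = ⁅a', b'⁆ := by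
      rw [commutatorElement_def, commutatorElement_def]
      calc x * a' * (y * b') * (x * a')⁻¹ * (y * b')⁻¹ = x * a' * y * b' * a'⁻¹ * x⁻¹ * b'⁻¹ * y⁻¹ := by group
        _ = x * (a' * y) * (b' * a'⁻¹ * x⁻¹) * b'⁻¹ * y⁻¹ := by group
        _ = x * (y * a') * (x⁻¹ * (b' * a'⁻¹)) * b'⁻¹ * y⁻¹ := by
          rw [hyc a', Subgroup.mem_center_iff.1 (inv_mem hx) (b' * a'⁻¹)]
        _ = (x * y) * (a' * x⁻¹) * b' * a'⁻¹ * b'⁻¹ * y⁻¹ := by group
        _ = (x * y * x⁻¹) * ((a' * b' * a'⁻¹ * b'⁻¹) * y⁻¹) := by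
          rw [Subgroup.mem_center_iff.1 (inv_mem hx) a']; group
        _ = _ := by
          rw [hyc x, mul_inv_cancel_right, Subgroup.mem_center_iff.1 (inv_mem hy)]; group
    show ⁅x * a', y * b'⁆ ∈ N
    rw [this]
    exact mul_mem (mul_mem (mul_mem ha' hb') (inv_mem ha')) (inv_mem hb')

/-- A nontrivial map from `SU₄(3)` has central kernel of exponent four. -/
theorem fourKer_of_ne_one {W : Type*} [Group W] {g : Cfsg.SU 4 F 3 →* W} (hg : g ≠ 1) : FourKer g := by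
  intro k hk
  rcases normal_central_or_top hF (by norm_num) g.ker with h | h
  · have hc := h hk
    refine ⟨fun x => (Subgroup.mem_center_iff.1 hc x).symm, ?_⟩
    obtain ⟨a, ha⟩ := (mem_center_SU_iff hF (by norm_num)).1 hc
    have hdet : a ^ 4 = 1 := by
      have := k.1.2
      rwa [ha, Matrix.det_smul, Matrix.det_one, Fintype.card_fin, mul_one] at this
    refine Subtype.ext (Subtype.ext ?_)
    show suMat (k ^ 4) = 1
    have e : suMat k = a • 1 := ha
    rw [pow_succ, pow_succ, pow_two, suMat_mul, suMat_mul, suMat_mul, e]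
    simp only [Matrix.smul_mul, Matrix.mul_smul, mul_one, smul_smul]
    rw [show a * (a * (a * a)) = a ^ 4 by ring, hdet, one_smul]
  · exact absurd (MonoidHom.ker_eq_top_iff.1 h) hg

theorem twist_agree {c : Fin 4 → F} (hc : Unitvec 3 c) (γ : F ≃+* F) {c' : Fin 3 → F} (hc' : Unitvec 3 c')
    {i : ℕ} (hi : i + 3 ≤ 4) (h : ∀ a, c (win i 3 4 hi a) = c' a) (X : Cfsg.SU 3 F 3) :
    twist hF c hc γ (emb (win i 3 4 hi) X) = emb (win i 3 4 hi) (twist hF c' hc' γ X) := by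
  rw [twist_emb hF _ _ hc]
  refine congrArg _ (DFunLike.congr_fun (twist_congr hF (fun a => hc _) hc' γ fun a b => ?_) X)
  simp only [Function.comp_apply, h]

set_option maxHeartbeats 1000000 in
/-- The frame of three lifts. -/
theorem exists_three_frame {z : F} {δ n : Cfsg.SU 2 F 3} (hz : z * z = -1) (hz3 : z ^ 3 = -z)
    (h0 : suMat δ 0 0 = z) (h1 : suMat δ 0 1 = 0) (hnd : n = δ * δ) (hn : suMat n = -1)
    (hnc : ∀ g, Commute n g) (hnn : n * n = 1)
    (L0 L1 L2 : Cfsg.SU 2 F 3 →* Cfsg.SU 4 F 3) (i0 : Function.Injective L0) (i1 : Function.Injective L1)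
    (i2 : Function.Injective L2) (hcomm : ∀ a b, L0 a * L2 b = L2 b * L0 a)
    (r01 : ∀ s, L1 n * L0 s * (L1 n)⁻¹ = L0 (δ * s * δ⁻¹))
    (r10 : ∀ s, L0 n * L1 s * (L0 n)⁻¹ = L1 (δ * s * δ⁻¹))
    (r21 : ∀ s, L1 n * L2 s * (L1 n)⁻¹ = L2 (δ * s * δ⁻¹))
    (r12 : ∀ s, L2 n * L1 s * (L2 n)⁻¹ = L1 (δ * s * δ⁻¹))
    (hc0 : L0 n ∉ Subgroup.center (Cfsg.SU 4 F 3)) (hc1 : L1 n ∉ Subgroup.center (Cfsg.SU 4 F 3))
    (hc01 : L0 n * L1 n ∉ Subgroup.center (Cfsg.SU 4 F 3))
    (hc2 : L2 n ∉ Subgroup.center (Cfsg.SU 4 F 3)) :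
    ∃ s : Cfsg.SU 4 F 3,
      L0.range = (emb (F := F) (q := 3) (win 0 2 4 (by omega))).range.map (MulAut.conj s).toMonoidHom ∧
      L1.range = (emb (F := F) (q := 3) (win 1 2 4 (by omega))).range.map (MulAut.conj s).toMonoidHom ∧
      L2.range = (emb (F := F) (q := 3) (win 2 2 4 (by omega))).range.map (MulAut.conj s).toMonoidHom := by
  have hδn : δ * n * δ⁻¹ = n := by rw [← (hnc δ).eq, mul_inv_cancel_right]
  have inv2 : ∀ L : Cfsg.SU 2 F 3 →* Cfsg.SU 4 F 3, L n * L n = 1 := fun L => by rw [← map_mul, hnn, map_one]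
  have cDE : ∀ {A B : Cfsg.SU 2 F 3 →* Cfsg.SU 4 F 3},
      (∀ s, A n * B s * (A n)⁻¹ = B (δ * s * δ⁻¹)) → A n * B n = B n * A n := fun {A B} h => by
    have := h n
    rw [hδn] at this
    exact mul_inv_eq_iff_eq_mul.1 this
  obtain ⟨s, hs0, hs1⟩ := exists_frame hF (inv2 L0) (inv2 L1) (cDE r10) hc0 hc1 hc01
  set c := (MulAut.conj s⁻¹).toMonoidHom
  have hcv : ∀ x, c x = s⁻¹ * x * s := fun x => by simp [c]
  have hmap : ∀ {A B : Cfsg.SU 2 F 3 →* Cfsg.SU 4 F 3},
      (∀ t, A n * B t * (A n)⁻¹ = B (δ * t * δ⁻¹)) →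
      ∀ t, c (A n) * c.comp B t * (c (A n))⁻¹ = c.comp B (δ * t * δ⁻¹) := fun {A B} h t => by
    rw [MonoidHom.comp_apply, MonoidHom.comp_apply, ← map_inv, ← map_mul, ← map_mul, h]
  have hinj : ∀ {B : Cfsg.SU 2 F 3 →* Cfsg.SU 4 F 3}, Function.Injective B → Function.Injective (c.comp B) :=
    fun {B} h => (MulAut.conj s⁻¹).injective.comp h
  have back : ∀ {B : Cfsg.SU 2 F 3 →* Cfsg.SU 4 F 3} {R : Subgroup (Cfsg.SU 4 F 3)},
      (c.comp B).range = R → B.range = R.map (MulAut.conj s).toMonoidHom := fun {B R} h => by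
    rw [← h, ← MonoidHom.range_comp]
    congr 1
    ext t; simp [c, mul_assoc]
  have d0 : suMat (c (L0 n)) = Matrix.diagonal ![-1, -1, 1, 1] := by rw [hcv]; exact hs0
  have d1 : suMat (c (L1 n)) = Matrix.diagonal ![1, -1, -1, 1] := by rw [hcv]; exact hs1
  have hpm := one_ne_neg_one hF
  have sq0 : ∀ i, (![-1, -1, 1, 1] : Fin 4 → F) i * ![-1, -1, 1, 1] i = 1 := fun i => by fin_cases i <;> simp
  have sq1 : ∀ i, (![1, -1, -1, 1] : Fin 4 → F) i * ![1, -1, -1, 1] i = 1 := fun i => by fin_cases i <;> simp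
  let κ1 : Fin 2 ↪ Fin 4 := ⟨![0, 3], by decide⟩
  have R0 : (c.comp L0).range = (emb (F := F) (q := 3) (win 0 2 4 (by omega))).range :=
    range_in_frame hF (hinj i0) hz hz3 h0 h1 hnd hn hnc hnn d0 d1 sq1 (hmap r01)
      (win 2 2 4 (by omega)) (win 0 2 4 (by omega)) (fun j => by fin_cases j <;> rfl)
      (fun j => by rw [mem_range_win, mem_range_win]; omega) (fun j => by fin_cases j <;> rfl)
      (by show (![1, -1, -1, 1] : Fin 4 → F) 2 ≠ ![1, -1, -1, 1] 3; exact hpm.symm)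
  have R1 : (c.comp L1).range = (emb (F := F) (q := 3) (win 1 2 4 (by omega))).range :=
    range_in_frame hF (hinj i1) hz hz3 h0 h1 hnd hn hnc hnn d1 d0 sq0 (hmap r10)
      κ1 (win 1 2 4 (by omega)) (fun j => by fin_cases j <;> rfl)
      (fun j => by rw [mem_range_win]; fin_cases j <;> simp [κ1, Fin.exists_fin_two])
      (fun j => by fin_cases j <;> rfl)
      (by show (![-1, -1, 1, 1] : Fin 4 → F) 0 ≠ ![-1, -1, 1, 1] 3; exact hpm.symm)
  obtain ⟨d, hd, hd1, hdp⟩ : ∃ d : Fin 4 → F, suMat (c (L2 n)) = Matrix.diagonal d ∧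
      (∀ i, d i * d i = 1) ∧ ∏ i, d i = 1 := by
    set T := c (L2 n)
    have e0 : c (L0 n) * T = T * c (L0 n) := by rw [← map_mul, ← map_mul, hcomm]
    have e1 : c (L1 n) * T = T * c (L1 n) := by rw [← map_mul, ← map_mul, cDE r21]
    have hoff : ∀ i j, i ≠ j → suMat T i j = 0 := fun i j hij => by
      by_cases h : (![-1, -1, 1, 1] : Fin 4 → F) i ≠ ![-1, -1, 1, 1] j
      · exact entry_zero_of_commute d0 e0 h
      refine entry_zero_of_commute d1 e1 ?_
      fin_cases i <;> fin_cases j <;> simp [hpm, hpm.symm] at hij h ⊢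
    have hT : suMat T = Matrix.diagonal fun i => suMat T i i := by
      ext i j
      by_cases h : i = j
      · subst h; simp
      · rw [hoff i j h, Matrix.diagonal_apply_ne _ h]
    refine ⟨_, hT, fun i => ?_, ?_⟩
    · have h : suMat T * suMat T = 1 := by rw [← suMat_mul, ← map_mul, inv2, map_one, suMat_one]
      rw [hT, Matrix.diagonal_mul_diagonal] at h
      simpa using congrFun (congrFun h i) i
    · rw [← Matrix.det_diagonal, ← hT]; exact T.1.2
  obtain ⟨w, u, hwu, hw⟩ := two_noncomm hF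
  have e01 : d 0 = d 1 := by
    by_contra hne
    obtain ⟨t, ht⟩ := R0.ge ⟨w, rfl⟩
    refine hw ?_
    rw [← suMat_emb (win 0 2 4 (by omega)), ← ht]
    refine entry_zero_of_commute hd ?_ hne
    rw [MonoidHom.comp_apply, ← map_mul, ← map_mul, hcomm]
  have hd0 : d 0 = 1 := by
    rcases mul_self_eq_one_iff.1 (hd1 0) with h | h
    · exact h
    exfalso
    have h23 : d 2 * d 3 = 1 := by
      have := hdp
      rw [Fin.prod_univ_four, ← e01, h] at this
      linear_combination this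
    rcases mul_self_eq_one_iff.1 (hd1 2) with h2 | h2
    · rw [h2, one_mul] at h23
      have hD : suMat (c (L2 n)) = Matrix.diagonal ![-1, -1, 1, 1] := by
        rw [hd]; congr 1; funext i; fin_cases i <;> simp [h, h2, h23, e01.symm.trans h]
      have R2 : (c.comp L2).range = (emb (F := F) (q := 3) (win 0 2 4 (by omega))).range :=
        range_in_frame hF (hinj i2) hz hz3 h0 h1 hnd hn hnc hnn hD d1 sq1 (hmap r21)
          (win 2 2 4 (by omega)) (win 0 2 4 (by omega)) (fun j => by fin_cases j <;> rfl)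
          (fun j => by rw [mem_range_win, mem_range_win]; omega) (fun j => by fin_cases j <;> rfl)
          (by show (![1, -1, -1, 1] : Fin 4 → F) 2 ≠ ![1, -1, -1, 1] 3; exact hpm.symm)
      obtain ⟨b, hb⟩ := (R2.trans R0.symm).ge ⟨u, rfl⟩
      refine hwu (i0 ((MulAut.conj s⁻¹).injective ?_))
      show c (L0 (w * u)) = c (L0 (u * w))
      simp only [map_mul]
      rw [show c (L0 u) = c.comp L0 u from rfl, ← hb, MonoidHom.comp_apply, ← map_mul, ← map_mul, hcomm]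
    · rw [h2] at h23
      refine hc2 ?_
      have hc : c (L2 n) ∈ Subgroup.center (Cfsg.SU 4 F 3) := (mem_center_SU_iff hF (by omega)).2 ⟨-1, by
        show suMat _ = _
        rw [hd, Matrix.smul_one_eq_diagonal]
        congr 1; funext i; fin_cases i <;> simp [h, h2, e01.symm.trans h, show d 3 = -1 by linear_combination -h23]⟩
      have := Subgroup.Normal.conj_mem inferInstance _ hc s
      rw [hcv] at this
      simpa [mul_assoc] using this
  have hdv : suMat (c (L2 n)) = Matrix.diagonal ![1, 1, -1, -1] := by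
    have h23 : d 2 * d 3 = 1 := by
      have := hdp
      rw [Fin.prod_univ_four, ← e01, hd0] at this
      linear_combination this
    rcases mul_self_eq_one_iff.1 (hd1 2) with h2 | h2
    · exfalso
      rw [h2, one_mul] at h23
      refine hc2 ?_
      have hc : c (L2 n) ∈ Subgroup.center (Cfsg.SU 4 F 3) := (mem_center_SU_iff hF (by omega)).2 ⟨1, by
        show suMat _ = _
        rw [hd, Matrix.smul_one_eq_diagonal]
        congr 1; funext i; fin_cases i <;> simp [hd0, h2, h23, e01.symm.trans hd0]⟩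
      have := Subgroup.Normal.conj_mem inferInstance _ hc s
      rw [hcv] at this
      simpa [mul_assoc] using this
    · rw [hd]; congr 1; funext i; fin_cases i <;>
        simp [hd0, h2, e01.symm.trans hd0, show d 3 = -1 by rw [h2] at h23; linear_combination -h23]
  refine ⟨s, back R0, back R1, back ?_⟩
  exact range_in_frame hF (hinj i2) hz hz3 h0 h1 hnd hn hnc hnn hdv d1 sq1 (hmap r21)
      (win 0 2 4 (by omega)) (win 2 2 4 (by omega)) (fun j => by fin_cases j <;> rfl)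
      (fun j => by rw [mem_range_win, mem_range_win]; omega) (fun j => by fin_cases j <;> rfl)
      (by show (![1, -1, -1, 1] : Fin 4 → F) 0 ≠ ![1, -1, -1, 1] 1; exact hpm)

variable {G : Type*} [Group G]

theorem range_three (ψ : Cfsg.SU 3 F 3 →* G) :
    ψ.range = (ψ.comp (emb (win 0 2 3 (by omega)))).range ⊔ (ψ.comp (emb (win 1 2 3 (by omega)))).range := by
  rw [MonoidHom.range_comp, MonoidHom.range_comp, ← Subgroup.map_sup,
    sup_blocks_eq_top hF (n := 2) le_rfl (fun _ => le_rfl), MonoidHom.range_eq_map]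

/-- The conclusion from a map with the right blocks. -/
theorem exists_fit_of_blocks {ψ0 ψ1 : Cfsg.SU 3 F 3 →* G} (j0 : Function.Injective ψ0)
    (j1 : Function.Injective ψ1)
    (hmid : ∀ X, ψ0 (emb (win 1 2 3 (by omega)) X) = ψ1 (emb (win 0 2 3 (by omega)) X))
    (Φ0 : Cfsg.SU 4 F 3 →* G) (hker : ∀ k, Φ0 k = 1 → ∃ a : F, suMat k = a • 1)
    (p0 : (Φ0.comp (emb (win 0 2 4 (by omega)))).range = (ψ0.comp (emb (win 0 2 3 (by omega)))).range)
    (p1 : (Φ0.comp (emb (win 1 2 4 (by omega)))).range = (ψ0.comp (emb (win 1 2 3 (by omega)))).range)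
    (p2 : (Φ0.comp (emb (win 2 2 4 (by omega)))).range = (ψ1.comp (emb (win 1 2 3 (by omega)))).range) :
    ∃ Φ : Cfsg.SU 4 F 3 →* G, (∀ X, Φ (emb (win 0 3 4 (by omega)) X) = ψ0 X) ∧
      ∀ X, Φ (emb (win 1 3 4 (by omega)) X) = ψ1 X := by
  classical
  have hinj : ∀ (Φ : Cfsg.SU 4 F 3 →* G), (∀ k, Φ k = 1 → ∃ a : F, suMat k = a • 1) → ∀ i (hi : i + 3 ≤ 4),
      Function.Injective (Φ.comp (emb (win i 3 4 hi))) := fun Φ hΦ i hi =>
    (injective_iff_map_eq_one _).2 fun X hX => by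
      obtain ⟨a, ha⟩ := hΦ _ hX
      obtain ⟨j, hj⟩ : ∃ j, j ∉ Set.range (win i 3 4 hi) := by
        rcases (show i = 0 ∨ i = 1 by omega) with rfl | rfl
        · exact ⟨3, by rw [mem_range_win]; simp⟩
        · exact ⟨0, by rw [mem_range_win]; simp⟩
      have h := congrFun (congrFun ha j) j
      rw [suMat_emb_out _ _ _ hj] at h
      simp [ev] at h
      refine emb_injective (win i 3 4 hi) (act_eq_of_basis fun k => ?_)
      rw [act, ha, ← h, one_smul, Matrix.one_mulVec, map_one, act_one]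
  -- the automorphism on a window
  have step : ∀ (Φ : Cfsg.SU 4 F 3 →* G), (∀ k, Φ k = 1 → ∃ a : F, suMat k = a • 1) →
      ∀ i (hi : i + 3 ≤ 4) (ψ : Cfsg.SU 3 F 3 →* G), Function.Injective ψ →
      (∀ j (hj : j + 2 ≤ 3), (Φ.comp (emb (win (i + j) 2 4 (by omega)))).range = (ψ.comp (emb (win j 2 3 hj))).range) →
      ∃ (c : Fin 3 → F) (hc : Unitvec 3 c) (γ : F ≃+* F),
        ∀ X, ψ X = Φ (emb (win i 3 4 hi) (twist hF c hc γ X)) := by
    intro Φ hΦ i hi ψ hψ hr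
    have hf := hinj Φ hΦ i hi
    set f := Φ.comp (emb (win i 3 4 hi))
    have hblk : ∀ j (hj : j + 2 ≤ 3),
        (f.comp (emb (win j 2 3 hj))).range = (ψ.comp (emb (win j 2 3 hj))).range := fun j hj => by
      rw [← hr j hj]
      congr 1
      ext X
      show Φ (emb (win i 3 4 hi) (emb (win j 2 3 hj) X)) = Φ (emb (win (i + j) 2 4 (by omega)) X)
      rw [emb_win]
    have hfr : ψ.range = f.range := by
      rw [range_three hF ψ, range_three hF f, hblk 0 (by omega), hblk 1 (by omega)]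
    let α : Cfsg.SU 3 F 3 →* Cfsg.SU 3 F 3 :=
      (MonoidHom.ofInjective hf).symm.toMonoidHom.comp (ψ.codRestrict f.range fun X => hfr ▸ ⟨X, rfl⟩)
    have hα : ∀ X, f (α X) = ψ X := fun X => MonoidHom.apply_ofInjective_symm hf _
    obtain ⟨c, hc, γ, e⟩ := aut_blocks hF α (fun X Y e => hψ (by rw [← hα, ← hα, e])) fun j hj X => by
      obtain ⟨Y, hY⟩ := (hblk j hj).ge ⟨X, rfl⟩
      exact ⟨Y, hf ((hα _).trans hY.symm)⟩
    exact ⟨c, hc, γ, fun X => by rw [← hα, e]; rfl⟩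
  obtain ⟨c, hc, γ, hψ0⟩ := step Φ0 hker 0 (by omega) ψ0 j0 fun j hj => by
    rcases (show j = 0 ∨ j = 1 by omega) with rfl | rfl
    · exact p0
    · exact p1
  have hc4 : Unitvec 3 (![c 0, c 1, c 2, 1] : Fin 4 → F) := fun i => by
    fin_cases i
    exacts [hc 0, hc 1, hc 2, by simp]
  set Φ1 := Φ0.comp (twist hF _ hc4 γ) with hΦ1
  have e1 : ∀ X, Φ1 (emb (win 0 3 4 (by omega)) X) = ψ0 X := fun X => by
    rw [hψ0, hΦ1, MonoidHom.comp_apply, twist_agree hF hc4 γ hc _ (fun a => by fin_cases a <;> rfl)]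
  have r1 : ∀ i (hi : i + 2 ≤ 4), (Φ1.comp (emb (win i 2 4 hi))).range = (Φ0.comp (emb (win i 2 4 hi))).range := by
    intro i hi
    rw [hΦ1, MonoidHom.comp_assoc, MonoidHom.range_comp, MonoidHom.range_comp Φ0, MonoidHom.range_comp (twist hF _ hc4 γ),
      twist_range hF]
  have hker1 : ∀ k, Φ1 k = 1 → ∃ a : F, suMat k = a • 1 := fun k hk => by
    obtain ⟨a, ha⟩ := hker _ hk
    refine ⟨γ.symm a, Matrix.ext fun i j => ?_⟩
    have h := congrFun (congrFun ha i) j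
    rw [suMat_twist, Matrix.smul_apply, smul_eq_mul] at h
    have hne : ∀ i, (![c 0, c 1, c 2, 1] : Fin 4 → F) i ≠ 0 := fun i e => by simpa [e] using hc4 i
    apply γ.injective
    rw [Matrix.smul_apply, smul_eq_mul, map_mul, γ.apply_symm_apply]
    by_cases hij : i = j
    · subst hij
      simp only [Matrix.one_apply_eq, mul_one, map_one] at h ⊢
      linear_combination h - γ (suMat k i i) * hc4 i
    · simp only [Matrix.one_apply_ne hij, mul_zero, map_zero] at h ⊢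
      exact (mul_eq_zero.1 ((mul_eq_zero.1 h).resolve_right (pow_ne_zero _ (hne j)))).resolve_left (hne i)
  obtain ⟨d, hd, γ', hψ1⟩ := step Φ1 hker1 1 (by omega) ψ1 j1 fun j hj => by
    rw [r1]
    rcases (show j = 0 ∨ j = 1 by omega) with rfl | rfl
    · refine p1.trans ?_
      congr 1
      ext X
      exact hmid X
    · exact p2
  have hid : ∀ X : Cfsg.SU 2 F 3,
      twist hF (d ∘ win 0 2 3 (by omega)) (fun a => hd _) γ' X = X := fun X => by
    refine emb_injective (win 0 2 3 (by omega)) (hinj Φ1 hker1 1 (by omega) ?_)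
    show Φ1 (emb _ (emb _ _)) = Φ1 (emb (win 1 3 4 (by omega)) (emb (win 0 2 3 (by omega)) X))
    rw [← twist_emb hF (win 0 2 3 (by omega)) d hd γ', ← hψ1, ← hmid, ← e1, emb_win, emb_win]
  obtain ⟨rfl, hd01⟩ := twist_eq_id_two hF _ hid
  have hd01' : d 0 = d 1 := hd01
  have hd4 : Unitvec 3 (![d 0, d 0, d 1, d 2] : Fin 4 → F) := fun i => by
    fin_cases i
    exacts [hd 0, hd 0, hd 1, hd 2]
  refine ⟨Φ1.comp (twist hF _ hd4 (RingEquiv.refl F)), fun X => ?_, fun X => ?_⟩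
  · have hd' : Unitvec 3 (fun _ : Fin 3 => d 0) := fun _ => hd 0
    rw [MonoidHom.comp_apply, twist_agree hF hd4 _ hd' _
      (fun a => by fin_cases a <;> first | rfl | exact hd01'.symm), twist_trivial hF hd' (fun _ _ => rfl), e1]
  · rw [MonoidHom.comp_apply, twist_agree hF hd4 _ hd _ (fun a => by fin_cases a <;> rfl), ← hψ1]

/-- **The base step for `q = 3`.** -/
theorem exists_fit_four_three (ψ0 ψ1 : Cfsg.SU 3 F 3 →* G) (j0 : Function.Injective ψ0)
    (j1 : Function.Injective ψ1)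
    (hmid : ∀ X, ψ0 (emb (win 1 2 3 (by omega)) X) = ψ1 (emb (win 0 2 3 (by omega)) X))
    (hfar : ∀ X Y, Commute (ψ0 (emb (win 0 2 3 (by omega)) X)) (ψ1 (emb (win 1 2 3 (by omega)) Y)))
    (g : Cfsg.SU 4 F 3 →* G) (h0le : ψ0.range ≤ g.range) (h1le : ψ1.range ≤ g.range) :
    ∃ Φ : Cfsg.SU 4 F 3 →* G, (∀ X, Φ (emb (win 0 3 4 (by omega)) X) = ψ0 X) ∧
      ∀ X, Φ (emb (win 1 3 4 (by omega)) X) = ψ1 X := by
  obtain ⟨z, δ, n, hz, hz3, h0, h1, hnd, hn, hnn, hn1, hnc⟩ := two_exists_delta hF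
  obtain ⟨n0, n1, n01⟩ := sign_not_central hF hn
  obtain ⟨⟨a0, a1, a2⟩, ⟨b0, b1, b2⟩⟩ := sgn_three hF
  let w0 : Fin 2 ↪ Fin 3 := win 0 2 3 (by omega)
  let w1 : Fin 2 ↪ Fin 3 := win 1 2 3 (by omega)
  have hg : g ≠ 1 := fun e => n0 (by
    obtain ⟨x, hx⟩ := h0le ⟨emb w0 n, rfl⟩
    have : emb w0 n = 1 := j0 (by rw [← hx, e, map_one]; rfl)
    rw [this]; exact one_mem _)
  set gr := g.rangeRestrict
  have hgr : FourKer gr := fun k hk => fourKer_of_ne_one hF hg k (congrArg Subtype.val hk)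
  have hs : Function.Surjective gr := g.rangeRestrict_surjective
  have lift : ∀ (ψ : Cfsg.SU 3 F 3 →* G), ψ.range ≤ g.range → ∀ w : Fin 2 ↪ Fin 3,
      ∃ L : Cfsg.SU 2 F 3 →* Cfsg.SU 4 F 3, ∀ s, g (L s) = ψ (emb w s) := fun ψ hψ w => by
    obtain ⟨L, hL⟩ := exists_lift hF hgr hs ((ψ.comp (emb w)).codRestrict g.range fun s => hψ ⟨emb w s, rfl⟩)
    exact ⟨L, fun s => congrArg Subtype.val (hL s)⟩
  obtain ⟨L0, e0⟩ := lift ψ0 h0le w0
  obtain ⟨L1, e1⟩ := lift ψ0 h0le w1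
  obtain ⟨L2, e2⟩ := lift ψ1 h1le w1
  have e1' : ∀ s, g (L1 s) = ψ1 (emb w0 s) := fun s => (e1 s).trans (hmid s)
  have uniq : ∀ {L L' : Cfsg.SU 2 F 3 →* Cfsg.SU 4 F 3}, (∀ s, g (L s) = g (L' s)) → L = L' := fun h =>
    lift_unique hF hgr fun s => Subtype.ext (h s)
  have conjrel : ∀ {ψ : Cfsg.SU 3 F 3 →* G} {LA LB : Cfsg.SU 2 F 3 →* Cfsg.SU 4 F 3} {wa wb : Fin 2 ↪ Fin 3},
      (∀ s, g (LA s) = ψ (emb wa s)) → (∀ s, g (LB s) = ψ (emb wb s)) →
      sgnVec F wa (wb 0) * sgnVec F wa (wb 1) ^ 3 = -1 →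
      ∀ s, LA n * LB s * (LA n)⁻¹ = LB (δ * s * δ⁻¹) := fun {ψ LA LB wa wb} hA hB hab => by
    have := uniq (L := (MulAut.conj (LA n)).toMonoidHom.comp LB) (L' := LB.comp (MulAut.conj δ).toMonoidHom)
      fun s => by
        show g (LA n * LB s * (LA n)⁻¹) = g (LB (δ * s * δ⁻¹))
        rw [map_mul, map_mul, map_inv, hA, hB, hB, ← map_inv, ← map_mul, ← map_mul,
          conj_sign_block hF hz hz3 h0 h1 hn wa wb hab]
    exact fun s => DFunLike.congr_fun this s
  have sab : sgnVec F w1 (w0 0) * sgnVec F w1 (w0 1) ^ 3 = -1 := by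
    show sgnVec F _ (0 : Fin 3) * sgnVec F _ (1 : Fin 3) ^ 3 = -1
    rw [b0, b1]; ring
  have sba : sgnVec F w0 (w1 0) * sgnVec F w0 (w1 1) ^ 3 = -1 := by
    show sgnVec F _ (1 : Fin 3) * sgnVec F _ (2 : Fin 3) ^ 3 = -1
    rw [a1, a2]; ring
  have hcomm : ∀ a b, L0 a * L2 b = L2 b * L0 a := fun a b => by
    have := uniq (L := (MulAut.conj (L0 a)).toMonoidHom.comp L2) (L' := L2) fun s => by
      show g (L0 a * L2 s * (L0 a)⁻¹) = g (L2 s)
      rw [map_mul, map_mul, map_inv, e0, e2, (hfar a s).eq, mul_inv_cancel_right]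
    exact mul_inv_eq_iff_eq_mul.1 (DFunLike.congr_fun this b)
  have inj : ∀ {ψ : Cfsg.SU 3 F 3 →* G} {L : Cfsg.SU 2 F 3 →* Cfsg.SU 4 F 3} {w : Fin 2 ↪ Fin 3},
      Function.Injective ψ → (∀ s, g (L s) = ψ (emb w s)) → Function.Injective L := fun hψ hL a b e =>
    emb_injective _ (hψ (by rw [← hL, ← hL, e]))
  have nc : ∀ {ψ : Cfsg.SU 3 F 3 →* G} {T : Cfsg.SU 4 F 3} {d : Cfsg.SU 3 F 3}, Function.Injective ψ →
      ψ.range ≤ g.range → g T = ψ d → d ∉ Subgroup.center (Cfsg.SU 3 F 3) →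
      T ∉ Subgroup.center (Cfsg.SU 4 F 3) := fun {ψ T d} hψ hle hT hd hc => hd (by
    refine Subgroup.mem_center_iff.2 fun x => hψ ?_
    obtain ⟨y, hy⟩ := hle ⟨x, rfl⟩
    rw [map_mul, map_mul, ← hT, ← hy, ← map_mul, ← map_mul, Subgroup.mem_center_iff.1 hc y])
  obtain ⟨s, R0, R1, R2⟩ := exists_three_frame hF hz hz3 h0 h1 hnd hn hnc hnn L0 L1 L2
    (inj j0 e0) (inj j0 e1) (inj j1 e2) hcomm (conjrel e1 e0 sab) (conjrel e0 e1 sba)
    (conjrel e1' e2 sba) (conjrel e2 e1' sab) (nc j0 h0le (e0 n) n0) (nc j0 h0le (e1 n) n1)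
    (nc j0 h0le (by rw [map_mul, e0, e1, ← map_mul]) n01) (nc j1 h1le (e2 n) n1)
  set Φ0 := g.comp (MulAut.conj s).toMonoidHom
  have key : ∀ {L : Cfsg.SU 2 F 3 →* Cfsg.SU 4 F 3} {ψ : Cfsg.SU 3 F 3 →* G} {w : Fin 2 ↪ Fin 3}
      {f : Fin 2 ↪ Fin 4}, (∀ t, g (L t) = ψ (emb w t)) →
      L.range = (emb (F := F) (q := 3) f).range.map (MulAut.conj s).toMonoidHom →
      (Φ0.comp (emb f)).range = (ψ.comp (emb w)).range := fun {L ψ w f} he hR => by
    rw [show ψ.comp (emb w) = g.comp L from MonoidHom.ext fun t => (he t).symm, MonoidHom.range_comp g L, hR,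
      MonoidHom.range_comp Φ0, ← Subgroup.map_map]
  refine exists_fit_of_blocks hF j0 j1 hmid Φ0 (fun k hk => ?_) (key e0 R0) (key e1 R1) (key e2 R2)
  rcases normal_central_or_top hF (by norm_num) Φ0.ker with h | h
  · exact (mem_center_SU_iff hF (by norm_num)).1 (h hk)
  · exfalso
    obtain ⟨x, hx⟩ := h0le ⟨emb w0 n, rfl⟩
    have : Φ0 (s⁻¹ * x * s) = 1 := by
      have := Subgroup.mem_top (s⁻¹ * x * s)
      rw [← h] at this
      exact this
    refine n0 ?_
    have e : emb w0 n = 1 := j0 (by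
      rw [← hx, map_one, ← this]
      simp [Φ0, mul_assoc])
    rw [show emb (win 0 2 3 (by omega)) n = 1 from e]; exact one_mem _

end CfsgLib.Phan
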