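import Cfsg.Agent.Phan.Gen

/-!
Semilinear diagonal twists of the special unitary groups.
-/

set_option autoImplicit false
set_option linter.unusedSectionVars false
set_option linter.style.haveILetI false

namespace CfsgLib.Phan

open Matrix CfsgLib.Forms CfsgLib.Unitary

variable {F : Type*} [Field F] [Finite F] {q n m : ℕ} (hF : Nat.card F = q ^ 2)

local notation "hm" => Cfsg.hermForm _ F q

/-- The twisting data: norm one scalars. -/
def Unitvec (q : ℕ) (c : Fin n → F) : Prop := ∀ i, c i * c i ^ q = 1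

theorem suMat_apply (g : Cfsg.SU n F q) (i j : Fin n) : act g (ev j) i = suMat g i j := by
  simp [act, ev, Matrix.mulVec_single_one, Matrix.col]

include hF in
/-- Diagonal elements. -/
theorem exists_diag {c : Fin n → F} (hc : Unitvec q c) (hd : ∏ i, c i = 1) :
    ∃ g : Cfsg.SU n F q, suMat g = Matrix.diagonal c := by
  classical
  refine ⟨⟨⟨Matrix.diagonal c, by rw [Matrix.det_diagonal, hd]⟩, fun x y => ?_⟩, rfl⟩
  unfold Cfsg.hermForm
  refine Finset.sum_congr rfl fun i _ => ?_
  show (Matrix.diagonal c *ᵥ x) i * (Matrix.diagonal c *ᵥ y) i ^ q = _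
  rw [Matrix.mulVec_diagonal, Matrix.mulVec_diagonal, mul_pow]
  linear_combination (x i * y i ^ q) * hc i

/-- The twist of a matrix. -/
noncomputable def twMat (q : ℕ) (c : Fin n → F) (γ : F ≃+* F) (A : Matrix (Fin n) (Fin n) F) :
    Matrix (Fin n) (Fin n) F := Matrix.of fun i j => c i * γ (A i j) * c j ^ q

theorem twMat_eq [DecidableEq (Fin n)] (c : Fin n → F) (γ : F ≃+* F) (A : Matrix (Fin n) (Fin n) F) :
    twMat q c γ A = Matrix.diagonal c * A.map γ * Matrix.diagonal (fun j => c j ^ q) := by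
  ext i j
  simp [twMat]

theorem twMat_det {c : Fin n → F} (hc : Unitvec q c) (γ : F ≃+* F) (g : Cfsg.SU n F q) :
    (twMat q c γ (suMat g)).det = 1 := by
  classical
  rw [twMat_eq, Matrix.det_mul, Matrix.det_mul, Matrix.det_diagonal, Matrix.det_diagonal,
    show ((suMat g).map γ).det = γ (suMat g).det from ((γ : F →+* F).map_det _).symm,
    show (suMat g).det = 1 from g.1.2, map_one, mul_one, ← Finset.prod_mul_distrib]
  exact Finset.prod_eq_one fun i _ => hc i

theorem twMat_mulVec {c : Fin n → F} (hc : Unitvec q c) (γ : F ≃+* F) (g : Cfsg.SU n F q) (x : Fin n → F) :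
    twMat q c γ (suMat g) *ᵥ x = fun i => c i * γ (act g (fun j => γ.symm (c j ^ q * x j)) i) := by
  funext i
  simp only [act, Matrix.mulVec, dotProduct, twMat, Matrix.of_apply, map_sum, map_mul,
    RingEquiv.apply_symm_apply, Finset.mul_sum]
  exact Finset.sum_congr rfl fun j _ => by ring

include hF in
theorem twMat_preserves {c : Fin n → F} (hc : Unitvec q c) (γ : F ≃+* F) (g : Cfsg.SU n F q)
    (x y : Fin n → F) : hm (twMat q c γ (suMat g) *ᵥ x) (twMat q c γ (suMat g) *ᵥ y) = hm x y := by
  rw [twMat_mulVec hc, twMat_mulVec hc]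
  obtain ⟨X, hX⟩ : ∃ X : Fin n → F, X = fun j => γ.symm (c j ^ q * x j) := ⟨_, rfl⟩
  obtain ⟨Y, hY⟩ : ∃ Y : Fin n → F, Y = fun j => γ.symm (c j ^ q * y j) := ⟨_, rfl⟩
  rw [← hX, ← hY]
  have eX : ∀ j, γ (X j) = c j ^ q * x j := fun j => by rw [hX, RingEquiv.apply_symm_apply]
  have eY : ∀ j, γ (Y j) = c j ^ q * y j := fun j => by rw [hY, RingEquiv.apply_symm_apply]
  have key := congrArg γ (act_herm g X Y)
  unfold Cfsg.hermForm at key ⊢
  simp only [map_sum, map_mul, map_pow, eX, eY] at key
  refine Eq.trans (Finset.sum_congr rfl fun i _ => ?_) (key.trans (Finset.sum_congr rfl fun i _ => ?_))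
  · rw [mul_pow]
    linear_combination (γ (act g X i) * γ (act g Y i) ^ q) * hc i
  · rw [mul_pow, pow_q_q hF]
    linear_combination (x i * y i ^ q) * hc i

/-- The twist `g ↦ D γ(g) D⁻¹`. -/
noncomputable def twist (hF : Nat.card F = q ^ 2) (c : Fin n → F) (hc : Unitvec q c) (γ : F ≃+* F) :
    Cfsg.SU n F q →* Cfsg.SU n F q where
  toFun g := ⟨⟨twMat q c γ (suMat g), twMat_det hc γ g⟩, twMat_preserves hF hc γ g⟩
  map_one' := by
    classical
    refine Subtype.ext (Subtype.ext ?_)
    show twMat q c γ (suMat (1 : Cfsg.SU n F q)) = 1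
    rw [suMat_one]
    ext i j
    by_cases h : i = j
    · subst h; simp [twMat, hc i]
    · simp [twMat, h]
  map_mul' g h := by
    classical
    refine Subtype.ext (Subtype.ext ?_)
    show twMat q c γ (suMat (g * h)) = twMat q c γ (suMat g) * twMat q c γ (suMat h)
    ext i j
    simp only [twMat, suMat_mul, Matrix.mul_apply, Matrix.of_apply, map_sum, map_mul, Finset.mul_sum,
      Finset.sum_mul]
    refine Finset.sum_congr rfl fun k _ => ?_
    linear_combination -(c i * γ (suMat g i k) * γ (suMat h k j) * c j ^ q) * hc k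

theorem suMat_twist (c : Fin n → F) (hc : Unitvec q c) (γ : F ≃+* F) (g : Cfsg.SU n F q) (i j : Fin n) :
    suMat (twist hF c hc γ g) i j = c i * γ (suMat g i j) * c j ^ q := rfl

theorem twist_injective (c : Fin n → F) (hc : Unitvec q c) (γ : F ≃+* F) :
    Function.Injective (twist hF c hc γ) := fun g h e => by
  refine act_eq_of_basis fun j => funext fun i => ?_
  rw [suMat_apply, suMat_apply]
  have e' := congrArg (fun x => suMat x i j) e
  simp only [suMat_twist] at e'
  have h0 : ∀ k, c k ≠ 0 := fun k e0 => by simpa [e0] using hc k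
  exact γ.injective (mul_left_cancel₀ (h0 i) (mul_right_cancel₀ (pow_ne_zero _ (h0 j)) e'))

include hF in
theorem twist_emb (f : Fin m ↪ Fin n) (c : Fin n → F) (hc : Unitvec q c) (γ : F ≃+* F)
    (A : Cfsg.SU m F q) :
    twist hF c hc γ (emb f A) = emb f (twist hF (c ∘ f) (fun i => hc (f i)) γ A) := by
  classical
  refine act_eq_of_basis fun k => funext fun i => ?_
  rw [suMat_apply, suMat_twist, ← suMat_apply]
  by_cases hk : k ∈ Set.range f
  · obtain ⟨b, rfl⟩ := hk
    rw [act_emb_ev, act_emb_ev]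
    by_cases hi : i ∈ Set.range f
    · obtain ⟨a, rfl⟩ := hi
      rw [f.injective.extend_apply, f.injective.extend_apply, suMat_apply, suMat_apply]
      exact (suMat_twist hF (c ∘ f) (fun i => hc (f i)) γ A a b).symm
    · rw [Function.extend_apply' _ _ _ (by rintro ⟨a, ha⟩; exact hi ⟨a, ha⟩),
        Function.extend_apply' _ _ _ (by rintro ⟨a, ha⟩; exact hi ⟨a, ha⟩)]
      simp
  · rw [act_emb_outside f A hk, act_emb_outside f _ hk]
    by_cases h : i = k
    · subst h; simp [ev, hc i]
    · simp [ev, h]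

include hF in
/-- Conjugation by a diagonal element. -/
theorem conj_eq_twist {d : Cfsg.SU n F q} {c : Fin n → F} (hc : Unitvec q c)
    (hd : suMat d = Matrix.diagonal c) (g : Cfsg.SU n F q) :
    d * g * d⁻¹ = twist hF c hc (RingEquiv.refl F) g := by
  classical
  rw [mul_inv_eq_iff_eq_mul]
  refine Subtype.ext (Subtype.ext ?_)
  show suMat (d * g) = suMat (twist hF c hc (RingEquiv.refl F) g * d)
  rw [suMat_mul, suMat_mul, hd]
  ext i j
  rw [Matrix.diagonal_mul, Matrix.mul_diagonal, suMat_twist]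
  simp only [RingEquiv.refl_apply]
  linear_combination -(c i * suMat g i j) * hc j

include hF in
/-- The shape of `SU` in two variables. -/
theorem su2_shape (g : Cfsg.SU 2 F q) :
    suMat g 1 0 = -(suMat g 0 1 ^ q) ∧ suMat g 1 1 = suMat g 0 0 ^ q := by
  have h00 := act_herm g (ev 0) (ev 0)
  have h10 := act_herm g (ev 1) (ev 0)
  rw [herm_ev hF, if_pos rfl] at h00
  rw [herm_ev hF, if_neg (by decide)] at h10
  simp only [Cfsg.hermForm, Fin.sum_univ_two, suMat_apply] at h00 h10
  have hdet : suMat g 0 0 * suMat g 1 1 - suMat g 0 1 * suMat g 1 0 = 1 := by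
    have : (suMat g).det = 1 := g.1.2
    rwa [Matrix.det_fin_two] at this
  constructor
  · have e : suMat g 0 1 = -(suMat g 1 0 ^ q) := by
      linear_combination -(suMat g 0 1) * h00 + (suMat g 0 0) * h10 - (suMat g 1 0 ^ q) * hdet
    rw [e, frob_neg hF, pow_q_q hF, neg_neg]
  · linear_combination (suMat g 0 0 ^ q) * hdet - (suMat g 1 1) * h00 + (suMat g 1 0) * h10

include hF in
/-- An element of `SU` in two variables is given by its first row. -/
theorem su2_ext {g h : Cfsg.SU 2 F q} (h0 : suMat g 0 0 = suMat h 0 0) (h1 : suMat g 0 1 = suMat h 0 1) :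
    g = h := by
  refine act_eq_of_basis fun j => funext fun i => ?_
  rw [suMat_apply, suMat_apply]
  fin_cases i <;> fin_cases j
  · exact h0
  · exact h1
  · show suMat g 1 0 = suMat h 1 0
    rw [(su2_shape hF g).1, (su2_shape hF h).1, h1]
  · show suMat g 1 1 = suMat h 1 1
    rw [(su2_shape hF g).2, (su2_shape hF h).2, h0]

include hF in
theorem su2_norm (g : Cfsg.SU 2 F q) :
    suMat g 0 0 * suMat g 0 0 ^ q + suMat g 0 1 * suMat g 0 1 ^ q = 1 := by
  have hdet : (suMat g).det = 1 := g.1.2
  rw [Matrix.det_fin_two, (su2_shape hF g).1, (su2_shape hF g).2] at hdet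
  linear_combination hdet

include hF in
/-- Diagonal elements of `SU` in two variables. -/
theorem exists_diag_two {z : F} (hz : z * z ^ q = 1) :
    ∃ g : Cfsg.SU 2 F q, suMat g 0 0 = z ∧ suMat g 0 1 = 0 := by
  classical
  obtain ⟨g, hg⟩ := exists_diag hF (c := ![z, z ^ q]) (fun i => by
    fin_cases i
    · exact hz
    · show z ^ q * (z ^ q) ^ q = 1
      rw [pow_q_q hF, mul_comm, hz]) (by simp [Fin.prod_univ_two, hz])
  exact ⟨g, by simp [hg], by simp [hg]⟩

include hF in
theorem diag_two_comm {g h : Cfsg.SU 2 F q} (hg : suMat g 0 1 = 0) (hh : suMat h 0 1 = 0) :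
    g * h = h * g := by
  refine su2_ext hF ?_ ?_
  · simp [suMat_mul, Matrix.mul_apply, Fin.sum_univ_two, hg, hh, mul_comm]
  · simp [suMat_mul, Matrix.mul_apply, Fin.sum_univ_two, hg, hh]

end CfsgLib.Phan
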