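import Cfsg.Agent.Phan.ThreeLift
import Cfsg.Agent.Phan.Twist

/-!
Frames from commuting involutions of `SU₄(3)`, and the place of `SU₂(3)` in a frame.
-/

set_option autoImplicit false
set_option linter.unusedSectionVars false
set_option linter.style.haveILetI false

namespace CfsgLib.Phan

open Matrix CfsgLib.Forms CfsgLib.Unitary

variable {F : Type*} [Field F] [Finite F] (hF : Nat.card F = 3 ^ 2)

local notation "hm" => Cfsg.hermForm _ F 3

include hF

theorem three_zero : (3 : F) = 0 := by
  haveI := Fintype.ofFinite F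
  have h := FiniteField.cast_card_eq_zero F
  rw [← Nat.card_eq_fintype_card, hF] at h
  have h2 : (3 : F) ^ 2 = 0 := by rw [← h]; norm_num
  exact eq_zero_of_pow_eq_zero h2

theorem two_ne_zero' : (2 : F) ≠ 0 := fun h => one_ne_zero (α := F) (by linear_combination three_zero hF - h)

theorem one_ne_neg_one : (1 : F) ≠ -1 := fun h => two_ne_zero' hF (by linear_combination h)

theorem exists_i : ∃ z : F, z * z = -1 ∧ z ^ 3 = -z := by
  haveI := Fintype.ofFinite F
  obtain ⟨z, hz⟩ := (FiniteField.isSquare_neg_one_iff (F := F)).2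
    (by rw [← Nat.card_eq_fintype_card, hF]; norm_num)
  exact ⟨z, hz.symm, by linear_combination -z * hz⟩

theorem two_exists_delta : ∃ (z : F) (δ n : Cfsg.SU 2 F 3), z * z = -1 ∧ z ^ 3 = -z ∧
    suMat δ 0 0 = z ∧ suMat δ 0 1 = 0 ∧ n = δ * δ ∧ suMat n = -1 ∧ n * n = 1 ∧ n ≠ 1 ∧
    ∀ g, Commute n g := by
  obtain ⟨z, hz, hz3⟩ := exists_i hF
  obtain ⟨δ, h0, h1⟩ := exists_diag_two hF (z := z) (by rw [hz3]; linear_combination -hz)
  have hn : suMat (δ * δ) = -1 := by
    obtain ⟨e10, e11⟩ := su2_shape hF δ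
    rw [h1] at e10
    rw [h0] at e11
    rw [suMat_mul]
    ext i j
    fin_cases i <;> fin_cases j <;> simp [Matrix.mul_apply, Fin.sum_univ_two, h0, h1, e10, e11, hz3, hz]
  refine ⟨z, δ, δ * δ, hz, hz3, h0, h1, rfl, hn, ?_, ?_, fun g => ?_⟩
  · refine Subtype.ext (Subtype.ext ?_)
    show suMat (δ * δ * (δ * δ)) = 1
    rw [suMat_mul, hn]; simp
  · intro h
    have := congrArg (fun g => suMat g 0 0) h
    simp [hn] at this
    exact one_ne_neg_one hF this.symm
  · refine Subtype.ext (Subtype.ext ?_)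
    show suMat (δ * δ * g) = suMat (g * (δ * δ))
    rw [suMat_mul, suMat_mul g (δ * δ), hn]; simp

theorem two_invol {n a : Cfsg.SU 2 F 3} (hn : suMat n = -1) (h : a * a = 1) : a = 1 ∨ a = n := by
  have e : suMat a * suMat a = 1 := by rw [← suMat_mul, h, suMat_one]
  have h00 := congrFun (congrFun e 0) 0
  have h01 := congrFun (congrFun e 0) 1
  obtain ⟨e10, e11⟩ := su2_shape hF a
  have hN := su2_norm hF a
  simp [Matrix.mul_apply, Fin.sum_univ_two, e10, e11] at h00 h01
  have hc : suMat a 0 1 = 0 := by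
    by_contra hc
    have h2 : suMat a 0 0 + suMat a 0 0 ^ 3 = 0 :=
      (mul_eq_zero.1 (show suMat a 0 1 * (suMat a 0 0 + suMat a 0 0 ^ 3) = 0 by linear_combination h01)).resolve_left hc
    exact two_ne_zero' hF (by linear_combination -hN - h00 + suMat a 0 0 * h2)
  rw [hc, zero_mul, neg_zero, add_zero] at h00
  rcases mul_self_eq_one_iff.1 h00 with e0 | e0
  · exact Or.inl (su2_ext hF (by rw [e0, suMat_one]; rfl) (by rw [hc, suMat_one]; rfl))
  · exact Or.inr (su2_ext hF (by rw [e0, hn]; rfl) (by rw [hc, hn]; simp))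

theorem two_conj_delta {z : F} {δ n b : Cfsg.SU 2 F 3} (hz : z * z = -1) (hz3 : z ^ 3 = -z)
    (h0 : suMat δ 0 0 = z) (h1 : suMat δ 0 1 = 0) (hn : suMat n = -1) (hb : b * b = n) :
    δ * b * δ⁻¹ = b ∨ δ * b * δ⁻¹ = b * n := by
  obtain ⟨e10, e11⟩ := su2_shape hF δ
  rw [h1] at e10
  rw [h0] at e11
  obtain ⟨f10, f11⟩ := su2_shape hF b
  have e : suMat b * suMat b = -1 := by rw [← suMat_mul, hb, hn]
  have h00 := congrFun (congrFun e 0) 0
  have h01 := congrFun (congrFun e 0) 1
  have hN := su2_norm hF b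
  simp [Matrix.mul_apply, Fin.sum_univ_two, f10, f11] at h00 h01
  by_cases hc : suMat b 0 1 = 0
  · left
    rw [mul_inv_eq_iff_eq_mul]
    refine su2_ext hF ?_ ?_ <;> simp [suMat_mul, Matrix.mul_apply, Fin.sum_univ_two, h0, h1, hc, e10, mul_comm]
  right
  have h2 : suMat b 0 0 + suMat b 0 0 ^ 3 = 0 :=
    (mul_eq_zero.1 (show suMat b 0 1 * (suMat b 0 0 + suMat b 0 0 ^ 3) = 0 by linear_combination h01)).resolve_left hc
  have ha : suMat b 0 0 = 0 := by
    by_contra ha
    have h3 : suMat b 0 0 * suMat b 0 0 = -1 := mul_left_cancel₀ ha (by linear_combination h2)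
    have h4 : suMat b 0 1 * suMat b 0 1 ^ 3 = 0 := by linear_combination h3 - h00
    rw [← pow_succ'] at h4
    exact hc (eq_zero_of_pow_eq_zero h4)
  rw [mul_inv_eq_iff_eq_mul]
  refine su2_ext hF ?_ ?_
  · simp [suMat_mul, Matrix.mul_apply, Fin.sum_univ_two, h0, h1, ha, hn, e10]
  · simp [suMat_mul, Matrix.mul_apply, Fin.sum_univ_two, h0, h1, ha, hn, e10, e11, hz3, mul_comm]

theorem diag_of_three {T : Cfsg.SU 4 F 3} {c : Fin 4 → F}
    (hc : ∀ i : Fin 4, i ≠ 3 → c i * c i = 1 ∧ act T (ev i) = c i • ev i) :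
    ∃ d : Fin 4 → F, suMat T = Matrix.diagonal d ∧ (∀ i, d i * d i = 1) ∧ ∏ i, d i = 1 := by
  classical
  set x := act T (ev (3 : Fin 4)) 3
  set d : Fin 4 → F := fun i => if i = 3 then x else c i
  have h3 : ∀ i : Fin 4, i ≠ 3 → act T (ev (3 : Fin 4)) i = 0 := fun i hi => by
    obtain ⟨hcc, he⟩ := hc i hi
    have h := act_herm T (ev (3 : Fin 4)) (ev i)
    rw [he, herm_ev hF, if_neg (Ne.symm hi), herm_smul_right hF, herm_swap hF (ev i : Fin 4 → F), ev,
      herm_single_left, mul_eq_zero] at h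
    have hc0 : c i ^ 3 ≠ 0 := pow_ne_zero _ fun e => by rw [e, zero_mul] at hcc; exact zero_ne_one hcc
    exact eq_zero_of_pow_eq_zero (eq_zero_of_pow_eq_zero (h.resolve_left hc0))
  have hd : suMat T = Matrix.diagonal d := by
    refine Matrix.ext fun i j => ?_
    rw [← suMat_apply]
    by_cases hj : j = 3
    · subst hj
      by_cases hi : i = 3
      · subst hi; simp [d, x]
      · rw [h3 i hi, Matrix.diagonal_apply_ne _ hi]
    · rw [(hc j hj).2]
      by_cases hi : i = j
      · subst hi; simp [d, hj, ev]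
      · rw [Matrix.diagonal_apply_ne _ hi]; simp [ev, hi]
  have hdet : ∏ i, d i = 1 := by rw [← Matrix.det_diagonal, ← hd]; exact T.1.2
  refine ⟨d, hd, fun i => ?_, hdet⟩
  by_cases hi : i = 3
  · subst hi
    have h := hdet
    simp only [Fin.prod_univ_four, d, show (0 : Fin 4) ≠ 3 by decide, show (1 : Fin 4) ≠ 3 by decide,
      show (2 : Fin 4) ≠ 3 by decide, if_false, if_true] at h ⊢
    obtain ⟨a0, -⟩ := hc 0 (by decide)
    obtain ⟨a1, -⟩ := hc 1 (by decide)
    obtain ⟨a2, -⟩ := hc 2 (by decide)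
    linear_combination (c 0 * c 1 * c 2 * x + 1) * h - (x * x * c 1 * c 1 * c 2 * c 2) * a0 -
      (x * x * c 2 * c 2) * a1 - (x * x) * a2
  · simp only [d, hi, if_false]; exact (hc i hi).1

/-- Common eigenvectors of commuting involutions. -/
theorem exists_eig_family {D E : Cfsg.SU 4 F 3} (hD : D * D = 1) (hE : E * E = 1) (hDE : D * E = E * D) :
    ∀ k, k ≤ 3 → ∃ f : Fin k → Fin 4 → F, Orth 3 f ∧ ∀ i, ∃ s t : F, s * s = 1 ∧ t * t = 1 ∧
      act D (f i) = s • f i ∧ act E (f i) = t • f i := by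
  classical
  intro k
  induction k with
  | zero => exact fun _ => ⟨fun i => i.elim0, fun i => i.elim0, fun i => i.elim0⟩
  | succ k ih =>
    intro hk
    obtain ⟨f, hf, hfe⟩ := ih (by omega)
    obtain ⟨g, hg⟩ := exists_ext hF (Fin.castLE_injective (show k ≤ 4 by omega)) (by omega) hf
    set w := act g (ev (3 : Fin 4) : Fin 4 → F)
    have hw : hm w w = 1 := by rw [act_herm, herm_ev hF, if_pos rfl]
    have hwf : ∀ i, hm w (f i) = 0 := fun i => by
      rw [← hg i, act_herm, herm_ev hF, if_neg]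
      intro e
      have := congrArg Fin.val e
      simp at this
      omega
    have hsym : ∀ {T : Cfsg.SU 4 F 3}, T * T = 1 → ∀ x y : Fin 4 → F, hm (act T x) y = hm x (act T y) :=
      fun {T} hT x y => by
        conv_lhs => rw [← act_one (F := F) (q := 3) y, ← hT, act_mul, act_herm]
    have hTT : ∀ {T : Cfsg.SU 4 F 3}, T * T = 1 → ∀ x : Fin 4 → F, act T (act T x) = x :=
      fun {T} hT x => by rw [← act_mul, hT, act_one]
    let P : F → F → Fin 4 → F := fun s t =>
      w + s • act D w + (t • act E w + (s * t) • act D (act E w))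
    have hPD : ∀ s t, s * s = 1 → act D (P s t) = s • P s t := fun s t hs => by
      simp only [P, act_add, act_smul, hTT hD, smul_add, smul_smul, hs,
        show s * (s * t) = t by rw [← mul_assoc, hs, one_mul], one_smul]
      abel
    have hPE : ∀ s t, t * t = 1 → act E (P s t) = t • P s t := fun s t ht => by
      have hc : ∀ x : Fin 4 → F, act E (act D x) = act D (act E x) := fun x => by
        rw [← act_mul, ← act_mul, hDE]
      simp only [P, act_add, act_smul, hc, hTT hE, smul_add, smul_smul, ht,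
        show t * (s * t) = s by rw [mul_comm s, ← mul_assoc, ht, one_mul], show t * s = s * t from mul_comm _ _,
        one_smul]
      abel
    have hPw : ∀ s t, s * s = 1 → t * t = 1 → hm (P s t) (P s t) = hm (P s t) w := fun s t hs ht => by
      have hu : ∀ u : F, u * u = 1 → u ^ 3 = u := fun u hu => by linear_combination u * hu
      have h4 : (4 : F) = 1 := by linear_combination three_zero hF
      have e1 : hm (P s t) (act D w) = s * hm (P s t) w := by
        rw [← hsym hD, hPD s t hs, herm_smul_left]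
      have e2 : hm (P s t) (act E w) = t * hm (P s t) w := by
        rw [← hsym hE, hPE s t ht, herm_smul_left]
      have e3 : hm (P s t) (act D (act E w)) = s * t * hm (P s t) w := by
        rw [← hsym hD, hPD s t hs, herm_smul_left, e2, mul_assoc]
      conv_lhs => arg 5; simp only [P]
      simp only [herm_add_right hF, herm_smul_right hF, e1, e2, e3, mul_pow, hu s hs, hu t ht]
      linear_combination hm (P s t) w * h4 + (hm (P s t) w) * hs + (hm (P s t) w) * ht +
        (hm (P s t) w) * (t * t) * hs + (hm (P s t) w) * ht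
    obtain ⟨s, t, hs, ht, hne⟩ : ∃ s t : F, s * s = 1 ∧ t * t = 1 ∧ hm (P s t) (P s t) ≠ 0 := by
      by_contra hall
      push Not at hall
      have h1 := hall 1 1 (by ring) (by ring)
      have h2 := hall 1 (-1) (by ring) (by ring)
      have h3 := hall (-1) 1 (by ring) (by ring)
      have h4 := hall (-1) (-1) (by ring) (by ring)
      rw [hPw _ _ (by ring) (by ring)] at h1 h2 h3 h4
      simp only [P, herm_add_left, herm_smul_left, hw] at h1 h2 h3 h4
      exact one_ne_zero (α := F) (by linear_combination h1 + h2 + h3 + h4 - (three_zero hF))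
    obtain ⟨a, ha⟩ := exists_unit_mul hF hne
    refine ⟨Fin.snoc f (a • P s t), fun i j => ?_, fun i => ?_⟩
    · have hperp : ∀ i, hm (P s t) (f i) = 0 := fun i => by
        obtain ⟨si, ti, -, -, hDi, hEi⟩ := hfe i
        have e1 : hm (act E w) (f i) = 0 := by
          rw [hsym hE, hEi, herm_smul_right hF, hwf, mul_zero]
        simp [P, herm_add_left, herm_smul_left, hsym hD, hDi, hEi, herm_smul_right hF, hwf, e1]
      refine Fin.lastCases ?_ (fun i => ?_) i <;> refine Fin.lastCases ?_ (fun j => ?_) j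
      · simp [ha]
      · simp [herm_smul_left, hperp, (Fin.castSucc_lt_last j).ne']
      · simp [herm_smul_right hF, (herm_comm_zero hF).1 (hperp i), (Fin.castSucc_lt_last i).ne]
      · simp [hf i j]
    · refine Fin.lastCases ?_ (fun i => ?_) i
      · exact ⟨s, t, hs, ht, by rw [Fin.snoc_last, act_smul, hPD s t hs, smul_comm],
          by rw [Fin.snoc_last, act_smul, hPE s t ht, smul_comm]⟩
      · simpa using hfe i

/-- The frame of two commuting involutions. -/
theorem exists_frame {D E : Cfsg.SU 4 F 3} (hD : D * D = 1) (hE : E * E = 1) (hDE : D * E = E * D)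
    (hDn : D ∉ Subgroup.center (Cfsg.SU 4 F 3)) (hEn : E ∉ Subgroup.center (Cfsg.SU 4 F 3))
    (hDEn : D * E ∉ Subgroup.center (Cfsg.SU 4 F 3)) :
    ∃ s : Cfsg.SU 4 F 3, suMat (s⁻¹ * D * s) = Matrix.diagonal ![-1, -1, 1, 1] ∧
      suMat (s⁻¹ * E * s) = Matrix.diagonal ![1, -1, -1, 1] := by
  classical
  have hdiag : ∀ {g T : Cfsg.SU 4 F 3} {f : Fin 3 → Fin 4 → F},
      (∀ i, act g (ev (Fin.castLE (show 3 ≤ 4 by omega) i)) = f i) →
      (∀ i, ∃ u : F, u * u = 1 ∧ act T (f i) = u • f i) →
      ∃ d : Fin 4 → F, suMat (g⁻¹ * T * g) = Matrix.diagonal d ∧ (∀ i, d i * d i = 1) ∧ ∏ i, d i = 1 := by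
    intro g T f hg hT
    choose u hu1 hu2 using hT
    refine diag_of_three hF (c := fun i => if h : i.1 < 3 then u ⟨i.1, h⟩ else 1) fun i hi => ?_
    have h3 : i.1 < 3 := by
      have : i.1 ≠ 3 := fun e => hi (Fin.ext e)
      omega
    obtain ⟨j, rfl⟩ : ∃ j, i = Fin.castLE (show 3 ≤ 4 by decide) j := ⟨⟨i.1, h3⟩, rfl⟩
    simp only [h3, dif_pos]
    refine ⟨hu1 _, ?_⟩
    rw [act_mul, act_mul, hg, hu2, act_smul, act_inv_eq (hg j)]
    rfl
  obtain ⟨f, hf, hfe⟩ := exists_eig_family hF hD hE hDE 3 le_rfl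
  obtain ⟨g, hg⟩ := exists_ext hF (Fin.castLE_injective (show 3 ≤ 4 by omega)) (by omega) hf
  obtain ⟨d, hd, hd1, hdp⟩ := hdiag hg fun i => by
    obtain ⟨u, -, hu, -, h, -⟩ := hfe i; exact ⟨u, hu, h⟩
  obtain ⟨e, he, he1, hep⟩ := hdiag hg fun i => by
    obtain ⟨-, u, -, hu, -, h⟩ := hfe i; exact ⟨u, hu, h⟩
  have hnc : ∀ {T : Cfsg.SU 4 F 3} {x : Fin 4 → F}, T ∉ Subgroup.center (Cfsg.SU 4 F 3) →
      suMat (g⁻¹ * T * g) = Matrix.diagonal x → ¬∀ i, x i = x 0 := fun {T x} hT hx hall => hT (by
    have hc : g⁻¹ * T * g ∈ Subgroup.center (Cfsg.SU 4 F 3) :=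
      (mem_center_SU_iff hF (by omega)).2 ⟨x 0, by
        show suMat _ = _
        rw [hx, show x = fun _ => x 0 from funext hall, ← Matrix.smul_one_eq_diagonal]⟩
    have := (Subgroup.Normal.conj_mem inferInstance _ hc g)
    simpa [mul_assoc] using this)
  have hde : suMat (g⁻¹ * (D * E) * g) = Matrix.diagonal fun i => d i * e i := by
    rw [show g⁻¹ * (D * E) * g = g⁻¹ * D * g * (g⁻¹ * E * g) by group, suMat_mul, hd, he,
      Matrix.diagonal_mul_diagonal]
  have k1 := hnc hDn hd
  have k2 := hnc hEn he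
  have k3 := hnc hDEn hde
  -- read the signs as Booleans
  let B : Fin 4 → Bool := fun i => decide (d i = -1)
  let B' : Fin 4 → Bool := fun i => decide (e i = -1)
  have sgn : ∀ {x : F}, x * x = 1 → x = if decide (x = -1) then -1 else 1 := fun {x} hx => by
    rcases mul_self_eq_one_iff.1 hx with rfl | rfl
    · simp [one_ne_neg_one hF]
    · simp
  have hdB : ∀ i, d i = if B i then -1 else 1 := fun i => sgn (hd1 i)
  have heB : ∀ i, e i = if B' i then -1 else 1 := fun i => sgn (he1 i)
  have hev : ∀ {x : Fin 4 → F} {b : Fin 4 → Bool}, (∀ i, x i = if b i then -1 else 1) → ∏ i, x i = 1 →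
      Even (Finset.univ.filter fun i => b i = true).card := fun {x b} hx hp => by
    by_contra h
    rw [Finset.prod_congr rfl fun i _ => hx i, Finset.prod_ite, Finset.prod_const, Finset.prod_const,
      one_pow, mul_one, (Nat.not_even_iff_odd.1 h).neg_one_pow] at hp
    exact one_ne_neg_one hF hp.symm
  have key : ∀ b b' : Fin 4 → Bool, Even (Finset.univ.filter fun i => b i = true).card →
      Even (Finset.univ.filter fun i => b' i = true).card → (¬∀ i, b i = b 0) → (¬∀ i, b' i = b' 0) →
      (¬∀ i, (b i ^^ b' i) = (b 0 ^^ b' 0)) →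
      ∃ π : Fin 4 → Fin 4, Function.Injective π ∧ (∀ i, b (π i) = ![true, true, false, false] i) ∧
        ∀ i, b' (π i) = ![false, true, true, false] i := by
    intro b b' h1 h2 h3 h4 h5
    have hex : ∀ b b' : Fin 4 → Bool, Even (Finset.univ.filter fun i => b i = true).card →
        Even (Finset.univ.filter fun i => b' i = true).card → (¬∀ i, b i = b 0) → (¬∀ i, b' i = b' 0) →
        (¬∀ i, (b i ^^ b' i) = (b 0 ^^ b' 0)) →
        ∀ u v : Bool, ∃ i, b i = u ∧ b' i = v := by decide +kernel
    have dec : ∀ i j : Fin 4, ![true, true, false, false] i = ![true, true, false, false] j ∧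
        ![false, true, true, false] i = ![false, true, true, false] j → i = j := by decide
    choose π hπ1 hπ2 using fun i : Fin 4 => hex b b' h1 h2 h3 h4 h5
      (![true, true, false, false] i) (![false, true, true, false] i)
    refine ⟨π, fun i j e => ?_, hπ1, hπ2⟩
    have hij : ![true, true, false, false] i = ![true, true, false, false] j ∧
        ![false, true, true, false] i = ![false, true, true, false] j :=
      ⟨by rw [← hπ1, ← hπ1, e], by rw [← hπ2, ← hπ2, e]⟩
    exact dec i j hij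
  have kd : ¬∀ i, B i = B 0 := fun h => k1 fun i => by rw [hdB, hdB 0, h]
  have ke : ¬∀ i, B' i = B' 0 := fun h => k2 fun i => by rw [heB, heB 0, h]
  have kde : ¬∀ i, (B i ^^ B' i) = (B 0 ^^ B' 0) := fun h => k3 fun i => by
    have : ∀ x y : Bool, ((if x then -1 else 1 : F) * if y then -1 else 1) = if (x ^^ y) then -1 else 1 :=
      fun x y => by cases x <;> cases y <;> simp
    show d i * e i = d 0 * e 0
    rw [hdB, hdB 0, heB, heB 0, this, this, h]
  obtain ⟨π, hπ, hπd, hπe⟩ := key B B' (hev hdB hdp) (hev heB hep) kd ke kde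
  -- the reordered frame
  let f' : Fin 3 → Fin 4 → F := fun i => act g (ev (π (Fin.castLE (show 3 ≤ 4 by omega) i)))
  have hf' : Orth 3 f' := orth_map hF (orth_ev hF (hπ.comp (Fin.castLE_injective _))) g
  obtain ⟨s, hs⟩ := exists_ext hF (Fin.castLE_injective (show 3 ≤ 4 by omega)) (by omega) hf'
  have heig : ∀ {T : Cfsg.SU 4 F 3} {x : Fin 4 → F}, suMat (g⁻¹ * T * g) = Matrix.diagonal x →
      ∀ i, act T (f' i) = x (π (Fin.castLE (show 3 ≤ 4 by omega) i)) • f' i := fun {T x} hx i => by
    set j := π (Fin.castLE (show 3 ≤ 4 by omega) i)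
    show act T (act g (ev j)) = x j • act g (ev j)
    rw [← act_smul, ← act_mul, show T * g = g * (g⁻¹ * T * g) by group, act_mul]
    congr 1
    funext k
    rw [suMat_apply, hx]
    by_cases hk : k = j
    · subst hk; simp [ev]
    · simp [ev, hk]
  have fin : ∀ {T : Cfsg.SU 4 F 3} {x : Fin 4 → F} {v : Fin 4 → F}, suMat (g⁻¹ * T * g) = Matrix.diagonal x →
      (∀ i, x (π i) = v i) → (∀ i, v i * v i = 1) → ∏ i, v i = 1 →
      suMat (s⁻¹ * T * s) = Matrix.diagonal v := fun {T x v} hx hxv hv hvp => by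
    obtain ⟨y, hy, hy1, hyp⟩ := hdiag hs fun i => ⟨_, by rw [hxv]; exact hv _, heig hx i⟩
    rw [hy]
    congr 1
    have hlow : ∀ i : Fin 3, y (Fin.castLE (show 3 ≤ 4 by omega) i) = v (Fin.castLE (show 3 ≤ 4 by omega) i) :=
      fun i => by
        set j := Fin.castLE (show 3 ≤ 4 by omega) i
        have h1 : act (s⁻¹ * T * s) (ev j) = v j • ev j := by
          rw [act_mul, act_mul, hs, heig hx i, act_smul, act_inv_eq (hs i), hxv]
        have h2 := congrFun h1 j
        rw [suMat_apply, hy] at h2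
        simpa [ev] using h2
    have l0 : y 0 = v 0 := hlow 0
    have l1 : y 1 = v 1 := hlow 1
    have l2 : y 2 = v 2 := hlow 2
    funext i
    fin_cases i
    · exact l0
    · exact l1
    · exact l2
    · simp only [Fin.prod_univ_four, l0, l1, l2] at hyp hvp
      refine mul_left_cancel₀ ?_ (hyp.trans hvp.symm)
      intro e; rw [e, zero_mul] at hvp; exact zero_ne_one hvp
  refine ⟨s, fin hd (fun i => ?_) (fun i => ?_) (by simp [Fin.prod_univ_four]),
    fin he (fun i => ?_) (fun i => ?_) (by simp [Fin.prod_univ_four])⟩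
  · rw [hdB, hπd]; fin_cases i <;> simp
  · fin_cases i <;> simp
  · rw [heB, hπe]; fin_cases i <;> simp
  · fin_cases i <;> simp

/-- `SU₂(3)` in a frame. -/
theorem range_in_frame {L : Cfsg.SU 2 F 3 →* Cfsg.SU 4 F 3} (hL : Function.Injective L)
    {z : F} {δ n : Cfsg.SU 2 F 3} (hz : z * z = -1) (hz3 : z ^ 3 = -z) (h0 : suMat δ 0 0 = z)
    (h1 : suMat δ 0 1 = 0) (hnd : n = δ * δ) (hn : suMat n = -1) (hnc : ∀ g, Commute n g) (hnn : n * n = 1)
    {E : Cfsg.SU 4 F 3} {dv ev' : Fin 4 → F} (hD : suMat (L n) = Matrix.diagonal dv)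
    (hE : suMat E = Matrix.diagonal ev') (hev : ∀ i, ev' i * ev' i = 1)
    (hEL : ∀ s, E * L s * E⁻¹ = L (δ * s * δ⁻¹))
    (κ : Fin 2 ↪ Fin 4) (f : Fin 2 ↪ Fin 4) (hκ : ∀ j, dv (κ j) = 1)
    (hf : ∀ j, j ∈ Set.range f ↔ j ∉ Set.range κ) (hfd : ∀ j, dv (f j) = -1)
    (hne : ev' (κ 0) ≠ ev' (κ 1)) : L.range = (emb (F := F) (q := 3) f).range := by
  classical
  obtain ⟨x, y, hx, hy, hbr, hzne, hzz, hgen⟩ := exists_braid_gens hF
  have hpm := one_ne_neg_one hF
  have hblock : ∀ s a b, dv a ≠ dv b → suMat (L s) a b = 0 := fun s a b hab => by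
    have e : L n * L s = L s * L n := by rw [← map_mul, (hnc s).eq, map_mul]
    have h := congrArg (fun g => suMat g a b) e
    simp only [suMat_mul, hD, Matrix.diagonal_mul, Matrix.mul_diagonal] at h
    exact (mul_eq_zero.1 (show (dv a - dv b) * suMat (L s) a b = 0 by linear_combination h)).resolve_left
      (sub_ne_zero.2 hab)
  have hout : ∀ (i : Fin 2) (j : Fin 4), j ∉ Set.range κ → dv j ≠ dv (κ i) := fun i j hj => by
    obtain ⟨a, rfl⟩ := (hf j).2 hj
    rw [hfd, hκ]; exact hpm.symm
  let R : Cfsg.SU 2 F 3 →* Matrix (Fin 2) (Fin 2) F :=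
    { toFun := fun s => (suMat (L s)).submatrix κ κ
      map_one' := by rw [map_one, suMat_one, Matrix.submatrix_one κ κ.injective]
      map_mul' := fun s t => by
        rw [map_mul, suMat_mul]
        ext i j
        simp only [Matrix.submatrix_apply, Matrix.mul_apply]
        rw [← Finset.sum_subset (Finset.subset_univ (Finset.univ.map κ)) fun k _ hk => ?_,
          Finset.sum_map]
        rw [hblock s (κ i) k (Ne.symm (hout i k fun ⟨a, ha⟩ => hk (Finset.mem_map.2 ⟨a, Finset.mem_univ _, ha⟩))),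
          zero_mul] }
  have hRn : R n = 1 := by
    show (suMat (L n)).submatrix κ κ = 1
    rw [hD]
    ext i j
    by_cases h : i = j
    · subst h; simp [hκ]
    · simp [Matrix.submatrix_apply, h, κ.injective.ne h]
  have hRd : ∀ s i j, R (δ * s * δ⁻¹) i j = ev' (κ i) * R s i j * ev' (κ j) := fun s i j => by
    have e : E * L s = L (δ * s * δ⁻¹) * E := by rw [← hEL, inv_mul_cancel_right]
    have h := congrArg (fun g => suMat g (κ i) (κ j)) e
    simp only [suMat_mul, hE, Matrix.diagonal_mul, Matrix.mul_diagonal] at h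
    show suMat (L (δ * s * δ⁻¹)) (κ i) (κ j) = ev' (κ i) * suMat (L s) (κ i) (κ j) * ev' (κ j)
    linear_combination (-(ev' (κ j))) * h - (suMat (L (δ * s * δ⁻¹)) (κ i) (κ j)) * hev (κ j)
  -- elements of order four act by signs
  have hsign : ∀ b, b * b = n → R b 0 1 = 0 ∧ R b 1 0 = 0 ∧ R b 0 0 * R b 0 0 = 1 ∧ R b 1 1 * R b 1 1 = 1 := by
    intro b hb
    have hconj : R (δ * b * δ⁻¹) = R b := by
      rcases two_conj_delta hF hz hz3 h0 h1 hn hb with e | e <;> rw [e]
      rw [map_mul, hRn, mul_one]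
    have hoff : ∀ i j, ev' (κ i) ≠ ev' (κ j) → R b i j = 0 := fun i j hij => by
      have h := hRd b i j
      rw [hconj] at h
      have hp : ev' (κ i) * ev' (κ j) = -1 := by
        rcases mul_self_eq_one_iff.1 (hev (κ i)) with e | e <;>
          rcases mul_self_eq_one_iff.1 (hev (κ j)) with e' | e' <;> rw [e, e'] at hij ⊢ <;>
          first | exact absurd rfl hij | ring1
      exact (mul_eq_zero.1 (show (2 : F) * R b i j = 0 by linear_combination h + R b i j * hp)).resolve_left
        (two_ne_zero' hF)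
    have e01 := hoff 0 1 hne
    have e10 := hoff 1 0 hne.symm
    have hsq : R b * R b = 1 := by rw [← map_mul, hb, hRn]
    have s0 := congrFun (congrFun hsq 0) 0
    have s1 := congrFun (congrFun hsq 1) 1
    simp [Matrix.mul_apply, Fin.sum_univ_two, e01, e10] at s0 s1
    exact ⟨e01, e10, s0, s1⟩
  set a := x * y * x with ha
  set b := x * a * x⁻¹ with hbd
  set c := x * b * x⁻¹ with hcd
  have hn2 : a * a = n := (two_invol hF hn hzz).resolve_left hzne
  have hb2 : b * b = n := by
    rw [hbd, show x * a * x⁻¹ * (x * a * x⁻¹) = x * (a * a) * x⁻¹ by group, hn2, ← (hnc x).eq,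
      mul_inv_cancel_right]
  have hc2 : c * c = n := by
    rw [hcd, show x * b * x⁻¹ * (x * b * x⁻¹) = x * (b * b) * x⁻¹ by group, hb2, ← (hnc x).eq,
      mul_inv_cancel_right]
  have hx3 : x * x * x = 1 := by rw [← pow_two, ← pow_succ, hx]
  have habc : a * b * c = 1 := by
    rw [hcd, hbd, ha]
    calc x * y * x * (x * (x * y * x) * x⁻¹) * (x * (x * (x * y * x) * x⁻¹) * x⁻¹)
        = x * y * (x * x * x) * y * ((x * x * x) * y * x⁻¹) := by group
      _ = x * (y * y * y) * x⁻¹ := by rw [hx3]; group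
      _ = 1 := by rw [show y * y * y = 1 by rw [← pow_two, ← pow_succ, hy], mul_one, mul_inv_cancel]
  obtain ⟨a01, a10, a00, a11⟩ := hsign a hn2
  obtain ⟨b01, b10, b00, b11⟩ := hsign b hb2
  obtain ⟨c01, c10, c00, c11⟩ := hsign c hc2
  have tr : ∀ s, R (x * s * x⁻¹) 0 0 + R (x * s * x⁻¹) 1 1 = R s 0 0 + R s 1 1 := fun s => by
    have h := Matrix.trace_mul_comm (R x * R s) (R x⁻¹)
    rw [← map_mul, ← map_mul, ← map_mul, inv_mul_cancel_left, Matrix.trace_fin_two, Matrix.trace_fin_two] at h
    exact h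
  have habc00 := congrFun (congrFun (show R a * R b * R c = 1 by rw [← map_mul, ← map_mul, habc, map_one]) 0) 0
  have habc11 := congrFun (congrFun (show R a * R b * R c = 1 by rw [← map_mul, ← map_mul, habc, map_one]) 1) 1
  simp [Matrix.mul_apply, Fin.sum_univ_two, a01, a10, b01, b10, c01, c10] at habc00 habc11
  have tb := tr a
  have tc := tr b
  rw [← hbd] at tb
  rw [← hcd] at tc
  have h3 := three_zero hF
  have hR : R a = 1 ∧ R b = 1 := by
    rcases mul_self_eq_one_iff.1 a00 with u | u <;> rcases mul_self_eq_one_iff.1 a11 with v | v <;>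
      rcases mul_self_eq_one_iff.1 b00 with u' | u' <;> rcases mul_self_eq_one_iff.1 b11 with v' | v' <;>
      rw [u, u'] at habc00 <;> rw [v, v'] at habc11 <;> simp [neg_eq_iff_eq_neg] at habc00 habc11 <;>
      rw [u, v, u', v'] at tb <;> rw [u', v', habc00, habc11] at tc <;>
      first
      | exact absurd (show (1 : F) = 0 by linear_combination tb - h3) one_ne_zero
      | exact absurd (show (1 : F) = 0 by linear_combination -tb - h3) one_ne_zero
      | exact absurd (show (1 : F) = 0 by linear_combination tc - h3) one_ne_zero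
      | exact absurd (show (1 : F) = 0 by linear_combination -tc - h3) one_ne_zero
      | exact absurd (show (1 : F) = 0 by linear_combination tb + h3) one_ne_zero
      | exact absurd (show (1 : F) = 0 by linear_combination -tb + h3) one_ne_zero
      | exact absurd (show (1 : F) = 0 by linear_combination tc + h3) one_ne_zero
      | exact absurd (show (1 : F) = 0 by linear_combination -tc + h3) one_ne_zero
      | (constructor <;> ext i j <;> fin_cases i <;> fin_cases j <;> simp [a01, a10, b01, b10, u, v, u', v'])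
  have hRy : R y = R x := by
    have e : y = a * x * a⁻¹ := by
      rw [eq_mul_inv_iff_mul_eq, ha, show y * (x * y * x) = y * x * y * x by group, ← hbr]
    have hai : R a⁻¹ = 1 := by
      have h := congrArg R (mul_inv_cancel a)
      rwa [map_mul, hR.1, map_one, one_mul] at h
    rw [e, map_mul, map_mul, hR.1, hai, one_mul, mul_one]
  have hpow : ∀ s, ∃ m : ℕ, R s = R x ^ m := by
    intro s
    have hs : s ∈ Subgroup.closure ({x, y} : Set (Cfsg.SU 2 F 3)) := hgen ▸ Subgroup.mem_top s
    have h2 : ∀ {t : Cfsg.SU 2 F 3}, t ^ 3 = 1 → t⁻¹ = t * t := fun {t} ht =>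
      inv_eq_of_mul_eq_one_right (by rw [← mul_assoc, ← pow_two, ← pow_succ, ht])
    induction hs using Subgroup.closure_induction_left with
    | one => exact ⟨0, by rw [map_one, pow_zero]⟩
    | mul_left s hs t _ ih =>
      obtain ⟨m, em⟩ := ih
      rcases hs with rfl | rfl
      · exact ⟨m + 1, by rw [map_mul, em, pow_succ']⟩
      · exact ⟨m + 1, by rw [map_mul, em, hRy, pow_succ']⟩
    | inv_mul_cancel s hs t _ ih =>
      obtain ⟨m, em⟩ := ih
      rcases hs with rfl | rfl
      · exact ⟨m + 2, by rw [h2 hx, map_mul, map_mul, em, pow_add, (Commute.pow_pow_self (R _) m 2).eq, pow_two]⟩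
      · exact ⟨m + 2, by rw [h2 hy, map_mul, map_mul, em, hRy, pow_add, (Commute.pow_pow_self (R _) m 2).eq, pow_two]⟩
  have hRx3 : R x ^ 3 = 1 := by rw [← map_pow, hx, map_one]
  have hRδ : R δ = 1 := by
    obtain ⟨m, em⟩ := hpow δ
    have h4 : R δ ^ 4 = 1 := by
      rw [← map_pow, show δ ^ 4 = δ * δ * (δ * δ) by rw [pow_succ, pow_succ, pow_two, mul_assoc], ← hnd,
        hnn, map_one]
    have h3' : R δ ^ 3 = 1 := by rw [em, ← pow_mul, mul_comm, pow_mul, hRx3, one_pow]
    rwa [pow_succ, h3', one_mul] at h4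
  have hRδi : R δ⁻¹ = 1 := by
    have h := congrArg R (mul_inv_cancel δ)
    rwa [map_mul, hRδ, map_one, one_mul] at h
  have hRx : R x = 1 := by
    have hoff : ∀ i j, ev' (κ i) ≠ ev' (κ j) → R x i j = 0 := fun i j hij => by
      have h := hRd x i j
      rw [map_mul, map_mul, hRδ, hRδi, one_mul, mul_one] at h
      have hp : ev' (κ i) * ev' (κ j) = -1 := by
        rcases mul_self_eq_one_iff.1 (hev (κ i)) with e | e <;>
          rcases mul_self_eq_one_iff.1 (hev (κ j)) with e' | e' <;> rw [e, e'] at hij ⊢ <;>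
          first | exact absurd rfl hij | ring1
      exact (mul_eq_zero.1 (show (2 : F) * R x i j = 0 by linear_combination h + R x i j * hp)).resolve_left
        (two_ne_zero' hF)
    have e01 := hoff 0 1 hne
    have e10 := hoff 1 0 hne.symm
    have q0 := congrFun (congrFun hRx3 0) 0
    have q1 := congrFun (congrFun hRx3 1) 1
    simp [pow_succ, Matrix.mul_apply, Fin.sum_univ_two, e01, e10] at q0 q1
    have one_root : ∀ r : F, r * r * r = 1 → r = 1 := fun r hr => by
      have : (r - 1) ^ 3 = 0 := by linear_combination hr + (r - r * r) * h3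
      exact sub_eq_zero.1 (eq_zero_of_pow_eq_zero this)
    ext i j
    fin_cases i <;> fin_cases j <;> simp [e01, e10, one_root _ q0, one_root _ q1]
  have hfix : ∀ s, R s = 1 := fun s => by obtain ⟨m, em⟩ := hpow s; rw [em, hRx, one_pow]
  have hle : L.range ≤ (emb (F := F) (q := 3) f).range := by
    rintro _ ⟨s, rfl⟩
    refine (mem_range_emb hF).2 fun j hj => ?_
    obtain ⟨i, rfl⟩ : j ∈ Set.range κ := by_contra fun h => hj ((hf j).2 h)
    funext k
    rw [suMat_apply]
    by_cases hk : k ∈ Set.range κ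
    · obtain ⟨l, rfl⟩ := hk
      have := congrFun (congrFun (hfix s) l) i
      simp only [R, MonoidHom.coe_mk, OneHom.coe_mk, Matrix.submatrix_apply] at this
      rw [this]
      by_cases h : l = i
      · subst h; simp [ev]
      · simp [ev, h, κ.injective.ne h]
    · rw [hblock s k (κ i) (hout i k hk)]
      have : k ≠ κ i := fun e => hk ⟨i, e.symm⟩
      simp [ev, this]
  refine Subgroup.eq_of_le_of_card_ge hle (le_of_eq ?_)
  rw [← Nat.card_congr (MonoidHom.ofInjective (emb_injective f)).toEquiv,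
    ← Nat.card_congr (MonoidHom.ofInjective hL).toEquiv]

end CfsgLib.Phan
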