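import Cfsg.Agent.Phan.Gen
import Cfsg.Agent.Unitary.Two
import Cfsg.Agent.Classical.Transvections

/-!
`SU₂(3)` on two elements of order three, and its lifts through central 2-extensions.
-/

set_option autoImplicit false
set_option linter.unusedSectionVars false
set_option linter.style.haveILetI false

namespace CfsgLib.Phan

open Matrix CfsgLib.Forms CfsgLib.Unitary

section braid

variable {H : Type*} [Group H] {X Y : H}

/-- Two elements of order three satisfying the braid relation generate a group of order at most 24. -/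
theorem braid_bound (hX : X ^ 3 = 1) (hb : X * Y * X = Y * X * Y) (hY : Y ^ 3 = 1)
    (hZ : ((X * Y * X) * (X * Y * X)) ^ 8 = 1) :
    Finite (Subgroup.closure ({X, Y} : Set H)) ∧ Nat.card (Subgroup.closure ({X, Y} : Set H)) ≤ 24 := by
  classical
  have hXi : X⁻¹ = X * X := inv_eq_of_mul_eq_one_right (by rw [← mul_assoc, ← pow_two, ← pow_succ, hX])
  have hYi : Y⁻¹ = Y * Y := inv_eq_of_mul_eq_one_right (by rw [← mul_assoc, ← pow_two, ← pow_succ, hY])
  set a := X * Y * X with ha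
  set Z := a * a with hZd
  set b := X * a * X⁻¹ with hbd
  set c := X * b * X⁻¹ with hcd
  have hc3 : X * c * X⁻¹ = a := by
    have h3 : X * X * X = 1 := by rw [← pow_two, ← pow_succ, hX]
    rw [hcd, hbd, show X * (X * (X * a * X⁻¹) * X⁻¹) * X⁻¹ = X * X * X * a * (X * X * X)⁻¹ by group, h3]
    simp
  have haX : a * X = Y * a := by
    rw [ha, show Y * (X * Y * X) = Y * X * Y * X by group, ← hb]
  have haY : a * Y = X * a := by
    rw [ha, show X * Y * X * Y = X * (Y * X * Y) by group, ← hb]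
  have hcZX : Commute Z X := by
    show Z * X = X * Z
    rw [hZd, mul_assoc, haX, ← mul_assoc, haY, mul_assoc]
  have hcZa : Commute Z a := (Commute.refl a).mul_left (Commute.refl a)
  have hcZb : Commute Z b := (hcZX.mul_right hcZa).mul_right hcZX.inv_right
  have hbb : b * b = Z := by
    rw [hbd, show X * a * X⁻¹ * (X * a * X⁻¹) = X * (a * a) * X⁻¹ by group, ← hZd, ← hcZX.eq,
      mul_inv_cancel_right]
  have hcc : c * c = Z := by
    rw [hcd, show X * b * X⁻¹ * (X * b * X⁻¹) = X * (b * b) * X⁻¹ by group, hbb, ← hcZX.eq,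
      mul_inv_cancel_right]
  have hab : a * b = X * Y⁻¹ := by
    rw [hbd, ha, hYi, show X * Y * X * (X * (X * Y * X) * X⁻¹) = X * Y * (X * X * X) * Y by group,
      show X * X * X = 1 by rw [← pow_two, ← pow_succ, hX], mul_one, mul_assoc]
  have hc : c = Y * X⁻¹ := by
    rw [hcd, hbd, ha, show X * (X * (X * Y * X) * X⁻¹) * X⁻¹ = X * X * X * Y * X⁻¹ by group,
      show X * X * X = 1 by rw [← pow_two, ← pow_succ, hX], one_mul]
  have habc : a * b * c = 1 := by rw [hab, hc]; group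
  have hci : c⁻¹ = a * b := (eq_inv_of_mul_eq_one_left habc).symm
  have hbc : b * c = a⁻¹ := eq_inv_of_mul_eq_one_right (by rw [← mul_assoc, habc])
  have habab : a * b * (a * b) = Z⁻¹ := by rw [← hci, ← _root_.mul_inv_rev, hcc]
  have hba : b * a = Z⁻¹ * Z⁻¹ * Z⁻¹ * (a * b) := by
    have h1 : b * a = a⁻¹ * Z⁻¹ * b⁻¹ := by rw [← habab]; group
    have h2 : a⁻¹ = Z⁻¹ * a := by rw [hZd]; group
    have h3 : b⁻¹ = Z⁻¹ * b := by rw [← hbb]; group
    rw [h1, h2, h3, mul_assoc Z⁻¹ a Z⁻¹, ← hcZa.inv_left.eq]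
    rw [show Z⁻¹ * (Z⁻¹ * a) * (Z⁻¹ * b) = Z⁻¹ * Z⁻¹ * (a * Z⁻¹) * b by group, ← hcZa.inv_left.eq]
    group
  have hZ6 : Z ^ 6 = 1 := by
    have h1 : b * a * b⁻¹ = Z⁻¹ * Z⁻¹ * Z⁻¹ * a := by rw [hba]; group
    have hd : Commute (Z⁻¹ * Z⁻¹ * Z⁻¹) a :=
      ((hcZa.inv_left.mul_left hcZa.inv_left).mul_left hcZa.inv_left)
    have h2 : Z = (Z⁻¹ * Z⁻¹ * Z⁻¹) ^ 2 * Z := by
      calc Z = b * Z * b⁻¹ := by rw [← hcZb.eq, mul_inv_cancel_right]
        _ = (b * a * b⁻¹) ^ 2 := by rw [conj_pow, pow_two, hZd]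
        _ = _ := by rw [h1, hd.mul_pow, pow_two a, ← hZd]
    have h3 := (right_eq_mul.1 h2)
    have h4 : (Z ^ 6)⁻¹ = 1 := by rw [← h3]; group
    exact inv_eq_one.1 h4
  have hZ2 : Z * Z = 1 := by
    rw [← pow_two]
    refine orderOf_dvd_iff_pow_eq_one.1 ?_
    have := Nat.dvd_gcd (orderOf_dvd_of_pow_eq_one hZ6) (orderOf_dvd_of_pow_eq_one hZ)
    exact this
  have hZi : Z⁻¹ = Z := inv_eq_of_mul_eq_one_right hZ2
  have hcval : c = Z * (a * b) := by
    rw [← inv_inv c, hci]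
    refine inv_eq_of_mul_eq_one_right ?_
    rw [← mul_assoc, ← (hcZa.mul_right hcZb).eq, mul_assoc, habab, mul_inv_cancel]
  have hai : a⁻¹ = Z * a := by
    refine inv_eq_of_mul_eq_one_right ?_
    rw [← mul_assoc, ← hcZa.eq, mul_assoc, ← hZd, hZ2]
  let qf : Fin 4 → H := ![1, a, b, a * b]
  let f : Fin 2 × Fin 4 × Fin 3 → H := fun v => Z ^ (v.1 : ℕ) * qf v.2.1 * X ^ (v.2.2 : ℕ)
  have hX' : ∀ v, ∃ v', f v' = X * f v := by
    rintro ⟨e, i, k⟩
    have hk : ∀ k : Fin 3, ∃ k' : Fin 3, X ^ (k' : ℕ) = X * X ^ (k : ℕ) := fun k => by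
      fin_cases k
      · exact ⟨1, by simp⟩
      · exact ⟨2, by simp [pow_two]⟩
      · exact ⟨0, by simp [← pow_succ', hX]⟩
    obtain ⟨k', hk'⟩ := hk k
    have he : ∃ (e' : Fin 2) (i' : Fin 4), Z ^ (e' : ℕ) * qf i' = Z ^ (e : ℕ) * (X * qf i * X⁻¹) := by
      have hflip : ∃ e' : Fin 2, Z ^ (e' : ℕ) = Z ^ (e : ℕ) * Z := by
        fin_cases e
        · exact ⟨1, by simp⟩
        · exact ⟨0, by simp [hZ2]⟩
      obtain ⟨e', he'⟩ := hflip
      fin_cases i
      · exact ⟨e, 0, by simp [qf]⟩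
      · exact ⟨e, 2, by simp [qf, hbd]⟩
      · exact ⟨e', 3, by
          show Z ^ (e' : ℕ) * (a * b) = Z ^ (e : ℕ) * (X * b * X⁻¹)
          rw [he', ← hcd, hcval, mul_assoc]⟩
      · exact ⟨e', 1, by
          show Z ^ (e' : ℕ) * a = Z ^ (e : ℕ) * (X * (a * b) * X⁻¹)
          rw [he', show X * (a * b) * X⁻¹ = X * a * X⁻¹ * (X * b * X⁻¹) by group, ← hbd, ← hcd, hbc, hai,
            mul_assoc]⟩
    obtain ⟨e', i', he'⟩ := he
    refine ⟨⟨e', i', k'⟩, ?_⟩
    show Z ^ (e' : ℕ) * qf i' * X ^ (k' : ℕ) = X * (Z ^ (e : ℕ) * qf i * X ^ (k : ℕ))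
    rw [he', hk', show X * (Z ^ (e : ℕ) * qf i * X ^ (k : ℕ)) =
      (X * Z ^ (e : ℕ)) * qf i * X ^ (k : ℕ) by group, ← (hcZX.pow_left _).eq]
    group
  have ha' : ∀ v, ∃ v', f v' = a * f v := by
    rintro ⟨e, i, k⟩
    have he : ∃ (e' : Fin 2) (i' : Fin 4), Z ^ (e' : ℕ) * qf i' = Z ^ (e : ℕ) * (a * qf i) := by
      have hflip : ∃ e' : Fin 2, Z ^ (e' : ℕ) = Z ^ (e : ℕ) * Z := by
        fin_cases e
        · exact ⟨1, by simp⟩
        · exact ⟨0, by simp [hZ2]⟩
      obtain ⟨e', he'⟩ := hflip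
      fin_cases i
      · exact ⟨e, 1, by simp [qf]⟩
      · exact ⟨e', 0, by
          show Z ^ (e' : ℕ) * 1 = Z ^ (e : ℕ) * (a * a)
          rw [he', mul_one, hZd]⟩
      · exact ⟨e, 3, by simp [qf]⟩
      · exact ⟨e', 2, by
          show Z ^ (e' : ℕ) * b = Z ^ (e : ℕ) * (a * (a * b))
          rw [he', ← mul_assoc a a b, ← hZd, mul_assoc]⟩
    obtain ⟨e', i', he'⟩ := he
    refine ⟨⟨e', i', k⟩, ?_⟩
    show Z ^ (e' : ℕ) * qf i' * X ^ (k : ℕ) = a * (Z ^ (e : ℕ) * qf i * X ^ (k : ℕ))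
    rw [he', show a * (Z ^ (e : ℕ) * qf i * X ^ (k : ℕ)) =
      (a * Z ^ (e : ℕ)) * qf i * X ^ (k : ℕ) by group, ← (hcZa.pow_left _).eq]
    group
  have hsub : ∀ g : Subgroup.closure ({X, Y} : Set H), ∃ v, f v = g.1 := by
    rintro ⟨g, hg⟩
    suffices key : ∀ v, ∃ v', f v' = g * f v by
      obtain ⟨v, hv⟩ := key (0, 0, 0)
      exact ⟨v, by simpa [f, qf] using hv⟩
    have hY' : ∀ v, ∃ v', f v' = Y * f v := fun v => by
      have e : Y = a * X * (a * (a * a)) := by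
        rw [haX, mul_assoc, show a * (a * (a * a)) = Z * Z by rw [hZd]; group, hZ2, mul_one]
      obtain ⟨v1, h1⟩ := ha' v
      obtain ⟨v2, h2⟩ := ha' v1
      obtain ⟨v3, h3⟩ := ha' v2
      obtain ⟨v4, h4⟩ := hX' v3
      obtain ⟨v5, h5⟩ := ha' v4
      exact ⟨v5, by rw [h5, h4, h3, h2, h1, e]; group⟩
    refine Subgroup.closure_induction_left (p := fun g _ => ∀ v, ∃ v', f v' = g * f v)
      (fun v => ⟨v, (one_mul _).symm⟩) ?_ ?_ hg
    · rintro s (rfl | rfl) w - ih v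
      · obtain ⟨v', hv⟩ := ih v
        obtain ⟨v'', hv'⟩ := hX' v'
        exact ⟨v'', by rw [hv', hv, mul_assoc]⟩
      · obtain ⟨v', hv⟩ := ih v
        obtain ⟨v'', hv'⟩ := hY' v'
        exact ⟨v'', by rw [hv', hv, mul_assoc]⟩
    · rintro s (rfl | rfl) w - ih v
      · obtain ⟨v', hv⟩ := ih v
        obtain ⟨v1, h1⟩ := hX' v'
        obtain ⟨v2, h2⟩ := hX' v1
        exact ⟨v2, by rw [h2, h1, hv, hXi]; group⟩
      · obtain ⟨v', hv⟩ := ih v
        obtain ⟨v1, h1⟩ := hY' v'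
        obtain ⟨v2, h2⟩ := hY' v1
        exact ⟨v2, by rw [h2, h1, hv, hYi]; group⟩
  choose r hr using hsub
  have hri : Function.Injective r := fun g g' e => Subtype.ext (by rw [← hr g, ← hr g', e])
  refine ⟨Finite.of_injective r hri, (Nat.card_le_card_of_injective r hri).trans (le_of_eq ?_)⟩
  simp [Nat.card_prod]

end braid

/-- The upper transvection. -/
def sl3up : Matrix.SpecialLinearGroup (Fin 2) (ZMod 3) :=
  Matrix.SpecialLinearGroup.transvection (show (0 : Fin 2) ≠ 1 by decide) 1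

/-- The lower transvection. -/
def sl3low : Matrix.SpecialLinearGroup (Fin 2) (ZMod 3) :=
  Matrix.SpecialLinearGroup.transvection (show (1 : Fin 2) ≠ 0 by decide) (-1)

theorem sl3_facts : sl3up ^ 3 = 1 ∧ sl3low ^ 3 = 1 ∧
    sl3up * sl3low * sl3up = sl3low * sl3up * sl3low ∧
    sl3up * sl3low * sl3up * (sl3up * sl3low * sl3up) ≠ 1 ∧
    (sl3up * sl3low * sl3up * (sl3up * sl3low * sl3up)) *
      (sl3up * sl3low * sl3up * (sl3up * sl3low * sl3up)) = 1 :=
  ⟨Subtype.ext (by decide), Subtype.ext (by decide), Subtype.ext (by decide),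
    fun h => absurd (congrArg Subtype.val h) (by decide), Subtype.ext (by decide)⟩

theorem sl3_tv : (∀ c : ZMod 3,
    Matrix.SpecialLinearGroup.transvection (show (0 : Fin 2) ≠ 1 by decide) c = sl3up ^ c.val) ∧
    ∀ c : ZMod 3,
      Matrix.SpecialLinearGroup.transvection (show (1 : Fin 2) ≠ 0 by decide) c = sl3low ^ (-c).val :=
  ⟨fun c => Subtype.ext (by revert c; decide), fun c => Subtype.ext (by revert c; decide)⟩

variable {F : Type*} [Field F] [Finite F] (hF : Nat.card F = 3 ^ 2)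

include hF in
theorem card_SU_two_three : Nat.card (Cfsg.SU 2 F 3) = 24 := by
  have h := card_SU_mul hF (n := 2) (by norm_num)
  rw [card_GU hF] at h
  simp only [Finset.prod_range_succ, Finset.prod_range_zero, one_mul] at h
  norm_num [-Nat.card_eq_fintype_card] at h
  omega

include hF in
/-- Generators of `SU₂(3)`. -/
theorem exists_braid_gens : ∃ x y : Cfsg.SU 2 F 3, x ^ 3 = 1 ∧ y ^ 3 = 1 ∧ x * y * x = y * x * y ∧
    x * y * x * (x * y * x) ≠ 1 ∧ (x * y * x * (x * y * x)) * (x * y * x * (x * y * x)) = 1 ∧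
    Subgroup.closure ({x, y} : Set (Cfsg.SU 2 F 3)) = ⊤ := by
  haveI : Fact (Nat.Prime 3) := ⟨Nat.prime_three⟩
  obtain ⟨e⟩ := su_two_iso hF (K := ZMod 3) (Nat.card_zmod 3)
  obtain ⟨ha3, hb3, hbr, hne, hsq⟩ := sl3_facts
  set a := sl3up
  set b := sl3low
  refine ⟨e.symm a, e.symm b, by rw [← map_pow, ha3, map_one], by rw [← map_pow, hb3, map_one],
    by simp only [← map_mul, hbr], fun h => hne (e.symm.injective ?_), ?_, ?_⟩
  · simpa only [map_mul, map_one] using h
  · simp only [← map_mul, hsq, map_one]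
  rw [Subgroup.eq_top_iff']
  intro g
  have key : ∀ A : Matrix.SpecialLinearGroup (Fin 2) (ZMod 3), A ∈ Subgroup.closure ({a, b} : Set _) := by
    refine CfsgLib.Linear.transvection_induction _ (fun i j hij c => ?_) fun A B hA hB => mul_mem hA hB
    have ha : a ∈ Subgroup.closure ({a, b} : Set _) := Subgroup.subset_closure (Or.inl rfl)
    have hb : b ∈ Subgroup.closure ({a, b} : Set _) :=
      Subgroup.subset_closure (Set.mem_insert_of_mem _ (Set.mem_singleton _))
    fin_cases i <;> fin_cases j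
    · exact absurd rfl hij
    · exact sl3_tv.1 c ▸ pow_mem ha _
    · exact sl3_tv.2 c ▸ pow_mem hb _
    · exact absurd rfl hij
  have h2 := Subgroup.mem_map_of_mem e.symm.toMonoidHom (key (e g))
  rw [MonoidHom.map_closure, Set.image_pair] at h2
  simpa using h2

variable {H W : Type*} [Group H] [Group W] {g : H →* W}

/-- The kernel is a central group of exponent four. -/
def FourKer (g : H →* W) : Prop := ∀ k, g k = 1 → (∀ h, Commute k h) ∧ k ^ 4 = 1

include hF in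
/-- Lifts are unique. -/
theorem lift_unique (hg : FourKer g) {L L' : Cfsg.SU 2 F 3 →* H} (h : ∀ s, g (L s) = g (L' s)) :
    L = L' := by
  obtain ⟨x, y, hx, hy, -, -, -, hgen⟩ := exists_braid_gens hF
  refine MonoidHom.eq_of_eqOn_dense hgen ?_
  have key : ∀ s : Cfsg.SU 2 F 3, s ^ 3 = 1 → L s = L' s := fun s hs => by
    obtain ⟨k, hk⟩ : ∃ k, L s = k * L' s := ⟨L s * (L' s)⁻¹, (inv_mul_cancel_right _ _).symm⟩
    have hk1 : g k = 1 := by
      have := congrArg g hk
      rw [map_mul, ← h] at this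
      exact right_eq_mul.1 this
    obtain ⟨hc, h4⟩ := hg k hk1
    have h3 : k ^ 3 = 1 := by
      have := congrArg (· ^ 3) hk
      simp only [(hc _).mul_pow, ← map_pow, hs, map_one, mul_one] at this
      exact this.symm
    have : k = 1 := by rw [pow_succ, h3, one_mul] at h4; exact h4
    rw [hk, this, one_mul]
  rintro s (rfl | rfl)
  exacts [key _ hx, key _ hy]

include hF in
/-- Lifts exist. -/
theorem exists_lift (hg : FourKer g) (hs : Function.Surjective g) (u : Cfsg.SU 2 F 3 →* W) :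
    ∃ L : Cfsg.SU 2 F 3 →* H, ∀ s, g (L s) = u s := by
  classical
  obtain ⟨x, y, hx, hy, hbr, -, hzz, hgen⟩ := exists_braid_gens hF
  have lift3 : ∀ s : Cfsg.SU 2 F 3, s ^ 3 = 1 → ∃ S, g S = u s ∧ S ^ 3 = 1 := fun s hs3 => by
    obtain ⟨h, hh⟩ := hs (u s)
    have h3 : g (h ^ 3) = 1 := by rw [map_pow, hh, ← map_pow, hs3, map_one]
    refine ⟨h ^ 4, ?_, ?_⟩
    · rw [map_pow, hh, ← map_pow, pow_succ, hs3, one_mul]
    · rw [← pow_mul, show 4 * 3 = 3 * 4 from rfl, pow_mul, (hg _ h3).2]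
  obtain ⟨X, hgX, hX⟩ := lift3 x hx
  obtain ⟨Y, hgY, hY⟩ := lift3 y hy
  set c := (X * Y * X) * (Y * X * Y)⁻¹ with hc
  have hgc : g c = 1 := by
    simp only [hc, map_mul, map_inv, hgX, hgY]
    simp only [← map_mul, ← map_inv, hbr, mul_inv_cancel, map_one]
  have hb : X * Y * X = Y * X * Y := by
    obtain ⟨hcc, h4⟩ := hg c hgc
    have e : X * Y * X * (X * Y)⁻¹ = c * Y := by
      rw [show X * Y * X = c * (Y * X * Y) by rw [hc, inv_mul_cancel_right]]
      group
    have h3 : c ^ 3 = 1 := by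
      have := congrArg (· ^ 3) e
      simp only [conj_pow, hX, mul_one, mul_inv_cancel, (hcc _).mul_pow, hY] at this
      exact this.symm
    have : c = 1 := by rw [pow_succ, h3, one_mul] at h4; exact h4
    exact mul_inv_eq_one.1 (hc ▸ this)
  have hZ : ((X * Y * X) * (X * Y * X)) ^ 8 = 1 := by
    have h2 : g (((X * Y * X) * (X * Y * X)) ^ 2) = 1 := by
      simp only [map_pow, map_mul, hgX, hgY]
      simp only [← map_mul, ← map_pow, pow_two, hzz, map_one]
    rw [show (8 : ℕ) = 2 * 4 from rfl, pow_mul, (hg _ h2).2]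
  set P := Subgroup.closure ({(x, X), (y, Y)} : Set (Cfsg.SU 2 F 3 × H))
  obtain ⟨hfin, hcard⟩ := braid_bound (X := (x, X)) (Y := (y, Y)) (Prod.ext hx hX) (Prod.ext hbr hb)
    (Prod.ext hy hY) (by
      refine Prod.ext ?_ hZ
      show (x * y * x * (x * y * x)) ^ 8 = 1
      rw [show (8 : ℕ) = 2 * 4 from rfl, pow_mul, pow_two, hzz, one_pow])
  haveI := hfin
  let π : P →* Cfsg.SU 2 F 3 := (MonoidHom.fst _ _).comp P.subtype
  have hsur : Function.Surjective π := by
    rw [← MonoidHom.range_eq_top, eq_top_iff, ← hgen, Subgroup.closure_le]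
    rintro s (rfl | rfl)
    exacts [⟨⟨(s, X), Subgroup.subset_closure (Or.inl rfl)⟩, rfl⟩,
      ⟨⟨(s, Y), Subgroup.subset_closure (Set.mem_insert_of_mem _ (Set.mem_singleton _))⟩, rfl⟩]
  have hbij : Function.Bijective π := (Nat.bijective_iff_surjective_and_card _).2
    ⟨hsur, le_antisymm (hcard.trans (card_SU_two_three hF).ge) (Nat.card_le_card_of_surjective π hsur)⟩
  let L : Cfsg.SU 2 F 3 →* H :=
    ((MonoidHom.snd _ _).comp P.subtype).comp (MulEquiv.ofBijective π hbij).symm.toMonoidHom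
  refine ⟨L, ?_⟩
  have hP : ∀ p ∈ P, g p.2 = u p.1 := fun p hp => by
    induction hp using Subgroup.closure_induction with
    | mem p hp => rcases hp with rfl | rfl; exacts [hgX, hgY]
    | one => simp
    | mul a b _ _ ha hb => rw [Prod.fst_mul, Prod.snd_mul, map_mul, map_mul, ha, hb]
    | inv a _ ha => rw [Prod.fst_inv, Prod.snd_inv, map_inv, map_inv, ha]
  intro s
  set p := (MulEquiv.ofBijective π hbij).symm s with hp
  have hps : π p = s := (MulEquiv.ofBijective π hbij).apply_symm_apply s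
  show g p.1.2 = u s
  rw [hP _ p.2]
  exact congrArg u hps

end CfsgLib.Phan
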