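import Cfsg.Agent.Phan.Twist
import Cfsg.Agent.Unitary.Two
import Cfsg.Agent.AutPSL.Bridge
import Mathlib.FieldTheory.Normal.Basic

/-!
The automorphisms of `SU` in two variables preserving the diagonal torus.
-/

set_option autoImplicit false
set_option linter.unusedSectionVars false
set_option linter.style.haveILetI false

namespace CfsgLib.Phan

open Matrix CfsgLib.Forms CfsgLib.Unitary

variable {F : Type*} [Field F] [Finite F] {q : ℕ} (hF : Nat.card F = q ^ 2)

include hF in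
/-- The isomorphism with `SL₂`, given by a matrix and an embedding of fields. -/
theorem exists_sl_two_conj {K : Type*} [Field K] [Finite K] (hK : Nat.card K = q) :
    ∃ (ι : K →+* F) (U : GL (Fin 2) F) (e : Matrix.SpecialLinearGroup (Fin 2) K ≃* Cfsg.SU 2 F q),
      ∀ A, suMat (e A) = U.1 * A.1.map ι * (U⁻¹).1 := by
  haveI := Fintype.ofFinite F
  haveI := Fintype.ofFinite K
  classical
  obtain ⟨ι, hι⟩ := exists_subfield_hom hF hK
  obtain ⟨c0, hc0, hc0t⟩ := exists_skew hF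
  have hc0q : c0 ^ q = -c0 := by linear_combination hc0t
  obtain ⟨P, hP, hform⟩ := exists_hyperbolic_two hF
  let D : Matrix (Fin 2) (Fin 2) F := !![c0, 0; 0, 1]
  have hD : IsUnit D.det := by simp [D, hc0]
  have hPD : IsUnit (P * D).det := by rw [Matrix.det_mul]; exact hP.mul hD
  let U := Matrix.GeneralLinearGroup.mk'' (P * D) hPD
  have hpres : ∀ A : Matrix.SpecialLinearGroup (Fin 2) K, ∀ x y,
      Cfsg.hermForm 2 F q ((U.1 * (A.1.map ι) * (U⁻¹).1) *ᵥ x)
        ((U.1 * (A.1.map ι) * (U⁻¹).1) *ᵥ y) = Cfsg.hermForm 2 F q x y := by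
    intro A x y
    have hx : x = U.1 *ᵥ ((U⁻¹).1 *ᵥ x) := by
      rw [Matrix.mulVec_mulVec, Units.mul_inv, Matrix.one_mulVec]
    have hy : y = U.1 *ᵥ ((U⁻¹).1 *ᵥ y) := by
      rw [Matrix.mulVec_mulVec, Units.mul_inv, Matrix.one_mulVec]
    simp only [← Matrix.mulVec_mulVec]
    conv_rhs => rw [hx, hy]
    change Cfsg.hermForm 2 F q ((P * D) *ᵥ _) ((P * D) *ᵥ _) =
      Cfsg.hermForm 2 F q ((P * D) *ᵥ _) ((P * D) *ᵥ _)
    rw [← Matrix.mulVec_mulVec, ← Matrix.mulVec_mulVec, ← Matrix.mulVec_mulVec,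
      ← Matrix.mulVec_mulVec, hform, hform]
    set u := (U⁻¹).1 *ᵥ x
    set v := (U⁻¹).1 *ᵥ y
    have hdet := congrArg ι A.2
    rw [Matrix.det_fin_two, map_sub, map_mul, map_mul, map_one] at hdet
    simp only [D, Matrix.mulVec, dotProduct, Fin.sum_univ_two, Matrix.of_apply,
      Matrix.cons_val_zero, Matrix.cons_val_one, Matrix.map_apply, zero_mul, one_mul, add_zero,
      zero_add, mul_pow, add_pow_q hF, hι, hc0q]
    linear_combination (c0 * (u 0 * v 1 ^ q) - c0 * (u 1 * v 0 ^ q)) * hdet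
  let φ : Matrix.SpecialLinearGroup (Fin 2) K →* Cfsg.SU 2 F q :=
    { toFun := fun A => ⟨⟨U.1 * A.1.map ι * (U⁻¹).1, by
          rw [Matrix.det_mul, Matrix.det_mul, mul_right_comm, ← Matrix.det_mul, Units.mul_inv,
            Matrix.det_one, one_mul, ← RingHom.mapMatrix_apply, ← RingHom.map_det, A.2, map_one]⟩,
        hpres A⟩
      map_one' := Subtype.ext (Subtype.ext (by
        change U.1 * (1 : Matrix (Fin 2) (Fin 2) K).map ι * (U⁻¹).1 = 1
        rw [Matrix.map_one ι ι.map_zero ι.map_one, mul_one, Units.mul_inv]))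
      map_mul' := fun A B => Subtype.ext (Subtype.ext (by
        change U.1 * (A.1 * B.1).map ι * (U⁻¹).1 =
          U.1 * A.1.map ι * (U⁻¹).1 * (U.1 * B.1.map ι * (U⁻¹).1)
        rw [Matrix.map_mul]
        simp only [mul_assoc]
        rw [← mul_assoc (U⁻¹).1 U.1, Units.inv_mul, one_mul])) }
  have hinj : Function.Injective φ := by
    intro A B e
    have h : U.1 * A.1.map ι * (U⁻¹).1 = U.1 * B.1.map ι * (U⁻¹).1 :=
      congrArg (fun g : Cfsg.SU 2 F q => (g.1.1 : Matrix (Fin 2) (Fin 2) F)) e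
    rw [Units.mul_left_inj, Units.mul_right_inj] at h
    refine Subtype.ext (Matrix.ext fun i j => ι.injective ?_)
    exact congrFun (congrFun h i) j
  have hcard : Nat.card (Cfsg.SU 2 F q) = Nat.card (Matrix.SpecialLinearGroup (Fin 2) K) := by
    have h1 := card_SU_mul hF (n := 2) (by norm_num)
    rw [card_GU hF] at h1
    have h2 := CfsgLib.Linear.card_SL_mul (F := K) (q := q)
      (by rw [← Nat.card_eq_fintype_card, hK]) 2 (by norm_num)
    simp only [Finset.prod_range_succ, Finset.prod_range_zero, Fin.prod_univ_two, Fin.val_zero,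
      Fin.val_one, pow_zero, pow_one, one_mul] at h1 h2
    norm_num [-Nat.card_eq_fintype_card] at h1 h2
    have hq := two_le_q hF
    obtain ⟨r, rfl⟩ : ∃ r, q = r + 2 := ⟨q - 2, by omega⟩
    have e1 : (r + 2) ^ 2 - 1 = (r + 1) * (r + 3) := by
      rw [Nat.sub_eq_iff_eq_add (Nat.one_le_pow _ _ (by omega))]; ring
    have e2 : (r + 2) ^ 2 - (r + 2) = (r + 2) * (r + 1) := by
      rw [Nat.sub_eq_iff_eq_add (Nat.le_self_pow two_ne_zero _)]; ring
    have e3 : r + 2 - 1 = r + 1 := by omega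
    rw [e1] at h1
    rw [e1, e2, e3] at h2
    apply Nat.eq_of_mul_eq_mul_left (show 0 < (r + 3) * (r + 1) by positivity)
    calc (r + 3) * (r + 1) * Nat.card (Cfsg.SU 2 F (r + 2))
        = (r + 1) * ((r + 2 + 1) * Nat.card (Cfsg.SU 2 F (r + 2))) := by ring
      _ = (r + 3) * ((r + 1) * Nat.card (Matrix.SpecialLinearGroup (Fin 2) K)) := by
            rw [h1, h2]; ring
      _ = _ := by ring
  exact ⟨ι, U, MulEquiv.ofBijective φ
    ((Nat.bijective_iff_injective_and_card φ).mpr ⟨hinj, hcard.symm⟩), fun A => rfl⟩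

include hF in
/-- There is a field with `q` elements. -/
theorem exists_field_card : ∃ (K : Type) (_ : Field K) (_ : Finite K), Nat.card K = q := by
  haveI := Fintype.ofFinite F
  obtain ⟨p, k, hcp, hp, hqk⟩ := exists_charP_pow hF
  haveI : Fact p.Prime := ⟨hp⟩
  have hk : k ≠ 0 := fun e => by
    have := two_le_q hF; rw [hqk, e, pow_zero] at this; omega
  exact ⟨GaloisField p k, inferInstance, inferInstance, by rw [GaloisField.card p k hk, hqk]⟩

/-- An automorphism of a finite subfield extends. -/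
theorem exists_extend {K : Type*} [Field K] [Finite K] (ι : K →+* F) (σ : K ≃+* K) :
    ∃ γ : F ≃+* F, ∀ a, γ (ι a) = ι (σ a) := by
  obtain ⟨p, hp⟩ := CharP.exists K
  haveI := hp
  haveI : Fact p.Prime := ⟨CharP.char_is_prime K p⟩
  haveI : CharP F p := (RingHom.charP_iff_charP ι p).1 hp
  letI := ZMod.algebra K p
  letI := ZMod.algebra F p
  letI := ι.toAlgebra
  haveI : IsScalarTower (ZMod p) K F := IsScalarTower.of_algebraMap_eq' (RingHom.ext_zmod _ _)
  let χ : K ≃ₐ[ZMod p] K :=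
    AlgEquiv.ofRingEquiv (f := σ) fun x => RingHom.congr_fun
      (RingHom.ext_zmod ((σ : K →+* K).comp (algebraMap (ZMod p) K)) (algebraMap (ZMod p) K)) x
  haveI : Normal (ZMod p) F := inferInstance
  exact ⟨(χ.liftNormal F).toRingEquiv, fun a => χ.liftNormal_commutes F a⟩

include hF in
/-- Every automorphism is semilinear. -/
theorem aut_semi (α : Cfsg.SU 2 F q ≃* Cfsg.SU 2 F q) :
    ∃ (γ : F ≃+* F) (M : GL (Fin 2) F), ∀ g, suMat (α g) * M.1 = M.1 * (suMat g).map γ := by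
  classical
  obtain ⟨K, iK, fK, hK⟩ := exists_field_card hF
  obtain ⟨ι, U, e, he⟩ := exists_sl_two_conj hF hK
  let α' := e.trans (α.trans e.symm)
  obtain ⟨g, σ, hgσ⟩ := CfsgLib.AutPSL.exists_semi_two (CfsgLib.AutPSL.toPSLAut α')
  obtain ⟨p, hp⟩ := CharP.exists K
  haveI := hp
  haveI : Fact p.Prime := ⟨CharP.char_is_prime K p⟩
  have hα' : ∀ s, α' s = CfsgLib.AutPSL.semiFun g σ s := by
    intro s
    refine CfsgLib.Linear.transvection_induction
      (fun s => α' s = CfsgLib.AutPSL.semiFun g σ s) (fun i j hij c => ?_) (fun A B hA hB => ?_) s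
    · have h := DFunLike.congr_fun hgσ (QuotientGroup.mk (Matrix.SpecialLinearGroup.transvection hij c))
      rw [CfsgLib.AutPSL.toPSLAut_mk, CfsgLib.AutPSL.semiAut_mk] at h
      rw [← CfsgLib.AutPSL.tv_cFlag i j hij c] at h ⊢
      refine CfsgLib.AutPSL.eq_of_mk_eq p ?_ ?_ h
      · rw [← map_pow, CfsgLib.AutPSL.tv_pow_prime p, map_one]
      · rw [CfsgLib.AutPSL.semiFun_tv, CfsgLib.AutPSL.tv_pow_prime p]
    · rw [map_mul, hA, hB, CfsgLib.AutPSL.semiFun_mul]
  obtain ⟨γ, hγ⟩ := exists_extend ι σ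
  let ιg : GL (Fin 2) K →* GL (Fin 2) F := Matrix.GeneralLinearGroup.map ι
  let γg : GL (Fin 2) F →* GL (Fin 2) F := Matrix.GeneralLinearGroup.map (γ : F →+* F)
  refine ⟨γ, U * ιg g * (γg U)⁻¹, fun x => ?_⟩
  obtain ⟨s, rfl⟩ := e.surjective x
  have hs : α (e s) = e (α' s) := by simp [α']
  rw [hs, he, hα', he]
  have e1 : ((γg U : GL (Fin 2) F) : Matrix (Fin 2) (Fin 2) F) = (U.1).map γ := rfl
  have e2 : ((ιg g : GL (Fin 2) F) : Matrix (Fin 2) (Fin 2) F) = (g.1).map ι := rfl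
  have e3 : (((γg U)⁻¹ : GL (Fin 2) F) : Matrix (Fin 2) (Fin 2) F) = ((U⁻¹).1).map γ := rfl
  have e4 : (((ιg g)⁻¹ : GL (Fin 2) F) : Matrix (Fin 2) (Fin 2) F) = ((g⁻¹).1).map ι := rfl
  have e5 : ((CfsgLib.AutPSL.semiFun g σ s).1).map ι =
      (g.1).map ι * ((s.1).map ι).map γ * ((g⁻¹).1).map ι := by
    rw [CfsgLib.AutPSL.coe_semiFun, Matrix.map_mul, Matrix.map_mul]
    congr 2
    ext i j; simp [hγ]
  rw [e5, ← e2, ← e4]
  simp only [Units.val_mul, e3, ← CfsgLib.AutPSL.map_mul_ringEquiv]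
  have hU : (U⁻¹).1 * U.1 = 1 := Units.inv_mul U
  have hU2 : ((U⁻¹).1).map γ * (U.1).map γ = 1 := by
    rw [← CfsgLib.AutPSL.map_mul_ringEquiv, hU, CfsgLib.AutPSL.map_one_ringEquiv]
  simp only [CfsgLib.AutPSL.map_mul_ringEquiv, mul_assoc, Units.inv_mul_cancel_left]
  simp only [← mul_assoc ((U⁻¹).1.map γ) (U.1.map γ), hU2, one_mul]

include hF in
/-- **Automorphisms preserving the diagonal torus are twists.** -/
theorem aut_torus (α : Cfsg.SU 2 F q ≃* Cfsg.SU 2 F q)
    (hα : ∀ t, suMat t 0 1 = 0 → suMat (α t) 0 1 = 0) :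
    ∃ (ζ : F) (hc : Unitvec q ![ζ, 1]) (γ : F ≃+* F), ∀ g, α g = twist hF ![ζ, 1] hc γ g := by
  classical
  obtain ⟨γ, M, hM⟩ := aut_semi hF α
  -- a regular torus element
  obtain ⟨z, hz, hz2⟩ : ∃ z : F, z * z ^ q = 1 ∧ z ^ q ≠ z := by
    haveI := Fintype.ofFinite F
    have hc := card_norm_fiber hF (μ := (1 : F)) one_ne_zero (one_pow q)
    rw [Nat.card_eq_fintype_card] at hc
    by_contra hall
    push Not at hall
    have hsub : ∀ x : {x : F // x ^ (q + 1) = 1}, x.1 ∈ ({1, -1} : Finset F) := fun x => by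
      have h1 : x.1 * x.1 ^ q = 1 := by rw [← pow_succ', x.2]
      rw [hall x.1 h1] at h1
      rcases mul_self_eq_one_iff.1 h1 with e | e <;> simp [e]
    have h2 : Fintype.card {x : F // x ^ (q + 1) = 1} ≤ 2 :=
      (Fintype.card_le_of_injective (fun x => (⟨x.1, hsub x⟩ : ({1, -1} : Finset F)))
        fun a b e => Subtype.ext (congrArg Subtype.val e :)).trans
        (by rw [Fintype.card_coe]; exact Finset.card_le_two)
    have := two_le_q hF; omega
  obtain ⟨t, ht0, ht1⟩ := exists_diag_two hF hz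
  have ht' := hα t ht1
  have ht10 : suMat t 1 0 = 0 := by rw [(su2_shape hF t).1, ht1, zero_pow (q_ne_zero hF), neg_zero]
  have ht10' : suMat (α t) 1 0 = 0 := by
    rw [(su2_shape hF (α t)).1, ht', zero_pow (q_ne_zero hF), neg_zero]
  have ht11 : suMat t 1 1 = z ^ q := by rw [(su2_shape hF t).2, ht0]
  have hE : ∀ g i j, suMat (α g) i 0 * M.1 0 j + suMat (α g) i 1 * M.1 1 j =
      M.1 i 0 * γ (suMat g 0 j) + M.1 i 1 * γ (suMat g 1 j) := fun g i j => by
    have := congrFun (congrFun (hM g) i) j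
    simpa [Matrix.mul_apply, Fin.sum_univ_two] using this
  have hne : γ z ≠ γ (z ^ q) := fun e => hz2 (γ.injective e).symm
  have hrow : ∀ i, M.1 i 0 = 0 ∨ M.1 i 1 = 0 := by
    intro i
    have h0 := hE t i 0
    have h1 := hE t i 1
    rw [ht0, ht10, map_zero] at h0
    rw [ht1, ht11, map_zero] at h1
    by_contra hh
    push Not at hh
    fin_cases i <;>
      simp only [Fin.zero_eta, Fin.mk_one, ht', ht10', zero_mul, mul_zero, add_zero, zero_add] at h0 h1 hh
    · exact hne ((mul_left_cancel₀ hh.1 (h0.symm.trans (mul_comm _ _))).trans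
        (mul_left_cancel₀ hh.2 (h1.symm.trans (mul_comm _ _))).symm)
    · exact hne ((mul_left_cancel₀ hh.1 (h0.symm.trans (mul_comm _ _))).trans
        (mul_left_cancel₀ hh.2 (h1.symm.trans (mul_comm _ _))).symm)
  have hdet : M.1.det ≠ 0 := ((Matrix.isUnit_iff_isUnit_det _).1 M.isUnit).ne_zero
  rw [Matrix.det_fin_two] at hdet
  obtain ⟨w, hw⟩ := exists_swap hF (show (0 : Fin 2) ≠ 1 by decide) 1
  have hw00 : suMat w 0 0 = 0 := by rw [← suMat_apply, hw 0]; simp [ev]
  have hw01 : suMat w 0 1 = -1 := by rw [← suMat_apply, hw 1]; simp [ev]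
  -- the first row decides
  have main : ∀ (ζ : F) (δ : F ≃+* F),
      (∀ g, suMat (α g) 0 0 = δ (suMat g 0 0) ∧ suMat (α g) 0 1 = ζ * δ (suMat g 0 1)) →
        ∃ (ζ : F) (hc : Unitvec q ![ζ, 1]) (γ : F ≃+* F), ∀ g, α g = twist hF ![ζ, 1] hc γ g := by
    intro ζ δ h
    have hn := su2_norm hF (α w)
    rw [(h w).1, (h w).2, hw00, hw01, map_zero, map_neg, map_one] at hn
    have hζ : ζ * ζ ^ q = 1 := by
      have : (ζ * -1) ^ q = -(ζ ^ q) := by rw [mul_neg_one, frob_neg hF]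
      rw [this] at hn
      linear_combination hn
    have hc : Unitvec q ![ζ, 1] := fun i => by fin_cases i <;> simp [hζ]
    refine ⟨ζ, hc, δ, fun g => su2_ext hF ?_ ?_⟩
    · rw [(h g).1, suMat_twist]
      simp only [Matrix.cons_val_zero]
      linear_combination -(δ (suMat g 0 0)) * hζ
    · rw [(h g).2, suMat_twist]; simp
  rcases hrow 0 with h00 | h01
  · rw [h00, zero_mul, zero_sub, neg_ne_zero, mul_ne_zero_iff] at hdet
    have h11 : M.1 1 1 = 0 := (hrow 1).resolve_left hdet.2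
    refine main (-(M.1 0 1 / M.1 1 0)) (γ.trans (RingEquiv.ofBijective (frobQ hF)
      ((Finite.injective_iff_bijective).1 (frobQ hF).injective))) fun g => ?_
    show _ = (γ (suMat g 0 0)) ^ q ∧ _ = -(M.1 0 1 / M.1 1 0) * (γ (suMat g 0 1)) ^ q
    have e0 := hE g 0 0
    have e1 := hE g 0 1
    rw [(su2_shape hF g).1, map_neg, map_pow] at e0
    rw [(su2_shape hF g).2, map_pow] at e1
    simp only [h00, h11] at e0 e1
    simp only [mul_zero, zero_mul, add_zero, zero_add] at e0 e1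
    refine ⟨mul_right_cancel₀ hdet.1 (e1.trans (mul_comm _ _)), ?_⟩
    have h := hdet.2
    field_simp
    linear_combination e0
  · rw [h01, zero_mul, sub_zero, mul_ne_zero_iff] at hdet
    have h10 : M.1 1 0 = 0 := (hrow 1).resolve_right hdet.2
    refine main (M.1 0 0 / M.1 1 1) γ fun g => ?_
    have e0 := hE g 0 0
    have e1 := hE g 0 1
    simp only [h01, h10] at e0 e1
    simp only [mul_zero, zero_mul, add_zero, zero_add] at e0 e1
    refine ⟨mul_right_cancel₀ hdet.1 (e0.trans (mul_comm _ _)), ?_⟩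
    have h := hdet.2
    field_simp
    linear_combination e1

end CfsgLib.Phan
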