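import Cfsg.Agent.Phan.ThreeFrame
import Cfsg.Agent.Phan.TwoAut

/-!
Automorphisms of `SU₃(3)` preserving both blocks are twists.
-/

set_option autoImplicit false
set_option linter.unusedSectionVars false
set_option linter.style.haveILetI false

namespace CfsgLib.Phan

open Matrix CfsgLib.Forms CfsgLib.Unitary

section general

variable {F : Type*} [Field F] [Finite F] {q n m : ℕ}

theorem suMat_emb (f : Fin m ↪ Fin n) (A : Cfsg.SU m F q) (a b : Fin m) :
    suMat (emb f A) (f a) (f b) = suMat A a b := by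
  rw [← suMat_apply, act_emb_ev, f.injective.extend_apply, suMat_apply]

theorem suMat_emb_col (f : Fin m ↪ Fin n) (A : Cfsg.SU m F q) {i : Fin n} (hi : i ∉ Set.range f) (b : Fin m) :
    suMat (emb f A) i (f b) = 0 := by
  rw [← suMat_apply, act_emb_ev, Function.extend_apply' _ _ _ (by rintro ⟨c, hc⟩; exact hi ⟨c, hc⟩)]
  rfl

theorem suMat_emb_out (f : Fin m ↪ Fin n) (A : Cfsg.SU m F q) (i : Fin n) {j : Fin n}
    (hj : j ∉ Set.range f) : suMat (emb f A) i j = (ev j : Fin n → F) i := by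
  rw [← suMat_apply, act_emb_outside f A hj]

/-- The sign vector of a block. -/
noncomputable def sgnVec (F : Type*) [Field F] {n m : ℕ} (f : Fin m ↪ Fin n) : Fin n → F :=
  fun i => by classical exact if i ∈ Set.range f then -1 else 1

theorem sgnVec_mem (f : Fin m ↪ Fin n) (a : Fin m) : sgnVec F f (f a) = -1 := by
  classical
  simp [sgnVec]

theorem sgnVec_out (f : Fin m ↪ Fin n) {i : Fin n} (hi : i ∉ Set.range f) : sgnVec F f i = 1 := by
  classical
  simp only [sgnVec, hi, if_false]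

theorem suMat_emb_neg (f : Fin m ↪ Fin n) {A : Cfsg.SU m F q} (hA : suMat A = -1) :
    suMat (emb f A) = Matrix.diagonal (sgnVec F f) := by
  classical
  refine Matrix.ext fun i j => ?_
  by_cases hj : j ∈ Set.range f
  · obtain ⟨b, rfl⟩ := hj
    by_cases hi : i ∈ Set.range f
    · obtain ⟨a, rfl⟩ := hi
      rw [suMat_emb, hA]
      by_cases h : a = b
      · subst h; simp [sgnVec_mem]
      · simp [h, f.injective.ne h]
    · rw [suMat_emb_col f A hi, Matrix.diagonal_apply_ne]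
      exact fun e => hi ⟨b, e.symm⟩
  · rw [suMat_emb_out f A i hj]
    by_cases h : i = j
    · subst h; simp [ev, sgnVec_out f hj]
    · simp [ev, h]

variable (hF : Nat.card F = q ^ 2)

include hF in
theorem unitvec_sgn (f : Fin m ↪ Fin n) : Unitvec q (sgnVec F f) := fun i => by
  by_cases h : i ∈ Set.range f
  · obtain ⟨a, rfl⟩ := h; rw [sgnVec_mem, frob_neg hF, one_pow]; ring
  · rw [sgnVec_out f h]; simp

include hF in
theorem twist_congr {c c' : Fin n → F} (hc : Unitvec q c) (hc' : Unitvec q c') (γ : F ≃+* F)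
    (h : ∀ i j, c i * c j ^ q = c' i * c' j ^ q) : twist hF c hc γ = twist hF c' hc' γ := by
  refine MonoidHom.ext fun g => act_eq_of_basis fun j => funext fun i => ?_
  rw [suMat_apply, suMat_apply, suMat_twist, suMat_twist]
  linear_combination γ (suMat g i j) * h i j

include hF in
theorem twist_trivial {c : Fin n → F} (hc : Unitvec q c) (h : ∀ i j, c i = c j) (g : Cfsg.SU n F q) :
    twist hF c hc (RingEquiv.refl F) g = g := by
  refine act_eq_of_basis fun j => funext fun i => ?_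
  rw [suMat_apply, suMat_apply, suMat_twist, RingEquiv.refl_apply, h i j]
  linear_combination suMat g i j * hc j

include hF in
theorem twist_range (f : Fin m ↪ Fin n) (c : Fin n → F) (hc : Unitvec q c) (γ : F ≃+* F) :
    (emb (F := F) (q := q) f).range.map (twist hF c hc γ) = (emb (F := F) (q := q) f).range := by
  refine le_antisymm ?_ ?_
  · rintro _ ⟨_, ⟨X, rfl⟩, rfl⟩; exact ⟨_, (twist_emb hF f c hc γ X).symm⟩
  · rintro _ ⟨X, rfl⟩
    obtain ⟨Y, hY⟩ := ((Finite.injective_iff_bijective).1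
      (twist_injective hF (c ∘ f) (fun i => hc (f i)) γ)).2 X
    exact ⟨emb f Y, ⟨Y, rfl⟩, by rw [twist_emb hF f c hc, hY]⟩

end general

section three

variable {F : Type*} [Field F] [Finite F] (hF : Nat.card F = 3 ^ 2)

include hF

/-- Equal on elements of norm one implies equal. -/
theorem ringAut_ext_three {γ γ' : F ≃+* F} (h : ∀ z : F, z * z ^ 3 = 1 → γ z = γ' z) : γ = γ' := by
  haveI := Fintype.ofFinite F
  obtain ⟨z, hz, hz3⟩ := exists_i hF
  have h3 := three_zero hF
  have h2 := two_ne_zero' hF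
  have hz0 : z ≠ 0 := fun e => by simp [e] at hz
  have h9 : ∀ x : F, x ^ 9 = x := fun x => by
    have := FiniteField.pow_card x
    rwa [← Nat.card_eq_fintype_card, hF] at this
  have hfix : ∀ (σ : F ≃+* F) (a : F), a ^ 3 = a → σ a = a := fun σ a ha => by
    rcases eq_or_ne a 0 with rfl | h0
    · exact map_zero σ
    rcases mul_self_eq_one_iff.1 (mul_left_cancel₀ h0 (by linear_combination ha) : a * a = 1) with rfl | rfl
    · exact map_one σ
    · rw [map_neg, map_one]
  have hzz : γ z = γ' z := h z (by rw [hz3]; linear_combination -hz)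
  refine RingEquiv.ext fun x => ?_
  have hA : (-(x + x ^ 3)) ^ 3 = -(x + x ^ 3) := by
    linear_combination -(h9 x) - (x ^ 5 + x ^ 7) * h3
  have hB : (z * (x - x ^ 3)) ^ 3 = z * (x - x ^ 3) := by
    rw [mul_pow, hz3]
    linear_combination z * (h9 x) + (z * (x ^ 5 - x ^ 7)) * h3
  have hx : x = -(x + x ^ 3) + (z * (x - x ^ 3)) * z := by
    linear_combination x * h3 - (x - x ^ 3) * hz
  rw [hx, map_add, map_add, map_mul γ (z * (x - x ^ 3)) z, map_mul γ' (z * (x - x ^ 3)) z, hfix γ _ hA,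
    hfix γ' _ hA, hfix γ _ hB, hfix γ' _ hB, hzz]

theorem conj_delta_eq_twist {z : F} {δ : Cfsg.SU 2 F 3} (hz : z * z = -1) (hz3 : z ^ 3 = -z)
    (h0 : suMat δ 0 0 = z) (h1 : suMat δ 0 1 = 0) {c : Fin 2 → F} (hc : Unitvec 3 c)
    (hne : c 0 * c 1 ^ 3 = -1) (s : Cfsg.SU 2 F 3) :
    δ * s * δ⁻¹ = twist hF c hc (RingEquiv.refl F) s := by
  obtain ⟨e10, e11⟩ := su2_shape hF δ
  have hδ : suMat δ = Matrix.diagonal ![z, -z] := by
    ext i j
    fin_cases i <;> fin_cases j <;> simp [h0, h1, e10, e11, hz3]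
  have hv : Unitvec 3 ![z, -z] := fun i => by
    fin_cases i
    · show z * z ^ 3 = 1; rw [hz3]; linear_combination -hz
    · show -z * (-z) ^ 3 = 1; rw [frob_neg hF, hz3]; linear_combination -hz
  rw [conj_eq_twist hF hv hδ]
  refine su2_ext hF ?_ ?_
  · rw [suMat_twist, suMat_twist]
    simp only [RingEquiv.refl_apply]
    linear_combination suMat s 0 0 * hv 0 - suMat s 0 0 * hc 0
  · rw [suMat_twist, suMat_twist]
    show z * suMat s 0 1 * (-z) ^ 3 = c 0 * suMat s 0 1 * c 1 ^ 3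
    rw [frob_neg hF, hz3]
    linear_combination suMat s 0 1 * hz - suMat s 0 1 * hne

/-- The sign element of an overlapping block acts as conjugation by `δ`. -/
theorem conj_sign_block {z : F} {δ nn : Cfsg.SU 2 F 3} (hz : z * z = -1) (hz3 : z ^ 3 = -z)
    (h0 : suMat δ 0 0 = z) (h1 : suMat δ 0 1 = 0) (hn : suMat nn = -1) {n : ℕ} (f g : Fin 2 ↪ Fin n)
    (hfg : sgnVec F f (g 0) * sgnVec F f (g 1) ^ 3 = -1) (s : Cfsg.SU 2 F 3) :
    emb f nn * emb g s * (emb f nn)⁻¹ = emb g (δ * s * δ⁻¹) := by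
  rw [conj_eq_twist hF (unitvec_sgn hF f) (suMat_emb_neg f hn), twist_emb hF g _ (unitvec_sgn hF f)]
  rw [conj_delta_eq_twist hF hz hz3 h0 h1 (c := sgnVec F f ∘ g)
    (fun i => unitvec_sgn hF f (g i)) hfg]

theorem two_noncomm : ∃ a b : Cfsg.SU 2 F 3, a * b ≠ b * a ∧ suMat a 0 1 ≠ 0 := by
  obtain ⟨z, δ, n, hz, hz3, h0, h1, -⟩ := two_exists_delta hF
  obtain ⟨w, hw⟩ := exists_swap hF (show (0 : Fin 2) ≠ 1 by decide) 1
  have hw01 : suMat w 0 1 = -1 := by
    rw [← suMat_apply, hw, if_pos rfl, Equiv.swap_apply_right]; simp [ev]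
  obtain ⟨e10, e11⟩ := su2_shape hF δ
  refine ⟨w, δ, fun e => ?_, by rw [hw01]; exact neg_ne_zero.2 one_ne_zero⟩
  have h := congrArg (fun g => suMat g 0 1) e
  simp [suMat_mul, Matrix.mul_apply, Fin.sum_univ_two, h0, h1, hw01, e11, hz3] at h
  have hz0 : z ≠ 0 := fun e => by simp [e] at hz
  exact two_ne_zero' hF ((mul_eq_zero.1 (show (2 : F) * z = 0 by linear_combination h)).resolve_right hz0)

theorem sgn_three : (sgnVec F (win 0 2 3 (by omega)) 0 = -1 ∧ sgnVec F (win 0 2 3 (by omega)) 1 = -1 ∧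
      sgnVec F (win 0 2 3 (by omega)) 2 = 1) ∧
    (sgnVec F (win 1 2 3 (by omega)) 0 = 1 ∧ sgnVec F (win 1 2 3 (by omega)) 1 = -1 ∧
      sgnVec F (win 1 2 3 (by omega)) 2 = -1) :=
  ⟨⟨sgnVec_mem (win 0 2 3 (by omega)) 0, sgnVec_mem (win 0 2 3 (by omega)) 1,
    sgnVec_out _ (by rw [mem_range_win]; simp)⟩,
  ⟨sgnVec_out _ (by rw [mem_range_win]; simp), sgnVec_mem (win 1 2 3 (by omega)) 0,
    sgnVec_mem (win 1 2 3 (by omega)) 1⟩⟩

omit hF in
/-- Commuting with a diagonal element forces zero entries. -/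
theorem entry_zero_of_commute {k : ℕ} {g d : Cfsg.SU k F 3} {v : Fin k → F} (hd : suMat d = Matrix.diagonal v)
    (e : d * g = g * d) {i j : Fin k} (hij : v i ≠ v j) : suMat g i j = 0 := by
  have h := congrArg (fun x => suMat x i j) e
  simp only [suMat_mul, hd, Matrix.diagonal_mul, Matrix.mul_diagonal] at h
  exact (mul_eq_zero.1 (show (v i - v j) * suMat g i j = 0 by linear_combination h)).resolve_left
    (sub_ne_zero.2 hij)

/-- The three sign elements of two overlapping blocks are not central. -/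
theorem sign_not_central {n : Cfsg.SU 2 F 3} (hn : suMat n = -1) :
    emb (win 0 2 3 (by omega)) n ∉ Subgroup.center (Cfsg.SU 3 F 3) ∧
      emb (win 1 2 3 (by omega)) n ∉ Subgroup.center (Cfsg.SU 3 F 3) ∧
      emb (win 0 2 3 (by omega)) n * emb (win 1 2 3 (by omega)) n ∉ Subgroup.center (Cfsg.SU 3 F 3) := by
  obtain ⟨w, -, -, hw⟩ := two_noncomm hF
  obtain ⟨⟨a0, a1, a2⟩, ⟨b0, b1, b2⟩⟩ := sgn_three hF
  have hpm := one_ne_neg_one hF
  have key : ∀ (d : Cfsg.SU 3 F 3) (v : Fin 3 → F) (f : Fin 2 ↪ Fin 3), suMat d = Matrix.diagonal v →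
      v (f 0) ≠ v (f 1) → d ∉ Subgroup.center (Cfsg.SU 3 F 3) := fun d v f hd hv hc => hw (by
    rw [← suMat_emb f]
    exact entry_zero_of_commute hd (Subgroup.mem_center_iff.1 hc _).symm hv)
  refine ⟨key _ _ (win 1 2 3 (by omega)) (suMat_emb_neg _ hn) ?_,
    key _ _ (win 0 2 3 (by omega)) (suMat_emb_neg _ hn) ?_,
    key _ (fun i => sgnVec F (win 0 2 3 (by omega)) i * sgnVec F (win 1 2 3 (by omega)) i)
      (win 0 2 3 (by omega)) (by rw [suMat_mul, suMat_emb_neg _ hn, suMat_emb_neg _ hn, Matrix.diagonal_mul_diagonal]) ?_⟩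
  · show sgnVec F _ (1 : Fin 3) ≠ sgnVec F _ (2 : Fin 3)
    rw [a1, a2]; exact hpm.symm
  · show sgnVec F _ (0 : Fin 3) ≠ sgnVec F _ (1 : Fin 3)
    rw [b0, b1]; exact hpm
  · show sgnVec F _ (0 : Fin 3) * sgnVec F _ (0 : Fin 3) ≠ sgnVec F _ (1 : Fin 3) * sgnVec F _ (1 : Fin 3)
    rw [a0, a1, b0, b1]; simpa using hpm.symm

/-- **Automorphisms preserving both blocks are twists.** -/
theorem aut_blocks (α : Cfsg.SU 3 F 3 →* Cfsg.SU 3 F 3) (hα : Function.Injective α)
    (hb : ∀ i (hi : i + 2 ≤ 3), ∀ X, ∃ Y, α (emb (win i 2 3 hi) X) = emb (win i 2 3 hi) Y) :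
    ∃ (c : Fin 3 → F) (hc : Unitvec 3 c) (γ : F ≃+* F), α = twist hF c hc γ := by
  classical
  obtain ⟨z, δ, n, -, -, -, -, -, hn, hnn, hn1, -⟩ := two_exists_delta hF
  -- the restrictions
  have hres : ∀ i (hi : i + 2 ≤ 3), ∃ β : Cfsg.SU 2 F 3 ≃* Cfsg.SU 2 F 3,
      ∀ X, α (emb (win i 2 3 hi) X) = emb (win i 2 3 hi) (β X) := fun i hi => by
    choose b hb' using hb i hi
    let B : Cfsg.SU 2 F 3 →* Cfsg.SU 2 F 3 := MonoidHom.mk' b fun X Y =>
      emb_injective (win i 2 3 hi) (by rw [← hb', map_mul, map_mul, hb', hb', map_mul])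
    have hB : Function.Injective B := fun X Y e => emb_injective (win i 2 3 hi) (hα (by
      rw [hb', hb']; exact congrArg _ e))
    exact ⟨MulEquiv.ofBijective B ((Finite.injective_iff_bijective).1 hB), fun X => hb' X⟩
  obtain ⟨β0, hβ0⟩ := hres 0 (by omega)
  obtain ⟨β1, hβ1⟩ := hres 1 (by omega)
  have hn_fix : ∀ β : Cfsg.SU 2 F 3 ≃* Cfsg.SU 2 F 3, β n = n := fun β =>
    (two_invol hF hn (by rw [← map_mul, hnn, map_one])).resolve_left
      fun e => hn1 (β.injective (e.trans (map_one β).symm))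
  obtain ⟨⟨a0, a1, a2⟩, ⟨b0, b1, b2⟩⟩ := sgn_three hF
  have hpm := one_ne_neg_one hF
  have hcomm : ∀ i j (hi : i + 2 ≤ 3) (hj : j + 2 ≤ 3) (t : Cfsg.SU 2 F 3), suMat t 0 1 = 0 →
      emb (win j 2 3 hj) n * emb (win i 2 3 hi) t = emb (win i 2 3 hi) t * emb (win j 2 3 hj) n := by
    intro i j hi hj t ht
    have ht' : suMat t 1 0 = 0 := by rw [(su2_shape hF t).1, ht]; simp
    refine Subtype.ext (Subtype.ext ?_)
    show suMat (emb (win j 2 3 hj) n * emb (win i 2 3 hi) t) = suMat (emb (win i 2 3 hi) t * emb (win j 2 3 hj) n)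
    rw [suMat_mul, suMat_mul, suMat_emb_neg _ hn]
    ext a b
    rw [Matrix.diagonal_mul, Matrix.mul_diagonal]
    by_cases hab : a = b
    · subst hab; ring
    have hz : suMat (emb (win i 2 3 hi) t) a b = 0 := by
      by_cases hb : b ∈ Set.range (win i 2 3 hi)
      · obtain ⟨b', rfl⟩ := hb
        by_cases ha : a ∈ Set.range (win i 2 3 hi)
        · obtain ⟨a', rfl⟩ := ha
          rw [suMat_emb]
          fin_cases a' <;> fin_cases b'
          exacts [absurd rfl hab, ht, ht', absurd rfl hab]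
        · exact suMat_emb_col _ t ha b'
      · rw [suMat_emb_out _ t a hb]; simp [ev, hab]
    rw [hz]; ring
  have hdiag0 : ∀ t, suMat t 0 1 = 0 → suMat (β0 t) 0 1 = 0 := fun t ht => by
    have e := congrArg α (hcomm 0 1 (by omega) (by omega) t ht)
    rw [map_mul, map_mul, hβ0, hβ1, hn_fix] at e
    rw [← suMat_emb (win 0 2 3 (by omega))]
    refine entry_zero_of_commute (suMat_emb_neg _ hn) e ?_
    show sgnVec F _ (0 : Fin 3) ≠ sgnVec F _ (1 : Fin 3)
    rw [b0, b1]; exact hpm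
  have hdiag1 : ∀ t, suMat t 0 1 = 0 → suMat (β1 t) 0 1 = 0 := fun t ht => by
    have e := congrArg α (hcomm 1 0 (by omega) (by omega) t ht)
    rw [map_mul, map_mul, hβ0, hβ1, hn_fix] at e
    rw [← suMat_emb (win 1 2 3 (by omega))]
    refine entry_zero_of_commute (suMat_emb_neg _ hn) e ?_
    show sgnVec F _ (1 : Fin 3) ≠ sgnVec F _ (2 : Fin 3)
    rw [a1, a2]; exact hpm.symm
  obtain ⟨ζ, hc, γ, hγ⟩ := aut_torus hF β0 hdiag0
  obtain ⟨ζ', hc', γ', hγ'⟩ := aut_torus hF β1 hdiag1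
  have hζ : ζ * ζ ^ 3 = 1 := hc 0
  have hζ' : ζ' * ζ' ^ 3 = 1 := hc' 0
  have hγγ : γ = γ' := by
    refine ringAut_ext_three hF fun y hy => ?_
    obtain ⟨t, ht0, ht1⟩ := exists_diag_two hF hy
    have ht : suMat (emb (win 0 2 3 (by omega)) t) = Matrix.diagonal ![y, y ^ 3, 1] := by
      obtain ⟨e10, e11⟩ := su2_shape hF t
      ext a b
      fin_cases b
      · show suMat _ a (win 0 2 3 (by omega) 0) = _
        fin_cases a
        · exact (suMat_emb (win 0 2 3 (by omega)) t 0 0).trans (by simp [ht0])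
        · exact (suMat_emb (win 0 2 3 (by omega)) t 1 0).trans (by simp [e10, ht1])
        · exact (suMat_emb_col _ t (by rw [mem_range_win]; simp) 0).trans (by simp)
      · show suMat _ a (win 0 2 3 (by omega) 1) = _
        fin_cases a
        · exact (suMat_emb (win 0 2 3 (by omega)) t 0 1).trans (by simp [ht1])
        · exact (suMat_emb (win 0 2 3 (by omega)) t 1 1).trans (by simp [e11, ht0])
        · exact (suMat_emb_col _ t (by rw [mem_range_win]; simp) 1).trans (by simp)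
      · rw [suMat_emb_out _ t a (by rw [mem_range_win]; simp)]
        fin_cases a <;> simp [ev]
    have hv : Unitvec 3 (![y, y ^ 3, 1] : Fin 3 → F) := fun i => by
      fin_cases i
      · exact hy
      · show y ^ 3 * (y ^ 3) ^ 3 = 1
        rw [pow_q_q hF, mul_comm, hy]
      · simp
    obtain ⟨w, hw⟩ := exists_swap hF (show (0 : Fin 2) ≠ 1 by decide) 1
    have hw01 : suMat w 0 1 = -1 := by
      rw [← suMat_apply, hw, if_pos rfl, Equiv.swap_apply_right]; simp [ev]
    set X := twist hF (![y, y ^ 3, 1] ∘ win 1 2 3 (by omega)) (fun i => hv _) (RingEquiv.refl F) w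
    have e : emb (win 0 2 3 (by omega)) t * emb (win 1 2 3 (by omega)) w * (emb (win 0 2 3 (by omega)) t)⁻¹ =
        emb (win 1 2 3 (by omega)) X := by
      rw [conj_eq_twist hF hv ht, twist_emb hF _ _ hv]
    have e' := congrArg α e
    rw [map_mul, map_mul, map_inv, hβ0, hβ1, hβ1] at e'
    have h2 := congrArg (fun g => suMat g (win 1 2 3 (by omega) 0) (win 1 2 3 (by omega) 1))
      (mul_inv_eq_iff_eq_mul.1 e')
    have hd : suMat (emb (win 0 2 3 (by omega)) (β0 t)) = Matrix.diagonal ![γ y, (γ y) ^ 3, 1] := by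
      have hb0 : suMat (β0 t) 0 0 = γ y := by
        rw [hγ, suMat_twist, ht0]
        show ζ * γ y * ζ ^ 3 = γ y
        linear_combination γ y * hζ
      have hb1 : suMat (β0 t) 0 1 = 0 := hdiag0 t ht1
      obtain ⟨e10, e11⟩ := su2_shape hF (β0 t)
      ext a b
      fin_cases b
      · show suMat _ a (win 0 2 3 (by omega) 0) = _
        fin_cases a
        · exact (suMat_emb (win 0 2 3 (by omega)) _ 0 0).trans (by simp [hb0])
        · exact (suMat_emb (win 0 2 3 (by omega)) _ 1 0).trans (by simp [e10, hb1])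
        · exact (suMat_emb_col _ _ (by rw [mem_range_win]; simp) 0).trans (by simp)
      · show suMat _ a (win 0 2 3 (by omega) 1) = _
        fin_cases a
        · exact (suMat_emb (win 0 2 3 (by omega)) _ 0 1).trans (by simp [hb1])
        · exact (suMat_emb (win 0 2 3 (by omega)) _ 1 1).trans (by simp [e11, hb0])
        · exact (suMat_emb_col _ _ (by rw [mem_range_win]; simp) 1).trans (by simp)
      · rw [suMat_emb_out _ _ a (by rw [mem_range_win]; simp)]
        fin_cases a <;> simp [ev]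
    simp only [suMat_mul, hd, Matrix.diagonal_mul, Matrix.mul_diagonal, suMat_emb] at h2
    rw [hγ', hγ', suMat_twist, suMat_twist, show suMat X 0 1 = _ from suMat_twist _ _ _ _ w 0 1] at h2
    simp only [Function.comp_apply, RingEquiv.refl_apply, hw01,
      show win 1 2 3 (by omega) 0 = (1 : Fin 3) from rfl,
      show win 1 2 3 (by omega) 1 = (2 : Fin 3) from rfl, Matrix.cons_val_one, Matrix.cons_val_zero,
      Matrix.cons_val_two, Matrix.tail_cons, Matrix.head_cons, map_mul, map_neg, map_one, map_pow,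
      one_pow, mul_one] at h2
    have hy3 : (γ y) ^ 3 = (γ' y) ^ 3 := by
      have hζ0 : ζ' ≠ 0 := fun e => by simp [e] at hζ'
      refine mul_left_cancel₀ hζ0 ?_
      linear_combination -h2
    have := congrArg (· ^ 3) hy3
    simpa only [pow_q_q hF] using this
  subst hγγ
  have hc3 : Unitvec 3 (![ζ * ζ', ζ', 1] : Fin 3 → F) := fun i => by
    fin_cases i
    · show ζ * ζ' * (ζ * ζ') ^ 3 = 1
      rw [mul_pow]; linear_combination (ζ' * ζ' ^ 3) * hζ + hζ'
    · exact hζ'
    · simp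
  refine ⟨_, hc3, γ, hom_ext_blocks hF (n := 2) le_rfl (fun _ => le_rfl) (fun X => ?_) (fun X => ?_)⟩
  · rw [hβ0, hγ, twist_emb hF _ _ hc3]
    refine congrArg _ (DFunLike.congr_fun (twist_congr hF hc (fun i => hc3 _) γ fun i j => ?_) X)
    have w0 : win 0 2 3 (by omega) 0 = (0 : Fin 3) := rfl
    have w1 : win 0 2 3 (by omega) 1 = (1 : Fin 3) := rfl
    fin_cases i <;> fin_cases j
    · simp [w0, mul_pow]; linear_combination -(ζ * ζ ^ 3) * hζ'
    · simp [w0, w1]; linear_combination -ζ * hζ'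
    · simp [w0, w1, mul_pow]; linear_combination -(ζ ^ 3) * hζ'
    · simp [w1]; linear_combination -hζ'
  · rw [hβ1, hγ', twist_emb hF _ _ hc3]
    refine congrArg _ (DFunLike.congr_fun (twist_congr hF hc' (fun i => hc3 _) γ fun i j => ?_) X)
    have w0 : win 1 2 3 (by omega) 0 = (1 : Fin 3) := rfl
    have w1 : win 1 2 3 (by omega) 1 = (2 : Fin 3) := rfl
    fin_cases i <;> fin_cases j <;> simp [w0, w1]

/-- A twist trivial on `SU₂` is trivial. -/
theorem twist_eq_id_two {c : Fin 2 → F} (hc : Unitvec 3 c) {γ : F ≃+* F}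
    (h : ∀ g, twist hF c hc γ g = g) : γ = RingEquiv.refl F ∧ c 0 = c 1 := by
  have hγ : γ = RingEquiv.refl F := ringAut_ext_three hF fun y hy => by
    obtain ⟨t, ht0, -⟩ := exists_diag_two hF hy
    have := congrArg (fun g => suMat g 0 0) (h t)
    simp only [suMat_twist, ht0] at this
    rw [RingEquiv.refl_apply]
    linear_combination this - γ y * hc 0
  refine ⟨hγ, ?_⟩
  obtain ⟨w, -, -, hw⟩ := two_noncomm hF
  have := congrArg (fun g => suMat g 0 1) (h w)
  simp only [suMat_twist, hγ, RingEquiv.refl_apply] at this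
  refine mul_right_cancel₀ hw ?_
  linear_combination c 1 * this - (c 0 * suMat w 0 1) * hc 1

end three

end CfsgLib.Phan
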