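import Cfsg.Agent.Phan.TwoBlocks
import Cfsg.Agent.Unitary.Simple

/-!
Two overlapping `SU₃(2)` inside `SU₄(2)`.
-/

set_option autoImplicit false
set_option linter.unusedSectionVars false
set_option linter.style.haveILetI false

namespace CfsgLib.Phan.Q2

open Matrix CfsgLib.Forms CfsgLib.Unitary CfsgLib.Phan

variable {F : Type*} [Field F] [Finite F] (hF : Nat.card F = 2 ^ 2) {z : F} (hz : z * z + z + 1 = 0)

local notation "hm" => Cfsg.hermForm _ F 2

include hF in
/-- `SU₄(2)` is simple. -/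
theorem normal_bot_or_top (N : Subgroup (Cfsg.SU 4 F 2)) [N.Normal] : N = ⊥ ∨ N = ⊤ := by
  haveI := isSimpleGroup_PSU hF (n := 4) (by norm_num) (by omega)
  set Z := Subgroup.center (Cfsg.SU 4 F 2) with hZ
  have hZb : Z = ⊥ := Subgroup.eq_bot_of_card_eq _ (by
    rw [hZ, card_center_SU hF (by norm_num)]; rfl)
  rcases Subgroup.Normal.eq_bot_or_eq_top
    (Subgroup.Normal.map (inferInstance : N.Normal) (QuotientGroup.mk' Z) (QuotientGroup.mk'_surjective Z)) with h | h
  · left
    rw [Subgroup.map_eq_bot_iff, QuotientGroup.ker_mk'] at h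
    exact le_bot_iff.1 (h.trans hZb.le)
  · right
    have e := Subgroup.comap_map_eq (QuotientGroup.mk' Z) N
    rw [h, Subgroup.comap_top, QuotientGroup.ker_mk', hZb, sup_bot_eq] at e
    exact e.symm

include hF hz in
/-- A diagonal element is found from three columns. -/
theorem tor_of_three {T : Cfsg.SU 4 F 2} {v : Fin 4 → ZMod 3} (hs : ∑ i, v i = 0)
    (h : ∀ i : Fin 4, i ≠ 3 → act T (ev i) = wp z (v i) • ev i) : IsTor z T v := by
  obtain ⟨U, hU⟩ := exists_tor hF hz v hs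
  obtain ⟨X, hX⟩ := exists_emb_win hF (i := 3) (r := 1) (k := 4) (by omega) (g := U⁻¹ * T) fun j hj => by
    have hj3 : j ≠ 3 := fun e => by subst e; simp at hj
    rw [act_mul, h j hj3, ← hU.act_ev, act_inv_act]
  have hX1 : X = 1 := Subtype.ext (Subtype.ext (Matrix.ext fun i j => by
    obtain rfl : i = 0 := Subsingleton.elim _ _
    obtain rfl : j = 0 := Subsingleton.elim _ _
    have hd : (suMat X).det = 1 := X.1.2
    rw [Matrix.det_fin_one] at hd
    exact hd))
  rw [hX1, map_one] at hX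
  rwa [(inv_mul_eq_one.1 hX.symm).symm]

include hF hz in
/-- Projection of a unit vector to an eigenspace. -/
theorem exists_eig_step {T : Cfsg.SU 4 F 2} (hT : T * T * T = 1) {w : Fin 4 → F} (hw : hm w w = 1) :
    ∃ (a : ZMod 3) (w' : Fin 4 → F), hm w' w' = 1 ∧ act T w' = wp z a • w' ∧
      (∀ (f : Fin 4 → F) (r : ZMod 3), hm w f = 0 → act T f = wp z r • f → hm w' f = 0) ∧
      ∀ (T' : Cfsg.SU 4 F 2) (c : F), T' * T = T * T' → act T' w = c • w → act T' w' = c • w' := by
  classical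
  let P : ZMod 3 → Fin 4 → F := fun a => w + wp z (-a) • act T w + wp z a • act T (act T w)
  have hT3 : act T (act T (act T w)) = w := by rw [← act_mul, ← act_mul, hT, act_one]
  have hPT : ∀ a, act T (P a) = wp z a • P a := fun a => by
    show act T (w + _ + _) = _
    rw [act_add, act_add, act_smul, act_smul, hT3]
    simp only [P, smul_add, smul_smul, ← wp_add hz, add_neg_cancel, wp_zero, one_smul]
    rw [show a + a = -a by revert a; decide]
    abel
  have horth : ∀ a b, a ≠ b → hm (P a) (P b) = 0 := fun a b hab => by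
    have h := act_herm T (P a) (P b)
    rw [hPT, hPT, herm_smul_left, herm_smul_right hF, ← mul_assoc, wp_sq hz, ← wp_add hz] at h
    have : (wp z (a + -b) - 1) * hm (P a) (P b) = 0 := by linear_combination h
    refine (mul_eq_zero.1 this).resolve_left (sub_ne_zero.2 fun e => hab ?_)
    rw [← wp_zero (z := z)] at e
    exact sub_eq_zero.1 (by rw [sub_eq_add_neg]; exact wp_inj hF hz e)
  have hsum : w = P 0 + P 1 + P 2 := by
    funext i
    simp only [P, Pi.add_apply, Pi.smul_apply, smul_eq_mul, neg_zero, wp_zero, one_mul, wp_one,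
      show (-1 : ZMod 3) = 2 from rfl, show (-2 : ZMod 3) = 1 from rfl]
    have e2 : wp z 2 = z * z := by rw [show (2 : ZMod 3) = 1 + 1 from rfl, wp_add hz, wp_one]
    rw [e2]
    linear_combination (-(act T w i + act T (act T w) i)) * hz + (-(w i)) * two_zero hF
  obtain ⟨a, ha⟩ : ∃ a, hm (P a) (P a) ≠ 0 := by
    by_contra hall
    push Not at hall
    have h := hw
    rw [hsum] at h
    simp [herm_add_left, herm_add_right hF, hall, horth 0 1 (by decide), horth 1 0 (by decide),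
      horth 0 2 (by decide), horth 2 0 (by decide), horth 1 2 (by decide), horth 2 1 (by decide)] at h
  obtain ⟨b, hb⟩ := exists_unit_mul hF ha
  refine ⟨a, b • P a, hb, by rw [act_smul, hPT, smul_comm], fun f r hwf hTf => ?_, fun T' c hc hcw => ?_⟩
  · have e : ∀ x, hm x f = 0 → hm (act T x) f = 0 := fun x hx => by
      have h := act_herm T x f
      rw [hTf, herm_smul_right hF, hx] at h
      exact (mul_eq_zero.1 h).resolve_left (pow_ne_zero _ (wp_ne_zero hz r))
    rw [herm_smul_left]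
    simp only [P, herm_add_left, herm_smul_left, hwf, e w hwf, e _ (e w hwf), mul_zero, add_zero]
  · have e : ∀ x, act T' x = c • x → act T' (act T x) = c • act T x := fun x hx => by
      rw [← act_mul, hc, act_mul, hx, act_smul]
    rw [act_smul, smul_comm c b]
    congr 1
    simp only [P, act_add, act_smul, hcw, e w hcw, e _ (e w hcw), smul_add]
    rw [smul_comm c (wp z (-a)), smul_comm c (wp z a)]

include hF hz in
/-- A common frame. -/
theorem exists_frame_two (T : Fin 3 → Cfsg.SU 4 F 2) (h3 : ∀ j, T j * T j * T j = 1)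
    (hcomm : ∀ i j, T i * T j = T j * T i) :
    ∃ g : Cfsg.SU 4 F 2, ∀ j, ∃ v, IsTor z (g⁻¹ * T j * g) v := by
  classical
  have fam : ∀ k, k ≤ 3 → ∃ f : Fin k → Fin 4 → F, Orth 2 f ∧
      ∀ i j, ∃ a, act (T j) (f i) = wp z a • f i := by
    intro k
    induction k with
    | zero => exact fun _ => ⟨fun i => i.elim0, fun i => i.elim0, fun i => i.elim0⟩
    | succ k ih =>
      intro hk
      obtain ⟨f, hf, hfe⟩ := ih (by omega)
      choose r hr using hfe
      obtain ⟨g, hg⟩ := exists_ext hF (Fin.castLE_injective (show k ≤ 4 by omega)) (by omega) hf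
      set w := act g (ev (3 : Fin 4) : Fin 4 → F)
      have hw : hm w w = 1 := by rw [act_herm, herm_ev hF, if_pos rfl]
      have hwf : ∀ i, hm w (f i) = 0 := fun i => by
        rw [← hg i, act_herm, herm_ev hF, if_neg]
        intro e
        have := congrArg Fin.val e
        simp at this
        omega
      obtain ⟨a0, w0, u0, e0, p0, -⟩ := exists_eig_step hF hz (h3 0) hw
      obtain ⟨a1, w1, u1, e1, p1, k1⟩ := exists_eig_step hF hz (h3 1) u0
      obtain ⟨a2, w2, u2, e2, p2, k2⟩ := exists_eig_step hF hz (h3 2) u1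
      have hperp : ∀ i, hm w2 (f i) = 0 := fun i =>
        p2 _ _ (p1 _ _ (p0 _ _ (hwf i) (hr i 0)) (hr i 1)) (hr i 2)
      refine ⟨Fin.snoc f w2, fun i j => ?_, fun i => ?_⟩
      · refine Fin.lastCases ?_ (fun i => ?_) i <;> refine Fin.lastCases ?_ (fun j => ?_) j
        · simp [u2]
        · simp [hperp, (Fin.castSucc_lt_last j).ne']
        · simp [(herm_comm_zero hF).1 (hperp i), (Fin.castSucc_lt_last i).ne]
        · simp [hf i j]
      · refine Fin.lastCases ?_ (fun i => ?_) i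
        · simp only [Fin.snoc_last]
          intro j
          fin_cases j
          · exact ⟨a0, k2 _ _ (hcomm _ _) (k1 _ _ (hcomm _ _) e0)⟩
          · exact ⟨a1, k2 _ _ (hcomm _ _) e1⟩
          · exact ⟨a2, e2⟩
        · simp only [Fin.snoc_castSucc]
          exact fun j => ⟨r i j, hr i j⟩
  obtain ⟨f, hf, hfe⟩ := fam 3 le_rfl
  choose r hr using hfe
  obtain ⟨g, hg⟩ := exists_ext hF (Fin.castLE_injective (show 3 ≤ 4 by omega)) (by omega) hf
  refine ⟨g, fun j => ⟨![r 0 j, r 1 j, r 2 j, -(r 0 j + r 1 j + r 2 j)], ?_⟩⟩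
  refine tor_of_three hF hz (by simp [Fin.sum_univ_four]) fun i hi => ?_
  obtain ⟨l, rfl⟩ : ∃ l : Fin 3, i = Fin.castLE (show 3 ≤ 4 by omega) l :=
    ⟨⟨i.1, by have : i.1 ≠ 3 := fun e => hi (Fin.ext e); omega⟩, rfl⟩
  rw [act_mul, act_mul, hg, hr, act_smul, act_inv_eq (hg l)]
  fin_cases l <;> rfl

include hF hz in
theorem reorder {g : Cfsg.SU 4 F 2} {π : Fin 4 → Fin 4} (hπ : Function.Injective π) :
    ∃ s : Cfsg.SU 4 F 2, ∀ (T : Cfsg.SU 4 F 2) (v : Fin 4 → ZMod 3), IsTor z (g⁻¹ * T * g) v →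
      IsTor z (s⁻¹ * T * s) (v ∘ π) := by
  obtain ⟨s, hs⟩ := exists_ext hF (Fin.castLE_injective (show 3 ≤ 4 by omega)) (by omega)
    (orth_map hF (orth_ev hF (hπ.comp (Fin.castLE_injective (show 3 ≤ 4 by omega)))) g)
  refine ⟨s, fun T v hv => ?_⟩
  have hb : Function.Bijective π := (Finite.injective_iff_bijective).1 hπ
  refine tor_of_three hF hz (by rw [← hv.sum hF hz]; exact hb.sum_comp v) fun i hi => ?_
  obtain ⟨l, rfl⟩ : ∃ l : Fin 3, i = Fin.castLE (show 3 ≤ 4 by omega) l :=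
    ⟨⟨i.1, by have : i.1 ≠ 3 := fun e => hi (Fin.ext e); omega⟩, rfl⟩
  rw [act_mul, act_mul, hs]
  have hsl : act s⁻¹ (act g (ev (π (Fin.castLE (show 3 ≤ 4 by omega) l)))) =
      ev (Fin.castLE (show 3 ≤ 4 by omega) l) := act_inv_eq (hs l)
  simp only [Function.comp_apply]
  set j := π (Fin.castLE (show 3 ≤ 4 by omega) l) with hj
  rw [show act T (act g (ev j)) = wp z (v j) • act g (ev j) by
    rw [← act_smul, ← hv.act_ev, ← act_mul g, ← act_mul]; congr 1; group,
    act_smul, hsl]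

/-! Exponents. -/

/-- The multiplicity of a value. -/
def cnt (v : Fin 4 → ZMod 3) (x : ZMod 3) : ℕ := (Finset.univ.filter fun i => v i = x).card

theorem cnt_perm {v v' : Fin 4 → ZMod 3} {π : Equiv.Perm (Fin 4)} (h : ∀ j, v' (π j) = v j) (x : ZMod 3) :
    cnt v x = cnt v' x :=
  Finset.card_equiv π fun i => by simp [h]

theorem stage_one_aux : ∀ a b c d e f : ZMod 3,
    let v : Fin 4 → ZMod 3 := ![a, b, c, -(a + b + c)]
    let w : Fin 4 → ZMod 3 := ![d, e, f, -(d + e + f)]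
    v ≠ 0 → w ≠ 0 → w ≠ v → w ≠ -v → (∀ x, cnt v x = cnt (-v) x) → (∀ x, cnt v x = cnt w x) →
      (∀ x, cnt v x = cnt (v + w) x) →
      ∃ k : ZMod 3, k ≠ 0 ∧ ∀ r, ∃ i, v i = k * (![1, 2, 0, 0] : Fin 4 → ZMod 3) r ∧
        w i = k * (![0, 1, 2, 0] : Fin 4 → ZMod 3) r := by
  decide +kernel

theorem perm_zero_one : ∀ π : Fin 4 → Fin 4, ∀ k : ZMod 3, k ≠ 0 →
    (∀ j, k * (![1, 2, 0, 0] : Fin 4 → ZMod 3) (π j) = -(k * (![1, 2, 0, 0] : Fin 4 → ZMod 3) j)) →
    π 0 = 1 := by
  decide +kernel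

theorem stage_two_aux : ∀ k m a b c : ZMod 3,
    let p : Fin 4 → ZMod 3 := fun i => m * (k * (![0, 1, 2, 0] : Fin 4 → ZMod 3) i)
    let u : Fin 4 → ZMod 3 := ![a, b, c, -(a + b + c)]
    k ≠ 0 → m ≠ 0 → a = b → (∀ x, cnt p x = cnt u x) → (∀ x, cnt p x = cnt (p + u) x) →
      ∀ i, u i = m * k * (![0, 0, 1, 2] : Fin 4 → ZMod 3) i := by
  decide +kernel

theorem eq_cons_of_sum {v : Fin 4 → ZMod 3} (h : ∑ i, v i = 0) : v = ![v 0, v 1, v 2, -(v 0 + v 1 + v 2)] := by
  rw [Fin.sum_univ_four] at h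
  funext i
  fin_cases i <;> simp
  linear_combination h

include hF hz in
/-- What a copy of `SU₃(2)` says about the exponents of its two tori. -/
theorem pair_rel {δ : Cfsg.SU 2 F 2} (hδ : IsTor z δ ![1, -1]) (A : Cfsg.SU 3 F 2 →* Cfsg.SU 4 F 2)
    (hA : Function.Injective A) {v w : Fin 4 → ZMod 3}
    (hv : IsTor z (A (emb (win 0 2 3 (by omega)) δ)) v)
    (hw : IsTor z (A (emb (win 1 2 3 (by omega)) δ)) w) :
    (v ≠ 0 ∧ w ≠ 0 ∧ w ≠ v ∧ w ≠ -v ∧ (∀ x, cnt v x = cnt (-v) x) ∧ (∀ x, cnt v x = cnt w x) ∧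
      ∀ x, cnt v x = cnt (v + w) x) ∧
    ∃ (S : Cfsg.SU 2 F 2) (π : Equiv.Perm (Fin 4)),
      (∀ j, suMat (A (emb (win 0 2 3 (by omega)) S)) (π j) j ≠ 0) ∧ ∀ j, v (π j) = -v j := by
  set t0 := emb (win 0 2 3 (by omega)) δ with ht0
  set t1 := emb (win 1 2 3 (by omega)) δ with ht1
  have e0 : IsTor z t0 ![1, -1, 0] := by
    refine isTor_emb hz hδ (fun a => by fin_cases a <;> rfl) fun i hi => ?_
    fin_cases i <;> first | rfl | (exfalso; apply hi; rw [mem_range_win]; simp)
  have e1 : IsTor z t1 ![0, 1, -1] := by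
    refine isTor_emb hz hδ (fun a => by fin_cases a <;> rfl) fun i hi => ?_
    fin_cases i <;> first | rfl | (exfalso; apply hi; rw [mem_range_win]; simp)
  have hne : ∀ {x y : Cfsg.SU 3 F 2} {p q : Fin 3 → ZMod 3}, IsTor z x p → IsTor z y q → p ≠ q →
      ∀ {u : Fin 4 → ZMod 3}, IsTor z (A x) u → ¬IsTor z (A y) u := by
    intro x y p q hx hy hpq u hu hu'
    refine hpq ?_
    have := hA (hu.ext hu')
    subst this
    exact hx.unique hF hz hy
  have hA1 : IsTor z (A (1 : Cfsg.SU 3 F 2)) 0 := by rw [map_one]; exact isTor_one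
  obtain ⟨s0, hs0⟩ := exists_perm_elt hF (show (0 : Fin 3) ≠ 1 by decide)
  obtain ⟨s1, hs1⟩ := exists_perm_elt hF (show (1 : Fin 3) ≠ 2 by decide)
  have r00 : s0 * t0 = t0⁻¹ * s0 := perm_conj hs0 e0 (e0.inv hF hz) (fun j => by fin_cases j <;> decide)
  have r01 : s0 * t1 = t0 * t1 * s0 := perm_conj hs0 e1 (e0.mul hz e1) (fun j => by fin_cases j <;> decide)
  have r10 : s1 * t0 = t0 * t1 * s1 := perm_conj hs1 e0 (e0.mul hz e1) (fun j => by fin_cases j <;> decide)
  have img : ∀ {s x y : Cfsg.SU 3 F 2}, s * x = y * s → A s * A x = A y * A s := fun h => by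
    rw [← map_mul, h, map_mul]
  obtain ⟨π0, hπ0⟩ := exists_supp (A s0)
  obtain ⟨π1, hπ1⟩ := exists_supp (A s1)
  have hvi : IsTor z (A t0⁻¹) (-v) := by rw [map_inv]; exact hv.inv hF hz
  have hvw : IsTor z (A (t0 * t1)) (v + w) := by rw [map_mul]; exact hv.mul hz hw
  have p00 := fun j => supp_eq hF hz hv hvi (img r00) (hπ0 j)
  have p01 := fun j => supp_eq hF hz hw hvw (img r01) (hπ0 j)
  have p10 := fun j => supp_eq hF hz hv hvw (img r10) (hπ1 j)
  have cvw : ∀ x, cnt v x = cnt (v + w) x := cnt_perm (π := π1) p10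
  refine ⟨⟨?_, ?_, ?_, ?_, cnt_perm (π := π0) p00,
    fun x => (cvw x).trans (cnt_perm (π := π0) p01 x).symm, cvw⟩, ?_⟩
  · rintro rfl
    exact hne isTor_one e0 (by decide) hA1 hv
  · rintro rfl
    exact hne isTor_one e1 (by decide) hA1 hw
  · rintro rfl
    exact hne e0 e1 (by decide) hv hw
  · rintro rfl
    exact hne (e0.inv hF hz) e1 (by decide) hvi hw
  · obtain ⟨S, rfl⟩ := exists_emb_win hF (i := 0) (r := 2) (k := 3) (by omega) (g := s0) fun j hj => by
      obtain rfl : j = 2 := Fin.ext (show j.1 = 2 by omega)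
      rw [hs0]; rfl
    exact ⟨S, π0, hπ0, fun j => neg_eq_iff_eq_neg.1 (p00 j)⟩

include hF in
theorem range_eq_of_le {m : ℕ} {L : Cfsg.SU m F 2 →* Cfsg.SU 4 F 2} (hL : Function.Injective L)
    {f : Fin m ↪ Fin 4} (h : ∀ X, L X ∈ (emb (F := F) (q := 2) f).range) :
    L.range = (emb (F := F) (q := 2) f).range := by
  refine Subgroup.eq_of_le_of_card_ge (by rintro _ ⟨X, rfl⟩; exact h X) (le_of_eq ?_)
  rw [← Nat.card_congr (MonoidHom.ofInjective hL).toEquiv,
    ← Nat.card_congr (MonoidHom.ofInjective (emb_injective (F := F) (q := 2) f)).toEquiv]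

include hF in
/-- **The standard position.** -/
theorem exists_std_four (A B : Cfsg.SU 3 F 2 →* Cfsg.SU 4 F 2) (hA : Function.Injective A)
    (hB : Function.Injective B)
    (hmid : (A.comp (emb (win 1 2 3 (by omega)))).range = (B.comp (emb (win 0 2 3 (by omega)))).range)
    (hfar : ∀ X Y, Commute (A (emb (win 0 2 3 (by omega)) X)) (B (emb (win 1 2 3 (by omega)) Y))) :
    ∃ Φ : Cfsg.SU 4 F 2 →* Cfsg.SU 4 F 2, Function.Injective Φ ∧
      (∀ X, Φ (emb (win 0 3 4 (by omega)) X) = A X) ∧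
      (Φ.comp (emb (win 1 3 4 (by omega)))).range = B.range ∧
      (Φ.comp (emb (win 2 2 4 (by omega)))).range = (B.comp (emb (win 1 2 3 (by omega)))).range := by
  classical
  obtain ⟨z, hz⟩ := exists_omega hF
  obtain ⟨δ, hδ⟩ := exists_tor hF hz (![1, -1] : Fin 2 → ZMod 3) (by simp)
  let w0 : Fin 2 ↪ Fin 3 := win 0 2 3 (by omega)
  let w1 : Fin 2 ↪ Fin 3 := win 1 2 3 (by omega)
  have hδ3 : δ * δ * δ = 1 := ((hδ.mul hz hδ).mul hz hδ).ext (by
    rw [show (![1, -1] : Fin 2 → ZMod 3) + ![1, -1] + ![1, -1] = 0 by decide]; exact isTor_one)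
  have hδ1 : δ ≠ 1 := fun e => by
    have := hδ.unique hF hz (e ▸ isTor_one : IsTor z δ 0)
    exact absurd this (by decide)
  -- the middle torus
  obtain ⟨X, hX⟩ : B (emb w0 δ) ∈ (A.comp (emb w1)).range := hmid.ge ⟨δ, rfl⟩
  have hX3 : X * X * X = 1 := emb_injective w1 (hA (by
    rw [map_mul, map_mul, map_mul, map_mul, map_one, map_one, show A (emb w1 X) = B (emb w0 δ) from hX,
      ← map_mul, ← map_mul, ← map_mul, ← map_mul, hδ3, map_one, map_one]))
  obtain ⟨k, hk⟩ := tor_of_cube hF hz hX3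
  have hk0 : k ≠ 0 := fun e => hδ1 (emb_injective w0 (hB (by
    rw [← hX, map_one, map_one, MonoidHom.comp_apply,
      show X = 1 from hk.ext (by rw [e, show (![0, -0] : Fin 2 → ZMod 3) = 0 by decide]; exact isTor_one),
      map_one, map_one])))
  have hcase : X = δ ∨ X = δ⁻¹ := by
    rcases (show k = 1 ∨ k = -1 by clear hk; revert hk0; revert k; decide) with rfl | rfl
    · exact Or.inl (hk.ext hδ)
    · refine Or.inr (hk.ext ?_)
      have := hδ.inv hF hz
      rwa [show -(![1, -1] : Fin 2 → ZMod 3) = ![-1, - -1] by decide] at this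
  let T : Fin 3 → Cfsg.SU 4 F 2 := ![A (emb w0 δ), A (emb w1 δ), B (emb w1 δ)]
  have tc : ∀ (a b : Fin 2 ↪ Fin 3), Commute (emb (F := F) (q := 2) a δ) (emb b δ) := fun a b => by
    have ht : ∀ a : Fin 2 ↪ Fin 3, ∃ v, IsTor z (emb (F := F) (q := 2) a δ) v := fun a =>
      ⟨Function.extend a ![1, -1] 0, isTor_emb hz hδ (fun i => a.injective.extend_apply _ _ _)
        fun i hi => by rw [Function.extend_apply' _ _ _ (by rintro ⟨j, hj⟩; exact hi ⟨j, hj⟩)]; rfl⟩
    obtain ⟨va, ha⟩ := ht a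
    obtain ⟨vb, hb⟩ := ht b
    exact (ha.mul hz hb).ext (by rw [add_comm va vb]; exact hb.mul hz ha)
  have c01 : Commute (T 0) (T 1) := (tc w0 w1).map A
  have c02 : Commute (T 0) (T 2) := hfar δ δ
  have c12 : Commute (T 1) (T 2) := by
    have h : Commute (A (emb w1 X)) (T 2) := by
      rw [show A (emb w1 X) = B (emb w0 δ) from hX]; exact (tc w0 w1).map B
    rcases hcase with rfl | rfl
    · exact h
    · rw [map_inv, map_inv] at h
      have h' := h.inv_left
      rwa [inv_inv] at h'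
  obtain ⟨g, hg⟩ := exists_frame_two hF hz T (fun j => by
      have h3 : ∀ (C : Cfsg.SU 3 F 2 →* Cfsg.SU 4 F 2) (a : Fin 2 ↪ Fin 3),
          C (emb a δ) * C (emb a δ) * C (emb a δ) = 1 := fun C a => by
        rw [← map_mul, ← map_mul, ← map_mul, ← map_mul, hδ3, map_one, map_one]
      fin_cases j <;> exact h3 _ _)
    (fun i j => by
      fin_cases i <;> fin_cases j
      exacts [rfl, c01.eq, c02.eq, c01.eq.symm, rfl, c12.eq, c02.eq.symm, c12.eq.symm, rfl])
  choose v hv using hg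
  -- normalise the frame
  have hcv : ∀ (g x : Cfsg.SU 4 F 2), (MulAut.conj g⁻¹).toMonoidHom x = g⁻¹ * x * g := fun g x => by simp
  obtain ⟨⟨n0, n1, n2, n3, q1, q2, q3⟩, -⟩ := pair_rel hF hz hδ ((MulAut.conj g⁻¹).toMonoidHom.comp A)
    ((MulAut.conj g⁻¹).injective.comp hA)
    (v := v 0) (w := v 1) (by rw [MonoidHom.comp_apply, hcv]; exact hv 0)
    (by rw [MonoidHom.comp_apply, hcv]; exact hv 1)
  have ev0 := eq_cons_of_sum ((hv 0).sum hF hz)
  have ev1 := eq_cons_of_sum ((hv 1).sum hF hz)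
  obtain ⟨a, ha0, ha⟩ := stage_one_aux (v 0 0) (v 0 1) (v 0 2) (v 1 0) (v 1 1) (v 1 2)
    (by rw [← ev0]; exact n0) (by rw [← ev1]; exact n1) (by rw [← ev0, ← ev1]; exact n2)
    (by rw [← ev0, ← ev1]; exact n3) (by rw [← ev0]; exact q1) (by rw [← ev0, ← ev1]; exact q2)
    (by rw [← ev0, ← ev1]; exact q3)
  simp only [← ev0, ← ev1] at ha
  choose π hπv hπw using ha
  have hπ : Function.Injective π := fun i j e => by
    have hi : a * (![1, 2, 0, 0] : Fin 4 → ZMod 3) i = a * (![1, 2, 0, 0] : Fin 4 → ZMod 3) j ∧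
        a * (![0, 1, 2, 0] : Fin 4 → ZMod 3) i = a * (![0, 1, 2, 0] : Fin 4 → ZMod 3) j :=
      ⟨by rw [← hπv, ← hπv, e], by rw [← hπw, ← hπw, e]⟩
    have dec : ∀ (a : ZMod 3) (i j : Fin 4), a ≠ 0 →
        a * (![1, 2, 0, 0] : Fin 4 → ZMod 3) i = a * (![1, 2, 0, 0] : Fin 4 → ZMod 3) j →
        a * (![0, 1, 2, 0] : Fin 4 → ZMod 3) i = a * (![0, 1, 2, 0] : Fin 4 → ZMod 3) j → i = j := by
      decide +kernel
    exact dec a i j ha0 hi.1 hi.2
  obtain ⟨s, hs⟩ := reorder hF hz (g := g) hπ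
  set cs := (MulAut.conj s⁻¹).toMonoidHom
  let A' := cs.comp A
  let B' := cs.comp B
  have hA' : Function.Injective A' := (MulAut.conj s⁻¹).injective.comp hA
  have hB' : Function.Injective B' := (MulAut.conj s⁻¹).injective.comp hB
  have tA0 : IsTor z (A' (emb w0 δ)) fun i => a * (![1, 2, 0, 0] : Fin 4 → ZMod 3) i := by
    rw [show A' (emb w0 δ) = s⁻¹ * T 0 * s from hcv _ _, show (fun i => a * (![1, 2, 0, 0] : Fin 4 → ZMod 3) i)
      = v 0 ∘ π from funext fun i => (hπv i).symm]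
    exact hs _ _ (hv 0)
  have tA1 : IsTor z (A' (emb w1 δ)) fun i => a * (![0, 1, 2, 0] : Fin 4 → ZMod 3) i := by
    rw [show A' (emb w1 δ) = s⁻¹ * T 1 * s from hcv _ _, show (fun i => a * (![0, 1, 2, 0] : Fin 4 → ZMod 3) i)
      = v 1 ∘ π from funext fun i => (hπw i).symm]
    exact hs _ _ (hv 1)
  obtain ⟨u, tu⟩ : ∃ u, IsTor z (B' (emb w1 δ)) u := ⟨_, by
    rw [show B' (emb w1 δ) = s⁻¹ * T 2 * s from hcv _ _]; exact hs _ _ (hv 2)⟩
  obtain ⟨m, hm0, tR⟩ : ∃ m : ZMod 3, m ≠ 0 ∧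
      IsTor z (B' (emb w0 δ)) fun i => m * (a * (![0, 1, 2, 0] : Fin 4 → ZMod 3) i) := by
    rw [show B' (emb w0 δ) = A' (emb w1 X) from congrArg cs hX.symm]
    rcases hcase with rfl | rfl
    · exact ⟨1, by decide, by simpa using tA1⟩
    · refine ⟨-1, by decide, ?_⟩
      rw [map_inv, map_inv]
      convert tA1.inv hF hz using 1
      funext i; simp
  obtain ⟨-, S, π0, hπ0, hπ0v⟩ := pair_rel hF hz hδ A' hA' tA0 tA1
  have hfar' : ∀ X Y, Commute (A' (emb w0 X)) (B' (emb w1 Y)) := fun X Y => (hfar X Y).map cs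
  have hu01 : u 0 = u 1 := by
    have h01 : π0 0 = 1 := perm_zero_one π0 a ha0 hπ0v
    have := supp_eq hF hz tu tu (hfar' S δ).eq (hπ0 0)
    rw [h01] at this
    exact this.symm
  obtain ⟨⟨-, -, -, -, -, qu, qu'⟩, -⟩ := pair_rel hF hz hδ B' hB' tR tu
  have evu := eq_cons_of_sum (tu.sum hF hz)
  have hu : ∀ i, u i = m * a * (![0, 0, 1, 2] : Fin 4 → ZMod 3) i := by
    have := stage_two_aux a m (u 0) (u 1) (u 2) ha0 hm0 hu01 (by rw [← evu]; exact qu)
      (by rw [← evu]; exact qu')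
    intro i
    have h := this i
    rwa [← evu] at h
  -- the two fixed points
  have fixpt : ∀ (C : Cfsg.SU 3 F 2 →* Cfsg.SU 4 F 2) (p q : Fin 4 → ZMod 3) (l : Fin 4),
      IsTor z (C (emb w0 δ)) p → IsTor z (C (emb w1 δ)) q → (∀ i, i ≠ l → (p + -q) i ≠ (p + -q) l) →
      ∀ k, act (C k) (ev l) = ev l := by
    intro C p q l hp hq hsep k
    set Z := emb w0 δ * (emb w1 δ)⁻¹
    have e0 : IsTor z (emb w0 δ) ![1, -1, 0] := by
      refine isTor_emb hz hδ (fun a => by fin_cases a <;> rfl) fun i hi => ?_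
      fin_cases i <;> first | rfl | (exfalso; apply hi; rw [mem_range_win]; simp)
    have e1 : IsTor z (emb w1 δ) ![0, 1, -1] := by
      refine isTor_emb hz hδ (fun a => by fin_cases a <;> rfl) fun i hi => ?_
      fin_cases i <;> first | rfl | (exfalso; apply hi; rw [mem_range_win]; simp)
    have tZ : IsTor z Z ![1, 1, 1] := by
      have := e0.mul hz (e1.inv hF hz)
      rwa [show (![1, -1, 0] : Fin 3 → ZMod 3) + -![0, 1, -1] = ![1, 1, 1] by decide] at this
    have hZc : Z ∈ Subgroup.center (Cfsg.SU 3 F 2) :=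
      (mem_center_SU_iff hF (by norm_num)).2 ⟨wp z 1, by
        show suMat Z = _
        rw [tZ, Matrix.smul_one_eq_diagonal]
        congr 1; funext i; fin_cases i <;> rfl⟩
    have tCZ : IsTor z (C Z) (p + -q) := by rw [map_mul, map_inv]; exact hp.mul hz (hq.inv hF hz)
    have hzero : ∀ k i, i ≠ l → suMat (C k) i l = 0 := fun k i hi =>
      entry_zero hF hz tCZ (by rw [← map_mul, Subgroup.mem_center_iff.1 hZc k, map_mul]) (hsep i hi)
    let f : Cfsg.SU 3 F 2 →* F :=
      { toFun := fun k => suMat (C k) l l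
        map_one' := by simp [suMat_one]
        map_mul' := fun k k' => by
          rw [map_mul, suMat_mul, Matrix.mul_apply]
          exact Finset.sum_eq_single l (fun i _ hi => by rw [hzero k' i hi, mul_zero])
            (fun h => absurd (Finset.mem_univ l) h) }
    funext i
    rw [suMat_apply]
    by_cases hi : i = l
    · subst hi
      rw [show suMat (C k) i i = 1 from char_three hF f k]
      simp [ev]
    · rw [hzero k i hi]; simp [ev, hi]
  have fA : ∀ k, act (A' k) (ev 3) = ev 3 := fixpt A' _ _ 3 tA0 tA1 (by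
    clear * - ha0
    revert ha0; revert a; decide +kernel)
  have fB : ∀ k, act (B' k) (ev 0) = ev 0 := fixpt B' _ _ 0 tR tu (by
    rw [show u = fun i => m * a * (![0, 0, 1, 2] : Fin 4 → ZMod 3) i from funext hu]
    clear * - ha0 hm0
    revert hm0; revert m; revert ha0; revert a; decide +kernel)
  have inv_fix : ∀ (C : Cfsg.SU 2 F 2 →* Cfsg.SU 4 F 2) (D : Cfsg.SU 4 F 2) (p : Fin 4 → ZMod 3) (l : Fin 4),
      IsTor z D p → (∀ X, Commute (C X) D) → (∀ i, i ≠ l → p i ≠ p l) →
      ∀ X, act (C X) (ev l) = ev l := by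
    intro C D p l hD hCD hsep X
    have key : ∀ x, x * x = 1 → act (C x) (ev l) = ev l := fun x hx => by
      have hcol : act (C x) (ev l) = suMat (C x) l l • ev l := funext fun i => by
        rw [suMat_apply]
        by_cases hi : i = l
        · subst hi; simp [ev]
        · rw [entry_zero hF hz hD (hCD x).eq (hsep i hi)]; simp [ev, hi]
      have h2 : act (C x) (act (C x) (ev l)) = ev l := by rw [← act_mul, ← map_mul, hx, map_one, act_one]
      rw [hcol, act_smul, hcol, smul_smul] at h2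
      have h3 := congrFun h2 l
      simp [ev] at h3
      rw [hcol, show suMat (C x) l l = 1 from sub_eq_zero.1 (mul_self_eq_zero.1
        (show (suMat (C x) l l - 1) * (suMat (C x) l l - 1) = 0 by
          linear_combination h3 + (1 - suMat (C x) l l) * two_zero hF)), one_smul]
    obtain ⟨x, y, hx, hy, rfl⟩ := exists_two_invol hF X
    rw [map_mul, act_mul, key y hy, key x hx]
  have hub : m * a ≠ 0 := mul_ne_zero hm0 ha0
  have f02 : ∀ X, act (A' (emb w0 X)) (ev 2) = ev 2 :=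
    inv_fix (A'.comp (emb w0)) _ _ 2 tu (fun X => hfar' X δ) (by
      rw [show u = fun i => m * a * (![0, 0, 1, 2] : Fin 4 → ZMod 3) i from funext hu]
      generalize m * a = c at hub
      clear * - hub
      revert hub; revert c; decide +kernel)
  have f21 : ∀ X, act (B' (emb w1 X)) (ev 1) = ev 1 :=
    inv_fix (B'.comp (emb w1)) _ _ 1 tA0 (fun X => (hfar' δ X).symm) (by
      clear * - ha0
      revert ha0; revert a; decide +kernel)
  have rA : ∀ k, A' k ∈ (emb (F := F) (q := 2) (win 0 3 4 (by omega))).range := fun k =>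
    exists_emb_win hF _ fun j hj => by
      obtain rfl : j = 3 := Fin.ext (show j.1 = 3 by omega)
      exact fA k
  have rB : ∀ k, B' k ∈ (emb (F := F) (q := 2) (win 1 3 4 (by omega))).range := fun k =>
    exists_emb_win hF _ fun j hj => by
      obtain rfl : j = 0 := Fin.ext (show j.1 = 0 by omega)
      exact fB k
  have r0 : ∀ X, A' (emb w0 X) ∈ (emb (F := F) (q := 2) (win 0 2 4 (by omega))).range := fun X =>
    exists_emb_win hF _ fun j hj => by
      rcases (show j.1 = 2 ∨ j.1 = 3 by omega) with h | h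
      · obtain rfl : j = 2 := Fin.ext h
        exact f02 X
      · obtain rfl : j = 3 := Fin.ext h
        exact fA _
  have r1 : ∀ X, A' (emb w1 X) ∈ (emb (F := F) (q := 2) (win 1 2 4 (by omega))).range := fun X =>
    exists_emb_win hF _ fun j hj => by
      rcases (show j.1 = 0 ∨ j.1 = 3 by omega) with h | h
      · obtain rfl : j = 0 := Fin.ext h
        obtain ⟨Y, hY⟩ := hmid.le ⟨X, rfl⟩
        rw [show A' (emb w1 X) = B' (emb w0 Y) from congrArg cs hY.symm]
        exact fB _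
      · obtain rfl : j = 3 := Fin.ext h
        exact fA _
  have r2 : ∀ X, B' (emb w1 X) ∈ (emb (F := F) (q := 2) (win 2 2 4 (by omega))).range := fun X =>
    exists_emb_win hF _ fun j hj => by
      rcases (show j.1 = 0 ∨ j.1 = 1 by omega) with h | h
      · obtain rfl : j = 0 := Fin.ext h
        exact fB _
      · obtain rfl : j = 1 := Fin.ext h
        exact f21 X
  -- the automorphism of the first window
  have he : Function.Injective (emb (F := F) (q := 2) (win 0 3 4 (by omega))) := emb_injective _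
  let α : Cfsg.SU 3 F 2 →* Cfsg.SU 3 F 2 :=
    (MonoidHom.ofInjective he).symm.toMonoidHom.comp (A'.codRestrict _ rA)
  have hα : ∀ k, emb (win 0 3 4 (by omega)) (α k) = A' k := fun k => MonoidHom.apply_ofInjective_symm he _
  obtain ⟨c, hc, γ, hαe⟩ := aut_blocks_two hF α (fun x y e => hA' (by rw [← hα, ← hα, e])) fun j hj X => by
    rcases (show j = 0 ∨ j = 1 by omega) with rfl | rfl
    · obtain ⟨Y, hY⟩ := r0 X
      exact ⟨Y, he ((hα _).trans (hY.symm.trans (emb_win' (l := 0) _ _ rfl Y).symm))⟩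
    · obtain ⟨Y, hY⟩ := r1 X
      exact ⟨Y, he ((hα _).trans (hY.symm.trans (emb_win' (l := 1) _ _ rfl Y).symm))⟩
  have hc4 : Unitvec 2 (![c 0, c 1, c 2, 1] : Fin 4 → F) := fun i => by
    fin_cases i
    exacts [hc 0, hc 1, hc 2, by simp]
  have hback : ∀ x, (MulAut.conj s).toMonoidHom (cs x) = x := fun x => by simp [cs, mul_assoc]
  set Φ := (MulAut.conj s).toMonoidHom.comp (twist hF _ hc4 γ) with hΦ
  have hrng : ∀ {m : ℕ} (f : Fin m ↪ Fin 4) (L : Cfsg.SU m F 2 →* Cfsg.SU 4 F 2),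
      (cs.comp L).range = (emb (F := F) (q := 2) f).range → (Φ.comp (emb f)).range = L.range := by
    intro m f L h
    rw [hΦ, MonoidHom.comp_assoc, MonoidHom.range_comp, MonoidHom.range_comp (twist hF _ hc4 γ),
      twist_range hF, ← h, ← MonoidHom.range_comp, ← MonoidHom.comp_assoc]
    congr 1
    exact MonoidHom.ext fun x => hback (L x)
  refine ⟨Φ, (MulAut.conj s).injective.comp (twist_injective hF _ hc4 γ), fun X => ?_,
    hrng _ B (range_eq_of_le hF hB' rB),
    hrng _ (B.comp (emb w1))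
      (range_eq_of_le hF (L := cs.comp (B.comp (emb w1))) (fun x y e => emb_injective w1 (hB' e)) r2)⟩
  show (MulAut.conj s).toMonoidHom (twist hF _ hc4 γ (emb _ X)) = A X
  have hcomp : ∀ hc' : Unitvec 2 ((![c 0, c 1, c 2, 1] : Fin 4 → F) ∘ win 0 3 4 (show 0 + 3 ≤ 4 by omega)),
      twist hF _ hc' γ = twist hF c hc γ :=
    fun hc' => twist_congr hF hc' hc γ fun i j => by fin_cases i <;> fin_cases j <;> rfl
  rw [twist_emb hF _ _ hc4]
  refine (congrArg _ (congrArg _ (DFunLike.congr_fun (hcomp _) X))).trans ?_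
  rw [← hαe, hα]
  exact hback (A X)

end CfsgLib.Phan.Q2
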