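import Cfsg.Agent.Phan.Align
import Cfsg.Agent.Phan.ThreeTwist
import Mathlib.GroupTheory.PGroup

/-!
`SU₃(2)`: no characters of order three, and automorphisms preserving both blocks are twists.
-/

set_option autoImplicit false
set_option linter.unusedSectionVars false
set_option linter.style.haveILetI false

namespace CfsgLib.Phan.Q2

open Matrix CfsgLib.Forms CfsgLib.Unitary CfsgLib.Phan

variable {F : Type*} [Field F] [Finite F] (hF : Nat.card F = 2 ^ 2) {z : F} (hz : z * z + z + 1 = 0)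
variable {n m : ℕ}

include hF in
theorem two_zero : (2 : F) = 0 := by
  haveI := Fintype.ofFinite F
  have h := FiniteField.cast_card_eq_zero F
  rw [← Nat.card_eq_fintype_card, hF] at h
  exact eq_zero_of_pow_eq_zero (n := 2) (by rw [← h]; norm_num)

include hF in
theorem neg_self (a : F) : -a = a := by linear_combination (-a) * two_zero hF

include hF in
theorem pow_three {x : F} (hx : x ≠ 0) : x ^ 3 = 1 := by
  haveI := Fintype.ofFinite F
  have h := FiniteField.pow_card_sub_one_eq_one x hx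
  rwa [← Nat.card_eq_fintype_card, hF] at h

include hF in
theorem exists_omega : ∃ z : F, z * z + z + 1 = 0 := by
  classical
  haveI := Fintype.ofFinite F
  obtain ⟨x, hx⟩ : ∃ x : F, x ∉ ({0, 1} : Finset F) := by
    by_contra h
    push Not at h
    have h2 := (Finset.card_le_card (s := (Finset.univ : Finset F)) fun x _ => h x).trans Finset.card_le_two
    rw [Finset.card_univ, ← Nat.card_eq_fintype_card, hF] at h2
    omega
  simp only [Finset.mem_insert, Finset.mem_singleton, not_or] at hx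
  refine ⟨x, (mul_eq_zero.1 (show (x - 1) * (x * x + x + 1) = 0 by
    linear_combination pow_three hF hx.1)).resolve_left (sub_ne_zero.2 hx.2)⟩

include hF in
theorem exists_perm_elt {a b : Fin n} (hab : a ≠ b) :
    ∃ g : Cfsg.SU n F 2, ∀ k, act g (ev k) = ev (Equiv.swap a b k) := by
  obtain ⟨g, hg⟩ := exists_swap hF hab a
  refine ⟨g, fun k => ?_⟩
  rw [hg, neg_self hF, ite_self, one_smul]

/-! Powers of a primitive cube root of unity. -/

/-- `k ↦ z ^ k`. -/
def wp (z : F) (k : ZMod 3) : F := z ^ k.val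

theorem wp_zero : wp z 0 = 1 := by simp [wp]

theorem wp_one : wp z 1 = z := by simp [wp, ZMod.val_one]

include hz in
theorem z_cube : z ^ 3 = 1 := by linear_combination (z - 1) * hz

include hz in
theorem wp_add (a b : ZMod 3) : wp z (a + b) = wp z a * wp z b := by
  rw [wp, wp, wp, ← pow_add, ZMod.val_add, ← pow_eq_pow_mod _ (z_cube hz)]

include hz in
theorem wp_ne_zero (a : ZMod 3) : wp z a ≠ 0 := fun e => by
  have h := wp_add hz a (-a)
  rw [add_neg_cancel, e, zero_mul, wp_zero] at h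
  exact one_ne_zero h

include hz in
theorem wp_mul (a b : ZMod 3) : wp z (a * b) = wp z a ^ b.val := by
  rw [wp, wp, ← pow_mul, ZMod.val_mul, ← pow_eq_pow_mod _ (z_cube hz)]

include hz in
theorem wp_sq (a : ZMod 3) : wp z a ^ 2 = wp z (-a) := by
  rw [show -a = a * 2 by revert a; decide, wp_mul hz]
  rfl

include hz in
theorem wp_norm (a : ZMod 3) : wp z a * wp z a ^ 2 = 1 := by
  rw [wp_sq hz, ← wp_add hz, add_neg_cancel, wp_zero]

include hF hz in
theorem wp_inj {a b : ZMod 3} (h : wp z a = wp z b) : a = b := by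
  have key : ∀ c : ZMod 3, wp z c = 1 → c = 0 := fun c hc => by
    by_contra hne
    have hz1 : z ≠ 1 := fun e => one_ne_zero (α := F) (by subst e; linear_combination hz - two_zero hF)
    have hc' : c = 1 ∨ c = 2 := by
      revert hne
      clear hc h
      revert c
      decide
    rcases hc' with rfl | rfl
    · exact hz1 (by rwa [wp_one] at hc)
    · have e : z ^ 2 = 1 := hc
      refine hz1 ?_
      linear_combination z_cube hz - z * e
  refine sub_eq_zero.1 (key _ ?_)
  rw [sub_eq_add_neg, wp_add hz, h, ← wp_add hz, add_neg_cancel, wp_zero]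

include hF hz in
theorem exists_wp {x : F} (hx : x ≠ 0) : ∃ k, x = wp z k := by
  have h : (x - 1) * (x - z) * (x - z ^ 2) = 0 := by
    linear_combination pow_three hF hx - z_cube hz + (x * z - x * x) * hz
  rcases mul_eq_zero.1 h with h | h
  · rcases mul_eq_zero.1 h with h | h
    · exact ⟨0, by rw [wp_zero]; exact sub_eq_zero.1 h⟩
    · exact ⟨1, by rw [wp_one]; exact sub_eq_zero.1 h⟩
  · exact ⟨2, sub_eq_zero.1 h⟩

include hz in
theorem map_wp (γ : F ≃+* F) {a : ZMod 3} (ha : γ z = wp z a) (k : ZMod 3) : γ (wp z k) = wp z (a * k) := by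
  rw [wp_mul hz, ← ha, ← map_pow]
  rfl

include hF hz in
theorem ringAut_ext_two {γ γ' : F ≃+* F} (h : γ z = γ' z) : γ = γ' := by
  refine RingEquiv.ext fun x => ?_
  by_cases hx : x = 0
  · rw [hx, map_zero, map_zero]
  · obtain ⟨k, rfl⟩ := exists_wp hF hz hx
    rw [wp, map_pow, map_pow, h]

/-! The diagonal elements. -/

/-- A diagonal element with given exponents. -/
def IsTor (z : F) (T : Cfsg.SU n F 2) (v : Fin n → ZMod 3) : Prop :=
  suMat T = Matrix.diagonal fun i => wp z (v i)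

theorem IsTor.apply {T : Cfsg.SU n F 2} {v : Fin n → ZMod 3} (h : IsTor z T v) (i : Fin n) :
    suMat T i i = wp z (v i) := by rw [h, Matrix.diagonal_apply_eq]

theorem IsTor.act_ev {T : Cfsg.SU n F 2} {v : Fin n → ZMod 3} (h : IsTor z T v) (j : Fin n) :
    act T (ev j) = wp z (v j) • ev j := by
  funext i
  rw [suMat_apply, h]
  by_cases e : i = j
  · subst e; simp [ev]
  · simp [ev, e]

theorem IsTor.ext {T T' : Cfsg.SU n F 2} {v : Fin n → ZMod 3} (h : IsTor z T v) (h' : IsTor z T' v) :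
    T = T' := Subtype.ext (Subtype.ext (h.trans h'.symm))

include hF hz in
theorem IsTor.unique {T : Cfsg.SU n F 2} {v w : Fin n → ZMod 3} (h : IsTor z T v) (h' : IsTor z T w) :
    v = w := funext fun i => wp_inj hF hz (by rw [← h.apply i, h'.apply i])

include hz in
theorem IsTor.mul {T U : Cfsg.SU n F 2} {v w : Fin n → ZMod 3} (h : IsTor z T v) (h' : IsTor z U w) :
    IsTor z (T * U) (v + w) := by
  unfold IsTor at *
  rw [suMat_mul, h, h', Matrix.diagonal_mul_diagonal]
  congr 1
  funext i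
  exact (wp_add hz _ _).symm

theorem isTor_one : IsTor z (1 : Cfsg.SU n F 2) 0 := by
  unfold IsTor
  rw [suMat_one, ← Matrix.diagonal_one]
  congr 1
  funext i
  exact wp_zero.symm

include hz in
theorem wp_sum {ι : Type*} (s : Finset ι) (v : ι → ZMod 3) : wp z (∑ i ∈ s, v i) = ∏ i ∈ s, wp z (v i) := by
  classical
  induction s using Finset.induction with
  | empty => simp [wp_zero]
  | insert a s ha ih => rw [Finset.sum_insert ha, Finset.prod_insert ha, wp_add hz, ih]

include hF hz in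
theorem exists_tor (v : Fin n → ZMod 3) (h : ∑ i, v i = 0) : ∃ T : Cfsg.SU n F 2, IsTor z T v :=
  exists_diag hF (fun i => wp_norm hz _) (by rw [← wp_sum hz, h, wp_zero])

include hF hz in
theorem IsTor.sum {T : Cfsg.SU n F 2} {v : Fin n → ZMod 3} (h : IsTor z T v) : ∑ i, v i = 0 :=
  wp_inj hF hz (by rw [wp_sum hz, wp_zero, ← Matrix.det_diagonal, ← h]; exact T.1.2)

include hF hz in
theorem IsTor.inv {T : Cfsg.SU n F 2} {v : Fin n → ZMod 3} (h : IsTor z T v) : IsTor z T⁻¹ (-v) := by
  obtain ⟨U, hU⟩ := exists_tor hF hz (-v) (by simp [IsTor.sum hF hz h])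
  have h' := h.mul hz hU
  rw [add_neg_cancel] at h'
  rwa [inv_eq_of_mul_eq_one_right (h'.ext isTor_one)]

include hz in
theorem isTor_emb {f : Fin m ↪ Fin n} {X : Cfsg.SU m F 2} {v : Fin m → ZMod 3} (h : IsTor z X v)
    {v' : Fin n → ZMod 3} (hv : ∀ a, v' (f a) = v a) (hout : ∀ i, i ∉ Set.range f → v' i = 0) :
    IsTor z (emb f X) v' := by
  refine Matrix.ext fun i j => ?_
  by_cases hj : j ∈ Set.range f
  · obtain ⟨b, rfl⟩ := hj
    by_cases hi : i ∈ Set.range f
    · obtain ⟨a, rfl⟩ := hi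
      rw [suMat_emb, h]
      by_cases e : a = b
      · subst e; simp [hv]
      · simp [e, f.injective.ne e]
    · rw [suMat_emb_col f X hi, Matrix.diagonal_apply_ne]
      exact fun e => hi ⟨b, e.symm⟩
  · rw [suMat_emb_out f X i hj]
    by_cases e : i = j
    · subst e; simp [ev, hout i hj, wp_zero]
    · simp [ev, e]

/-! Conjugation of diagonal elements. -/

theorem exists_supp (g : Cfsg.SU n F 2) : ∃ π : Equiv.Perm (Fin n), ∀ j, suMat g (π j) j ≠ 0 := by
  classical
  by_contra h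
  push Not at h
  have hd : (suMat g).det = 1 := g.1.2
  rw [Matrix.det_apply'] at hd
  refine zero_ne_one ((Finset.sum_eq_zero fun π _ => ?_).symm.trans hd)
  obtain ⟨j, hj⟩ := h π
  exact mul_eq_zero_of_right _ (Finset.prod_eq_zero (Finset.mem_univ j) hj)

include hF hz in
theorem supp_eq {g T T' : Cfsg.SU n F 2} {v v' : Fin n → ZMod 3} (h : IsTor z T v) (h' : IsTor z T' v')
    (e : g * T = T' * g) {i j : Fin n} (hne : suMat g i j ≠ 0) : v' i = v j := by
  have he := congrArg (fun x => suMat x i j) e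
  simp only [suMat_mul] at he
  rw [h, h', Matrix.mul_diagonal, Matrix.diagonal_mul, mul_comm] at he
  exact (wp_inj hF hz (mul_right_cancel₀ hne he)).symm

include hF hz in
theorem entry_zero {g T : Cfsg.SU n F 2} {v : Fin n → ZMod 3} (h : IsTor z T v) (e : g * T = T * g)
    {i j : Fin n} (hne : v i ≠ v j) : suMat g i j = 0 :=
  by_contra fun h' => hne (supp_eq hF hz h h e h')

theorem perm_conj {g T T' : Cfsg.SU n F 2} {π : Equiv.Perm (Fin n)} (hg : ∀ k, act g (ev k) = ev (π k))
    {v v' : Fin n → ZMod 3} (h : IsTor z T v) (h' : IsTor z T' v') (e : ∀ k, v' (π k) = v k) :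
    g * T = T' * g := act_eq_of_basis fun k => by
  rw [act_mul, act_mul, hg, h.act_ev, act_smul, hg, h'.act_ev, e]

theorem perm_mul {g g' : Cfsg.SU n F 2} {π π' : Equiv.Perm (Fin n)} (hg : ∀ k, act g (ev k) = ev (π k))
    (hg' : ∀ k, act g' (ev k) = ev (π' k)) (k : Fin n) : act (g * g') (ev k) = ev ((π * π') k) := by
  rw [act_mul, hg', hg, Equiv.Perm.mul_apply]

theorem perm_inv {g : Cfsg.SU n F 2} {π : Equiv.Perm (Fin n)} (hg : ∀ k, act g (ev k) = ev (π k))
    (k : Fin n) : act g⁻¹ (ev k) = ev (π⁻¹ k) :=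
  act_inv_eq (by rw [hg, Equiv.Perm.inv_def, Equiv.apply_symm_apply])

/-! Two variables. -/

include hF hz in
theorem two_cases (g : Cfsg.SU 2 F 2) :
    (∃ k, IsTor z g ![k, -k]) ∨ (suMat g 0 0 = 0 ∧ g * g = 1) := by
  obtain ⟨e10, e11⟩ := su2_shape hF g
  have hN := su2_norm hF g
  by_cases h1 : suMat g 0 1 = 0
  · left
    rw [h1, zero_mul, add_zero] at hN
    obtain ⟨k, hk⟩ := exists_wp hF hz (x := suMat g 0 0) (fun e => by simp [e] at hN)
    refine ⟨k, Matrix.ext fun i j => ?_⟩
    fin_cases i <;> fin_cases j <;> simp [e10, e11, h1, hk, wp_sq hz]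
  · right
    have h0 : suMat g 0 0 = 0 := by
      by_contra h0
      have e0 := pow_three hF h0
      have e1 := pow_three hF h1
      exact one_ne_zero (α := F) (by linear_combination two_zero hF - hN + e0 + e1)
    refine ⟨h0, su2_ext hF ?_ ?_⟩
    · simp only [suMat_mul, Matrix.mul_apply, Fin.sum_univ_two, h0, e10, suMat_one, Matrix.one_apply_eq]
      linear_combination (-1 : F) * pow_three hF h1 - two_zero hF
    · simp [suMat_mul, Matrix.mul_apply, Fin.sum_univ_two, h0, e11, suMat_one]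

include hF hz in
theorem tor_of_cube {g : Cfsg.SU 2 F 2} (hg : g * g * g = 1) : ∃ k, IsTor z g ![k, -k] := by
  refine (two_cases hF hz g).resolve_right fun ⟨h0, h2⟩ => ?_
  rw [h2, one_mul] at hg
  rw [hg, suMat_one] at h0
  simp at h0

include hF in
theorem exists_two_invol (X : Cfsg.SU 2 F 2) : ∃ a b : Cfsg.SU 2 F 2, a * a = 1 ∧ b * b = 1 ∧ X = a * b := by
  obtain ⟨z, hz⟩ := exists_omega hF
  rcases two_cases hF hz X with ⟨k, hk⟩ | ⟨-, h2⟩
  · obtain ⟨s, hs⟩ := exists_perm_elt hF (show (0 : Fin 2) ≠ 1 by decide)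
    have hs2 : s * s = 1 := act_eq_of_basis fun j => by
      rw [perm_mul hs hs, act_one, Equiv.Perm.mul_apply, Equiv.swap_apply_self]
    refine ⟨X * s, s, ?_, hs2, by rw [mul_assoc, hs2, mul_one]⟩
    have e : s * X = X⁻¹ * s := perm_conj hs hk (hk.inv hF hz) (fun j => by fin_cases j <;> simp)
    rw [mul_assoc, ← mul_assoc s, e, mul_assoc, hs2, mul_one, mul_inv_cancel]
  · exact ⟨X, 1, h2, one_mul 1, (mul_one X).symm⟩

/-! Three variables. -/

include hF in
theorem card_SU_three_two : Nat.card (Cfsg.SU 3 F 2) = 216 := by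
  have h := card_SU_mul hF (n := 3) (by norm_num)
  rw [card_GU hF] at h
  simp only [Finset.prod_range_succ, Finset.prod_range_zero, one_mul] at h
  norm_num [-Nat.card_eq_fintype_card] at h
  omega

include hF in
theorem card_units_three : Nat.card Fˣ = 3 := by
  rw [Nat.card_units, hF]; rfl

include hF in
/-- **`SU₃(2)` has no character of order three.** -/
theorem char_three (f : Cfsg.SU 3 F 2 →* F) (k : Cfsg.SU 3 F 2) : f k = 1 := by
  classical
  obtain ⟨z, hz⟩ := exists_omega hF
  set N := f.toHomUnits.ker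
  have hmem : ∀ x, x ∈ N ↔ f x = 1 := fun x => by
    rw [MonoidHom.mem_ker, Units.ext_iff]; rfl
  have hinv : ∀ x, x * x = 1 → x ∈ N := fun x hx => (hmem x).2 <| by
    have h : f x * f x = 1 := by rw [← map_mul, hx, map_one]
    exact sub_eq_zero.1 (mul_self_eq_zero.1
      (show (f x - 1) * (f x - 1) = 0 by linear_combination h + (1 - f x) * two_zero hF))
  have hblk : ∀ (w : Fin 2 ↪ Fin 3) X, emb w X ∈ N := fun w X => by
    obtain ⟨a, b, ha, hb, rfl⟩ := exists_two_invol hF X
    rw [map_mul]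
    exact mul_mem (hinv _ (by rw [← map_mul, ha, map_one])) (hinv _ (by rw [← map_mul, hb, map_one]))
  have hdvd : Nat.card N * Nat.card f.toHomUnits.range = 216 := by
    rw [← card_SU_three_two hF, ← Subgroup.index_ker, Subgroup.card_mul_index]
  have hr : Nat.card f.toHomUnits.range ∣ 3 := by
    have := Subgroup.card_subgroup_dvd_card f.toHomUnits.range
    rwa [card_units_three hF] at this
  rcases (Nat.dvd_prime Nat.prime_three).1 hr with h1 | h3
  · exact (hmem k).1 (MonoidHom.mem_ker.2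
      ((Subgroup.eq_bot_iff_forall f.toHomUnits.range).1 (Subgroup.eq_bot_of_card_eq _ h1) _ ⟨k, rfl⟩))
  exfalso
  rw [h3] at hdvd
  let D : Subgroup (Cfsg.SU 3 F 2) :=
    { carrier := {g | ∃ v, IsTor z g v}
      one_mem' := ⟨0, isTor_one⟩
      mul_mem' := fun ⟨v, hv⟩ ⟨w, hw⟩ => ⟨v + w, hv.mul hz hw⟩
      inv_mem' := fun ⟨v, hv⟩ => ⟨-v, hv.inv hF hz⟩ }
  have hD9 : 9 ≤ Nat.card D := by
    have hex : ∀ p : ZMod 3 × ZMod 3, ∃ T : Cfsg.SU 3 F 2, IsTor z T ![p.1, p.2, -p.1 - p.2] :=
      fun p => exists_tor hF hz _ (by simp [Fin.sum_univ_three])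
    choose T hT using hex
    have hinj : Function.Injective fun p => (⟨T p, _, hT p⟩ : D) := fun p p' e => by
      have eT : T p = T p' := congrArg Subtype.val e
      have hp := hT p
      rw [eT] at hp
      have e' := hp.unique hF hz (hT p')
      exact Prod.ext (congrFun e' 0) (congrFun e' 1)
    simpa using Nat.card_le_card_of_injective _ hinj
  have hDN : D ≤ N := by
    rintro g ⟨v, hv⟩
    obtain ⟨A, hA⟩ := exists_tor hF hz ![v 0, -v 0] (by simp)
    obtain ⟨B, hB⟩ := exists_tor hF hz ![-v 2, v 2] (by simp)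
    have hA' : IsTor z (emb (win 0 2 3 (by omega)) A) ![v 0, -v 0, 0] :=
      isTor_emb hz hA (fun a => by fin_cases a <;> rfl) fun i hi => by
        fin_cases i <;> first | rfl | (exfalso; apply hi; rw [mem_range_win]; simp)
    have hB' : IsTor z (emb (win 1 2 3 (by omega)) B) ![0, -v 2, v 2] :=
      isTor_emb hz hB (fun a => by fin_cases a <;> rfl) fun i hi => by
        fin_cases i <;> first | rfl | (exfalso; apply hi; rw [mem_range_win]; simp)
    have hs := hv.sum hF hz
    rw [Fin.sum_univ_three] at hs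
    have e : v = ![v 0, -v 0, 0] + ![0, -v 2, v 2] := funext fun i => by
      fin_cases i <;> simp
      linear_combination hs
    rw [e] at hv
    rw [hv.ext (hA'.mul hz hB')]
    exact mul_mem (hblk _ A) (hblk _ B)
  obtain ⟨s0, hs0⟩ := exists_perm_elt hF (show (0 : Fin 3) ≠ 1 by decide)
  obtain ⟨s1, hs1⟩ := exists_perm_elt hF (show (1 : Fin 3) ≠ 2 by decide)
  have hsq : ∀ {s : Cfsg.SU 3 F 2} {a b : Fin 3}, (∀ j, act s (ev j) = ev (Equiv.swap a b j)) → s * s = 1 :=
    fun {s a b} hs => act_eq_of_basis fun j => by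
      rw [perm_mul hs hs, act_one, Equiv.Perm.mul_apply, Equiv.swap_apply_self]
  set σ := s0 * s1
  have hσ := perm_mul hs0 hs1
  have hσN : σ ∈ N := mul_mem (hinv _ (hsq hs0)) (hinv _ (hsq hs1))
  have hσ3 : σ ^ 3 = 1 := act_eq_of_basis fun j => by
    rw [pow_three', act_mul, act_mul, hσ, hσ, hσ, act_one]
    congr 1
    revert j; decide
  have hσD : σ ∉ D := fun ⟨v, hv⟩ => by
    have h := congrFun ((hσ 0).symm.trans (hv.act_ev 0)) 1
    simp [ev, Equiv.swap_apply_of_ne_of_ne, show Equiv.swap (1 : Fin 3) 2 0 = 0 from rfl] at h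
  have hnorm : Subgroup.zpowers σ ≤ Subgroup.normalizer (D : Set (Cfsg.SU 3 F 2)) := by
    rw [Subgroup.zpowers_le]
    have hcl : ∀ (g : Cfsg.SU 3 F 2) (π : Equiv.Perm (Fin 3)), (∀ j, act g (ev j) = ev (π j)) →
        ∀ h ∈ D, g * h * g⁻¹ ∈ D := fun g π hg h ⟨v, hv⟩ => by
      obtain ⟨T, hT⟩ := exists_tor hF hz (v ∘ ⇑π.symm)
        (by rw [← hv.sum hF hz]; exact Equiv.sum_comp π.symm v)
      rw [perm_conj hg hv hT (fun j => by simp), mul_inv_cancel_right]
      exact ⟨_, hT⟩
    refine Subgroup.mem_normalizer_iff.2 fun h => ⟨hcl σ _ hσ h, fun hh => ?_⟩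
    have := hcl σ⁻¹ _ (perm_inv hσ) _ hh
    simpa [mul_assoc] using this
  have hP : IsPGroup 3 (Subgroup.zpowers σ ⊔ D : Subgroup (Cfsg.SU 3 F 2)) := by
    refine IsPGroup.to_sup_of_normal_right' ?_ ?_ hnorm
    · rintro ⟨x, i, rfl⟩
      exact ⟨1, Subtype.ext (by
        show (σ ^ i) ^ (3 ^ 1) = 1
        rw [pow_one, ← zpow_natCast, ← _root_.zpow_mul, mul_comm i, _root_.zpow_mul, zpow_natCast, hσ3, _root_.one_zpow])⟩
    · rintro ⟨x, v, hv⟩
      refine ⟨1, Subtype.ext ?_⟩
      show x ^ (3 ^ 1) = 1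
      have h3 := (hv.mul hz hv).mul hz hv
      rw [show v + v + v = 0 from funext fun i => by
        show v i + v i + v i = 0
        generalize v i = a
        revert a; decide] at h3
      rw [pow_one, pow_three']
      exact h3.ext isTor_one
  haveI : Fact (Nat.Prime 3) := ⟨Nat.prime_three⟩
  obtain ⟨e, he⟩ := IsPGroup.iff_card.1 hP
  have hle : Subgroup.zpowers σ ⊔ D ≤ N := sup_le (Subgroup.zpowers_le.2 hσN) hDN
  have hd : 3 ^ e ∣ 72 := by
    have := Subgroup.card_dvd_of_le hle
    rw [he] at this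
    rwa [show Nat.card N = 72 by omega] at this
  have hlt : Nat.card D < 3 ^ e := he ▸ lt_of_le_of_ne (Subgroup.card_le_of_le le_sup_right) fun h =>
    hσD (by rw [Subgroup.eq_of_le_of_card_ge (le_sup_right : D ≤ Subgroup.zpowers σ ⊔ D) h.ge]
            exact Subgroup.mem_sup_left (Subgroup.mem_zpowers σ))
  have h3 : 3 ≤ e := by
    by_contra h
    have : 3 ^ e ≤ 3 ^ 2 := Nat.pow_le_pow_right (by norm_num) (by omega)
    omega
  have : 3 ^ 3 ∣ 72 := (pow_dvd_pow 3 h3).trans hd
  norm_num at this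

include hF in
/-- Two injective maps agreeing on both blocks agree. -/
theorem eq_of_blocks {φ ψ : Cfsg.SU 3 F 2 →* Cfsg.SU 3 F 2} (hψ : Function.Injective ψ)
    (h0 : ∀ X, φ (emb (win 0 2 3 (by omega)) X) = ψ (emb (win 0 2 3 (by omega)) X))
    (h1 : ∀ X, φ (emb (win 1 2 3 (by omega)) X) = ψ (emb (win 1 2 3 (by omega)) X)) : φ = ψ := by
  classical
  obtain ⟨z, hz⟩ := exists_omega hF
  have hψs : Function.Surjective ψ := ((Finite.injective_iff_bijective).1 hψ).2
  obtain ⟨s0, hs0⟩ := exists_perm_elt hF (show (0 : Fin 3) ≠ 1 by decide)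
  obtain ⟨s1, hs1⟩ := exists_perm_elt hF (show (1 : Fin 3) ≠ 2 by decide)
  have agree0 : ∀ g : Cfsg.SU 3 F 2, act g (ev 2) = ev 2 → φ g = ψ g := fun g hg => by
    obtain ⟨X, rfl⟩ := exists_emb_win hF (i := 0) (r := 2) (k := 3) (by omega) (g := g) fun j hj => by
      obtain rfl : j = 2 := Fin.ext (show j.1 = 2 by omega)
      exact hg
    exact h0 X
  have agree1 : ∀ g : Cfsg.SU 3 F 2, act g (ev 0) = ev 0 → φ g = ψ g := fun g hg => by
    obtain ⟨X, rfl⟩ := exists_emb_win hF (i := 1) (r := 2) (k := 3) (by omega) (g := g) fun j hj => by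
      obtain rfl : j = 0 := Fin.ext (show j.1 = 0 by omega)
      exact hg
    exact h1 X
  have es0 : φ s0 = ψ s0 := agree0 _ (by rw [hs0]; rfl)
  have es1 : φ s1 = ψ s1 := agree1 _ (by rw [hs1]; rfl)
  have agree : ∀ (j : Fin 3) (g : Cfsg.SU 3 F 2), act g (ev j) = ev j → φ g = ψ g := by
    intro j g hg
    fin_cases j
    · exact agree1 g hg
    · have e : φ (s0⁻¹ * g * s0) = ψ (s0⁻¹ * g * s0) := agree1 _ (by
        rw [act_mul, act_mul, hs0, show Equiv.swap (0 : Fin 3) 1 0 = 1 from rfl]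
        rw [show act g (ev (1 : Fin 3)) = ev 1 from hg]
        exact act_inv_eq (by rw [hs0]; rfl))
      rw [map_mul, map_mul, map_inv, map_mul, map_mul, map_inv, es0] at e
      exact mul_left_cancel (mul_right_cancel e)
    · exact agree0 g hg
  -- the involution is a transvection
  let u : Fin 3 → F := ![0, 1, 1]
  have hs : ∀ v, act s1 v = v + Cfsg.hermForm 3 F 2 v u • u := fun v => by
    have hv : v = v 0 • ev 0 + v 1 • ev 1 + v 2 • ev 2 := funext fun i => by fin_cases i <;> simp [ev]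
    conv_lhs => rw [hv]
    rw [act_add, act_add, act_smul, act_smul, act_smul, hs1, hs1, hs1]
    funext i
    have h2 := two_zero hF
    fin_cases i <;>
      simp [u, ev, Cfsg.hermForm, Fin.sum_univ_three, show Equiv.swap (1 : Fin 3) 2 0 = 0 from rfl,
        show Equiv.swap (1 : Fin 3) 2 1 = 2 from rfl, show Equiv.swap (1 : Fin 3) 2 2 = 1 from rfl]
    · linear_combination (-(v 1)) * h2
    · linear_combination (-(v 2)) * h2
  have conjs : ∀ k, φ (k * s1 * k⁻¹) = ψ (k * s1 * k⁻¹) := fun k => by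
    set y := act k u
    have hy : Cfsg.hermForm 3 F 2 y y = 0 := by
      rw [act_herm]
      simp [u, Cfsg.hermForm, Fin.sum_univ_three, one_add_one_eq_two, two_zero hF]
    obtain ⟨j, hj⟩ : ∃ j, y j = 0 := by
      by_contra h
      push Not at h
      have e : ∀ j, y j * y j ^ 2 = 1 := fun j => by rw [← pow_three hF (h j)]; ring
      simp [Cfsg.hermForm, Fin.sum_univ_three, e] at hy
      exact one_ne_zero (α := F) (by linear_combination hy - two_zero hF)
    refine agree j _ ?_
    rw [act_mul, act_mul, hs, act_add, act_act_inv, act_smul, ← act_herm k (act k⁻¹ (ev j)) u, act_act_inv]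
    show ev j + Cfsg.hermForm 3 F 2 (ev j) y • y = ev j
    rw [ev, herm_single_left, hj, zero_pow (by norm_num), zero_smul, add_zero]
  have scal : ∀ k, ∃ a : F, suMat ((ψ k)⁻¹ * φ k) = a • 1 := by
    intro k
    obtain ⟨c, hc⟩ := hψs ((ψ k)⁻¹ * φ k)
    have hcomm : ∀ h, Commute c (h * s1 * h⁻¹) := fun h => hψ (by
      rw [map_mul ψ c, map_mul ψ _ c, hc]
      have e1 : φ k * φ (h * s1 * h⁻¹) * (φ k)⁻¹ = ψ k * ψ (h * s1 * h⁻¹) * (ψ k)⁻¹ := by
        rw [← map_inv, ← map_mul, ← map_mul, ← map_inv, ← map_mul, ← map_mul,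
          show k * (h * s1 * h⁻¹) * k⁻¹ = (k * h) * s1 * (k * h)⁻¹ by group]
        exact conjs _
      rw [conjs h] at e1
      set X := ψ (h * s1 * h⁻¹)
      calc (ψ k)⁻¹ * φ k * X = (ψ k)⁻¹ * (φ k * X * (φ k)⁻¹) * φ k := by group
        _ = X * ((ψ k)⁻¹ * φ k) := by rw [e1]; group)
    obtain ⟨t, ht⟩ := exists_tor hF hz ![0, 1, 2] (by simp [Fin.sum_univ_three]; decide)
    have hs11 : s1 * s1 = 1 := act_eq_of_basis fun j => by
      rw [perm_mul hs1 hs1, act_one, Equiv.Perm.mul_apply, Equiv.swap_apply_self]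
    have hst : s1 * t = t⁻¹ * s1 :=
      perm_conj hs1 ht (ht.inv hF hz) (fun j => by fin_cases j <;> decide)
    have ht3 : t * t * t = 1 := ((ht.mul hz ht).mul hz ht).ext (by
      rw [show (![0, 1, 2] : Fin 3 → ZMod 3) + ![0, 1, 2] + ![0, 1, 2] = 0 by decide]; exact isTor_one)
    have c1 : Commute c s1 := by simpa using hcomm 1
    have ctc : Commute c t := by
      have hi : s1⁻¹ = s1 := inv_eq_of_mul_eq_one_right hs11
      have e1 : s1 * t * s1 = t⁻¹ := by rw [hst, mul_assoc, hs11, mul_one]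
      have e2 : t * s1 * t⁻¹ * s1 = t * t := by
        have e3 : s1 * t⁻¹ * s1 = t := by
          have := congrArg (·⁻¹) e1
          simpa [hi, mul_assoc] using this
        rw [mul_assoc, mul_assoc, ← mul_assoc s1, e3]
      have ht2 : Commute c (t * t) := e2 ▸ (hcomm t).mul_right c1
      have := ht2.mul_right ht2
      rwa [show t * t * (t * t) = t * t * t * t by group, ht3, one_mul] at this
    have off : ∀ i j, i ≠ j → suMat c i j = 0 := fun i j hij =>
      entry_zero hF hz ht ctc.eq (by revert hij; revert i j; decide)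
    have c0 : Commute c s0 := by
      have hx : (s1 * s0) * s1 * (s1 * s0)⁻¹ = s0 := act_eq_of_basis fun j => by
        rw [perm_mul (perm_mul (perm_mul hs1 hs0) hs1) (perm_inv (perm_mul hs1 hs0)), hs0]
        congr 1
        revert j; decide
      exact hx ▸ hcomm (s1 * s0)
    have diag_eq : ∀ {s : Cfsg.SU 3 F 2} {π : Equiv.Perm (Fin 3)}, (∀ j, act s (ev j) = ev (π j)) →
        Commute c s → ∀ j, suMat c (π j) (π j) = suMat c j j := fun {s π} hs' hcs j => by
      have e := congrFun (congrArg (fun g => act g (ev j)) hcs.eq) (π j)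
      rw [act_mul, act_mul, hs'] at e
      rw [suMat_apply] at e
      rw [e, show act c (ev j) = suMat c j j • ev j from funext fun i => by
        rw [suMat_apply]
        by_cases hij : i = j
        · subst hij; simp [ev]
        · simp [ev, hij, off i j hij], act_smul, hs']
      simp [ev]
    have hcc : c ∈ Subgroup.center (Cfsg.SU 3 F 2) := by
      refine (mem_center_SU_iff hF (by norm_num)).2 ⟨suMat c 1 1, Matrix.ext fun i j => ?_⟩
      show suMat c i j = _
      by_cases hij : i = j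
      · subst hij
        rw [Matrix.smul_apply, Matrix.one_apply_eq, smul_eq_mul, mul_one]
        fin_cases i
        · exact (diag_eq hs0 c0 0).symm
        · rfl
        · exact diag_eq hs1 c1 1
      · rw [off i j hij, Matrix.smul_apply, Matrix.one_apply_ne hij, smul_zero]
    have : (ψ k)⁻¹ * φ k ∈ Subgroup.center (Cfsg.SU 3 F 2) := by
      rw [← hc]
      refine Subgroup.mem_center_iff.2 fun x => ?_
      obtain ⟨y, rfl⟩ := hψs x
      rw [← map_mul, ← map_mul, Subgroup.mem_center_iff.1 hcc y]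
    exact (mem_center_SU_iff hF (by norm_num)).1 this
  choose a ha using scal
  have hmul : ∀ k l, a (k * l) = a k * a l := fun k l => by
    have hcl : (ψ k)⁻¹ * φ k ∈ Subgroup.center (Cfsg.SU 3 F 2) :=
      (mem_center_SU_iff hF (by norm_num)).2 ⟨_, ha k⟩
    have e : (ψ (k * l))⁻¹ * φ (k * l) = (ψ k)⁻¹ * φ k * ((ψ l)⁻¹ * φ l) := by
      rw [map_mul, map_mul, _root_.mul_inv_rev, ← mul_assoc ((ψ k)⁻¹ * φ k),
        ← Subgroup.mem_center_iff.1 hcl (ψ l)⁻¹]
      group
    have h : suMat ((ψ (k * l))⁻¹ * φ (k * l)) = suMat ((ψ k)⁻¹ * φ k) * suMat ((ψ l)⁻¹ * φ l) := by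
      rw [e, suMat_mul]
    rw [ha, ha, ha, Matrix.smul_mul, one_mul, smul_smul] at h
    simpa using congrFun (congrFun h 0) 0
  have ha1 : a 1 = 1 := by
    have h := congrFun (congrFun (ha 1) 0) 0
    simp [suMat_one] at h
    exact h.symm
  let f : Cfsg.SU 3 F 2 →* F := { toFun := a, map_one' := ha1, map_mul' := hmul }
  refine MonoidHom.ext fun k => ?_
  have hk : a k = 1 := char_three hF f k
  have : (ψ k)⁻¹ * φ k = 1 := Subtype.ext (Subtype.ext (by
    show suMat _ = 1
    rw [ha, hk, one_smul]))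
  exact (inv_mul_eq_one.1 this).symm

include hF in
/-- **Automorphisms preserving both blocks are twists.** -/
theorem aut_blocks_two (α : Cfsg.SU 3 F 2 →* Cfsg.SU 3 F 2) (hα : Function.Injective α)
    (hb : ∀ j (hj : j + 2 ≤ 3) X, ∃ Y, α (emb (win j 2 3 hj) X) = emb (win j 2 3 hj) Y) :
    ∃ (c : Fin 3 → F) (hc : Unitvec 2 c) (γ : F ≃+* F), α = twist hF c hc γ := by
  classical
  obtain ⟨z, hz⟩ := exists_omega hF
  have hαs : Function.Surjective α := ((Finite.injective_iff_bijective).1 hα).2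
  have sem : ∀ j (hj : j + 2 ≤ 3), ∃ (ζ : F) (hc : Unitvec 2 ![ζ, 1]) (γ : F ≃+* F),
      ∀ X, α (emb (win j 2 3 hj) X) = emb (win j 2 3 hj) (twist hF ![ζ, 1] hc γ X) := fun j hj => by
    choose Y hY using hb j hj
    have hmul : ∀ X X', Y (X * X') = Y X * Y X' := fun X X' => emb_injective (win j 2 3 hj) (by
      rw [map_mul, ← hY, ← hY, ← hY, map_mul, map_mul])
    have hYinj : Function.Injective Y := fun X X' e =>
      emb_injective (win j 2 3 hj) (hα (by rw [hY, hY, e]))
    let β : Cfsg.SU 2 F 2 ≃* Cfsg.SU 2 F 2 :=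
      { Equiv.ofBijective Y ((Finite.injective_iff_bijective).1 hYinj) with map_mul' := hmul }
    obtain ⟨ζ, hc, γ, h⟩ := aut_torus hF β fun t ht => by
      rcases two_cases hF hz t with ⟨k, hk⟩ | ⟨h0, -⟩
      · have h3 : t * t * t = 1 := ((hk.mul hz hk).mul hz hk).ext (by
          rw [show (![k, -k] : Fin 2 → ZMod 3) + ![k, -k] + ![k, -k] = 0 by clear hk; revert k; decide]
          exact isTor_one)
        obtain ⟨l, hl⟩ := tor_of_cube hF hz (g := β t) (by rw [← map_mul, ← map_mul, h3, map_one])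
        rw [hl]; simp
      · have := su2_norm hF t
        rw [h0, ht] at this
        simp at this
    refine ⟨ζ, hc, γ, fun X => ?_⟩
    rw [hY]
    exact congrArg _ (h X)
  obtain ⟨ζ0, hc0, γ0, h0⟩ := sem 0 (by omega)
  obtain ⟨ζ1, hc1, γ1, h1⟩ := sem 1 (by omega)
  have hγ : γ0 = γ1 := by
    obtain ⟨δ, hδ⟩ := exists_tor hF hz ![1, -1] (by simp)
    have tw : ∀ (ζ : F) (hc : Unitvec 2 ![ζ, 1]) (γ : F ≃+* F), ∃ a, γ z = wp z a ∧
        IsTor z (twist hF ![ζ, 1] hc γ δ) ![a, -a] := fun ζ hc γ => by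
      obtain ⟨a, ha⟩ := exists_wp hF hz (x := γ z) fun e => wp_ne_zero hz 1 (by
        rw [wp_one]; exact γ.injective (by rw [e, map_zero]))
      refine ⟨a, ha, Matrix.ext fun i j => ?_⟩
      rw [suMat_twist, hδ]
      have e0 := map_wp hz γ ha 1
      have e1 := map_wp hz γ ha (-1)
      fin_cases i <;> fin_cases j <;> simp
      · have := hc 0
        simp only [Matrix.cons_val_zero] at this
        rw [e0, mul_one]; linear_combination wp z a * this
      · rw [e1, mul_neg_one]
    obtain ⟨a0, ea0, ta0⟩ := tw ζ0 hc0 γ0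
    obtain ⟨a1, ea1, ta1⟩ := tw ζ1 hc1 γ1
    have T0 : IsTor z (α (emb (win 0 2 3 (by omega)) δ)) ![a0, -a0, 0] := by
      rw [h0]
      refine isTor_emb hz ta0 (fun a => by fin_cases a <;> rfl) fun i hi => ?_
      fin_cases i <;> first | rfl | (exfalso; apply hi; rw [mem_range_win]; simp)
    have T1 : IsTor z (α (emb (win 1 2 3 (by omega)) δ)) ![0, a1, -a1] := by
      rw [h1]
      refine isTor_emb hz ta1 (fun a => by fin_cases a <;> rfl) fun i hi => ?_
      fin_cases i <;> first | rfl | (exfalso; apply hi; rw [mem_range_win]; simp)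
    set Z := emb (win 0 2 3 (by omega)) δ * (emb (win 1 2 3 (by omega)) δ)⁻¹
    have tZ : IsTor z Z ![1, 1, 1] := by
      have e0 : IsTor z (emb (win 0 2 3 (by omega)) δ) ![1, -1, 0] := by
        refine isTor_emb hz hδ (fun a => by fin_cases a <;> rfl) fun i hi => ?_
        fin_cases i <;> first | rfl | (exfalso; apply hi; rw [mem_range_win]; simp)
      have e1 : IsTor z (emb (win 1 2 3 (by omega)) δ) ![0, 1, -1] := by
        refine isTor_emb hz hδ (fun a => by fin_cases a <;> rfl) fun i hi => ?_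
        fin_cases i <;> first | rfl | (exfalso; apply hi; rw [mem_range_win]; simp)
      have := e0.mul hz (e1.inv hF hz)
      rwa [show (![1, -1, 0] : Fin 3 → ZMod 3) + -![0, 1, -1] = ![1, 1, 1] by decide] at this
    have hZc : Z ∈ Subgroup.center (Cfsg.SU 3 F 2) :=
      (mem_center_SU_iff hF (by norm_num)).2 ⟨wp z 1, by
        show suMat Z = _
        rw [tZ, Matrix.smul_one_eq_diagonal]
        congr 1; funext i; fin_cases i <;> rfl⟩
    have hαZ : α Z ∈ Subgroup.center (Cfsg.SU 3 F 2) := Subgroup.mem_center_iff.2 fun x => by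
      obtain ⟨y, rfl⟩ := hαs x
      rw [← map_mul, ← map_mul, Subgroup.mem_center_iff.1 hZc y]
    obtain ⟨c, hc⟩ := (mem_center_SU_iff hF (by norm_num)).1 hαZ
    have tA : IsTor z (α Z) (![a0, -a0, 0] + -![0, a1, -a1]) := by
      rw [map_mul, map_inv]; exact T0.mul hz (T1.inv hF hz)
    have eA : suMat (α Z) = c • 1 := hc
    have e00 := tA.apply 0
    have e22 := tA.apply 2
    rw [eA] at e00 e22
    simp at e00 e22
    refine ringAut_ext_two hF hz ?_
    rw [ea0, ea1]
    exact congrArg _ (wp_inj hF hz (e00.symm.trans e22))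
  subst hγ
  have hc : Unitvec 2 ![ζ0, 1, ζ1 ^ 2] := fun i => by
    fin_cases i
    · exact hc0 0
    · simp
    · have := hc1 0
      simp only [Matrix.cons_val_zero] at this
      show ζ1 ^ 2 * (ζ1 ^ 2) ^ 2 = 1
      rw [pow_q_q hF, mul_comm, this]
  refine ⟨_, hc, γ0, eq_of_blocks hF (twist_injective hF _ hc γ0) (fun X => ?_) fun X => ?_⟩
  · rw [h0, twist_emb hF _ _ hc]
    refine congrArg _ (DFunLike.congr_fun (twist_congr hF hc0 (fun a => hc _) γ0 fun a b => ?_) X)
    have e : (![ζ0, 1, ζ1 ^ 2] : Fin 3 → F) ∘ win 0 2 3 (by omega) = ![ζ0, 1] :=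
      funext fun a => by fin_cases a <;> rfl
    show _ = (![ζ0, 1, ζ1 ^ 2] ∘ win 0 2 3 (by omega)) a * (![ζ0, 1, ζ1 ^ 2] ∘ win 0 2 3 (by omega)) b ^ 2
    rw [e]
  · rw [h1, twist_emb hF _ _ hc]
    refine congrArg _ (DFunLike.congr_fun (twist_congr hF hc1 (fun a => hc _) γ0 fun a b => ?_) X)
    have e : (![ζ0, 1, ζ1 ^ 2] : Fin 3 → F) ∘ win 1 2 3 (by omega) = ![1, ζ1 ^ 2] :=
      funext fun a => by fin_cases a <;> rfl
    show _ = (![ζ0, 1, ζ1 ^ 2] ∘ win 1 2 3 (by omega)) a * (![ζ0, 1, ζ1 ^ 2] ∘ win 1 2 3 (by omega)) b ^ 2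
    rw [e]
    have h := hc1 0
    simp only [Matrix.cons_val_zero] at h
    fin_cases a <;> fin_cases b <;> simp [pow_q_q hF, h]
    rw [mul_comm, h]

end CfsgLib.Phan.Q2
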