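import Cfsg.Agent.Unitary.Generation
import Mathlib.LinearAlgebra.Dual.Lemmas
import Mathlib.Tactic.Abel
import Mathlib.Tactic.Module

/-!
Unit vectors of the standard hermitian space: extension of orthonormal families to elements of
`SU`, and common neighbours in the orthogonality graph.
-/

set_option autoImplicit false
set_option linter.unusedSectionVars false
set_option linter.style.haveILetI false

namespace CfsgLib.Phan

open Matrix CfsgLib.Forms CfsgLib.Unitary

variable {F : Type*} [Field F] [Finite F] {q n : ℕ} (hF : Nat.card F = q ^ 2)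

local notation "hm" => Cfsg.hermForm _ F q

/-- The action of `SU` on vectors. -/
def act (g : Cfsg.SU n F q) (x : Fin n → F) : Fin n → F := suMat g *ᵥ x

theorem act_mul (g h : Cfsg.SU n F q) (x : Fin n → F) : act (g * h) x = act g (act h x) := by
  rw [act, act, act, suMat_mul, Matrix.mulVec_mulVec]

theorem act_one (x : Fin n → F) : act (1 : Cfsg.SU n F q) x = x := by
  rw [act, suMat_one, Matrix.one_mulVec]

theorem act_inv_act (g : Cfsg.SU n F q) (x : Fin n → F) : act g⁻¹ (act g x) = x := su_inv_mulVec g x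

theorem act_act_inv (g : Cfsg.SU n F q) (x : Fin n → F) : act g (act g⁻¹ x) = x := by
  rw [← act_mul, mul_inv_cancel, act_one]

theorem act_inv_eq {g : Cfsg.SU n F q} {x y : Fin n → F} (h : act g x = y) : act g⁻¹ y = x := by
  rw [← h, act_inv_act]

theorem act_herm (g : Cfsg.SU n F q) (x y : Fin n → F) :
    Cfsg.hermForm n F q (act g x) (act g y) = Cfsg.hermForm n F q x y := su_preserves g x y

theorem act_add (g : Cfsg.SU n F q) (x y : Fin n → F) : act g (x + y) = act g x + act g y :=
  Matrix.mulVec_add _ _ _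

theorem act_smul (g : Cfsg.SU n F q) (c : F) (x : Fin n → F) : act g (c • x) = c • act g x :=
  Matrix.mulVec_smul _ _ _

/-- Standard basis vectors. -/
def ev (i : Fin n) : Fin n → F := Pi.single i 1

theorem act_eq_of_basis {g h : Cfsg.SU n F q}
    (e : ∀ i, act g (ev i) = act h (ev i)) : g = h :=
  Subtype.ext (Subtype.ext (Matrix.ext_of_mulVec_single e))

include hF in
theorem q_ne_zero : q ≠ 0 := by have := two_le_q hF; omega

include hF in
theorem herm_zero_right (x : Fin n → F) : hm x 0 = 0 := (uForm hF n).zero_right x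

include hF in
theorem herm_zero_left (x : Fin n → F) : hm 0 x = 0 := (uForm hF n).zero_left x

include hF in
theorem herm_comm_zero {x y : Fin n → F} : hm x y = 0 ↔ hm y x = 0 := (uForm hF n).eq_zero_comm

include hF in
theorem herm_neg_left (x y : Fin n → F) : hm (-x) y = -hm x y := by
  rw [← neg_one_smul F x, herm_smul_left, neg_one_mul]

include hF in
theorem herm_ev (i j : Fin n) : hm (ev i : Fin n → F) (ev j) = if i = j then 1 else 0 := by
  rw [ev, herm_single_left, ev]
  by_cases h : i = j
  · subst h; simp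
  · simp [h, zero_pow (q_ne_zero hF)]

/-- An orthonormal family. -/
def Orth (q : ℕ) {k n : ℕ} (f : Fin k → Fin n → F) : Prop :=
  ∀ i j, Cfsg.hermForm n F q (f i) (f j) = if i = j then 1 else 0

include hF in
theorem orth_ev {k : ℕ} {ι : Fin k → Fin n} (hι : Function.Injective ι) :
    Orth q fun i => (ev (ι i) : Fin n → F) := fun i j => by
  simp [herm_ev hF, hι.eq_iff]

include hF in
theorem orth_indep {k : ℕ} {f : Fin k → Fin n → F} (hf : Orth q f) : LinearIndependent F f := by
  classical
  rw [Fintype.linearIndependent_iff]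
  intro c hc j
  let φ : (Fin n → F) →ₗ[F] F :=
    { toFun := fun x => Cfsg.hermForm n F q x (f j)
      map_add' := fun x y => herm_add_left n x y _
      map_smul' := fun a x => herm_smul_left n a x _ }
  have h := congrArg φ hc
  simpa [map_sum, map_smul, φ, hf _ j, herm_zero_left hF] using h

include hF in
theorem orth_map {k : ℕ} {f : Fin k → Fin n → F} (hf : Orth q f) (g : Cfsg.SU n F q) :
    Orth q fun i => act g (f i) := fun i j => by rw [act_herm, hf]

include hF in
/-- An orthonormal family missing one index extends to an element of `SU`. -/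
theorem exists_ext {k : ℕ} {ι : Fin k → Fin n} (hι : Function.Injective ι) (hk : k < n)
    {f : Fin k → Fin n → F} (hf : Orth q f) :
    ∃ s : Cfsg.SU n F q, ∀ i, act s (ev (ι i)) = f i := by
  classical
  obtain ⟨g, hg⟩ := exists_GU_family hF (fun i => (ev (ι i) : Fin n → F)) f
    (orth_indep hF (orth_ev hF hι)) (orth_indep hF hf) (fun i j => by rw [hf, herm_ev hF]; simp [hι.eq_iff])
  obtain ⟨l, hl⟩ : ∃ l, ∀ i, ι i ≠ l := by
    by_contra hc
    push Not at hc
    have := Fintype.card_le_of_surjective ι hc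
    simp at this
    omega
  set M := ((g : Matrix.GeneralLinearGroup (Fin n) F) : Matrix (Fin n) (Fin n) F) with hM
  set d : F := M.det with hd
  have hd1 : d ^ (q + 1) = 1 := by
    have := congrArg Units.val (det_GU hF g.2)
    simpa [hd, hM] using this
  have hd0 : d ≠ 0 := by
    intro e; rw [e, zero_pow (by omega)] at hd1; exact zero_ne_one hd1
  set D : Matrix (Fin n) (Fin n) F := Matrix.diagonal (fun i => if i = l then d⁻¹ else 1) with hD
  have hdet : (M * D).det = 1 := by
    rw [Matrix.det_mul, hD, Matrix.det_diagonal, Finset.prod_ite_eq' Finset.univ l, if_pos (Finset.mem_univ l),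
      ← hd, mul_inv_cancel₀ hd0]
  refine ⟨⟨⟨_, hdet⟩, fun x y => ?_⟩, fun i => ?_⟩
  · show Cfsg.hermForm n F q ((M * D) *ᵥ x) ((M * D) *ᵥ y) = _
    rw [← mulVec_mulVec, ← mulVec_mulVec, mem_GU_iff.mp g.2]
    simp only [Cfsg.hermForm, hD, mulVec_diagonal]
    refine Finset.sum_congr rfl fun j _ => ?_
    split_ifs with hj
    · rw [mul_pow, inv_pow]
      rw [pow_succ] at hd1
      field_simp
      linear_combination (-(x j * y j ^ q)) * hd1
    · simp
  · show (M * D) *ᵥ (ev (ι i)) = f i
    rw [← mulVec_mulVec, ← hg i, hD]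
    congr 1
    funext j
    rw [mulVec_diagonal, ev, Pi.single_apply]
    by_cases hj : j = ι i
    · rw [if_pos hj, hj, if_neg (hl i), one_mul]
    · rw [if_neg hj, mul_zero]

include hF in
/-- Transitivity on orthonormal families. -/
theorem exists_move {k : ℕ} (hk : k < n) {f g : Fin k → Fin n → F} (hf : Orth q f) (hg : Orth q g) :
    ∃ s : Cfsg.SU n F q, ∀ i, act s (f i) = g i := by
  have hι : Function.Injective (Fin.castLE hk.le) := Fin.castLE_injective _
  obtain ⟨a, ha⟩ := exists_ext hF hι hk hf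
  obtain ⟨b, hb⟩ := exists_ext hF hι hk hg
  exact ⟨b * a⁻¹, fun i => by rw [act_mul, act_inv_eq (ha i), hb]⟩

include hF in
/-- A unit vector. -/
theorem exists_unit_mul {z : Fin n → F} (hz : hm z z ≠ 0) :
    ∃ a : F, hm (a • z) (a • z) = 1 := exists_length hF hz (one_pow q)

include hF in
theorem herm_smul_self (a : F) (z : Fin n → F) : hm (a • z) (a • z) = a ^ (q + 1) * hm z z := by
  rw [herm_smul_left, herm_smul_right hF, ← mul_assoc, pow_succ']

include hF in
theorem frob_add (a b : F) : (a + b) ^ q = a ^ q + b ^ q := by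
  rw [← frobQ_apply hF (a + b), map_add, frobQ_apply, frobQ_apply]

include hF in
theorem frob_sub (a b : F) : (a - b) ^ q = a ^ q - b ^ q := by
  rw [← frobQ_apply hF (a - b), map_sub, frobQ_apply, frobQ_apply]

include hF in
theorem frob_neg (a : F) : (-a) ^ q = -(a ^ q) := by
  rw [← frobQ_apply hF (-a), map_neg, frobQ_apply]

include hF in
theorem norm_fixed (a : F) : (a ^ (q + 1)) ^ q = a ^ (q + 1) := by
  rw [pow_succ, mul_pow, pow_q_q hF, mul_comm]

include hF in
/-- Coordinates along an orthonormal triple. -/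
theorem exists_perp_three {a : Fin n → F} {m : Fin 3 → Fin n → F} (hm3 : Orth q m) :
    ∃ c : Fin 3 → F, hm (c 0 • m 0 + c 1 • m 1 + c 2 • m 2) a = 0 ∧
      hm (c 0 • m 0 + c 1 • m 1 + c 2 • m 2) (c 0 • m 0 + c 1 • m 1 + c 2 • m 2) = 1 := by
  classical
  have hval : ∀ c : Fin 3 → F, hm (c 0 • m 0 + c 1 • m 1 + c 2 • m 2) a =
      c 0 * hm (m 0) a + c 1 * hm (m 1) a + c 2 * hm (m 2) a := fun c => by
    simp only [herm_add_left, herm_smul_left]
  have hself : ∀ c : Fin 3 → F, hm (c 0 • m 0 + c 1 • m 1 + c 2 • m 2) (c 0 • m 0 + c 1 • m 1 + c 2 • m 2) =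
      c 0 ^ (q + 1) + c 1 ^ (q + 1) + c 2 ^ (q + 1) := fun c => by
    simp only [herm_add_left, herm_add_right hF, herm_smul_left, herm_smul_right hF, hm3 _ _]
    simp [pow_succ]
  suffices h : ∃ c : Fin 3 → F, c 0 * hm (m 0) a + c 1 * hm (m 1) a + c 2 * hm (m 2) a = 0 ∧
      c 0 ^ (q + 1) + c 1 ^ (q + 1) + c 2 ^ (q + 1) ≠ 0 by
    obtain ⟨c, hc, hc0⟩ := h
    obtain ⟨t, ht⟩ := exists_unit_mul hF (n := n) (z := c 0 • m 0 + c 1 • m 1 + c 2 • m 2)
      (by rw [hself]; exact hc0)
    refine ⟨fun i => t * c i, ?_, ?_⟩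
    · show Cfsg.hermForm n F q ((t * c 0) • m 0 + (t * c 1) • m 1 + (t * c 2) • m 2) a = 0
      simp only [herm_add_left, herm_smul_left]; linear_combination t * hc
    · rw [← ht, smul_add, smul_add, smul_smul, smul_smul, smul_smul]
  set x := hm (m 0) a
  set y := hm (m 1) a
  set z := hm (m 2) a
  have hq1 : q + 1 ≠ 0 := by omega
  by_cases h2 : x ^ (q + 1) + y ^ (q + 1) ≠ 0
  · refine ⟨![y, -x, 0], by simp; ring, ?_⟩
    simp only [Matrix.cons_val_zero, Matrix.cons_val_one, Matrix.cons_val_two, Matrix.tail_cons,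
      Matrix.head_cons, zero_pow hq1, add_zero]
    rw [pow_succ (-x), frob_neg hF]
    intro e; exact h2 (by linear_combination e)
  by_cases h3 : x ^ (q + 1) + z ^ (q + 1) ≠ 0
  · refine ⟨![z, 0, -x], by simp; ring, ?_⟩
    simp only [Matrix.cons_val_zero, Matrix.cons_val_one, Matrix.cons_val_two, Matrix.tail_cons,
      Matrix.head_cons, zero_pow hq1, add_zero]
    rw [pow_succ (-x), frob_neg hF]
    intro e; exact h3 (by linear_combination e)
  push Not at h2 h3
  by_cases hx : x = 0
  · exact ⟨![1, 0, 0], by simp [hx], by simp⟩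
  have hy : y ≠ 0 := fun e => by rw [e, zero_pow hq1, add_zero] at h2; exact hx (eq_zero_of_pow_eq_zero h2)
  have hz : z ≠ 0 := fun e => by rw [e, zero_pow hq1, add_zero] at h3; exact hx (eq_zero_of_pow_eq_zero h3)
  by_cases h4 : y ^ (q + 1) + z ^ (q + 1) ≠ 0
  · refine ⟨![0, z, -y], by simp; ring, ?_⟩
    simp only [Matrix.cons_val_zero, Matrix.cons_val_one, Matrix.cons_val_two, Matrix.tail_cons,
      Matrix.head_cons, zero_pow hq1, zero_add]
    rw [pow_succ (-y), frob_neg hF]
    intro e; exact h4 (by linear_combination e)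
  push Not at h4
  -- now the characteristic is two and all three norms agree
  obtain ⟨l, hl⟩ := exists_trace_eq hF (μ := (1 : F)) (one_pow q)
  set N := x ^ (q + 1) with hN
  have hN0 : N ≠ 0 := pow_ne_zero _ hx
  have hyN : y ^ (q + 1) = -N := by linear_combination h2
  have hzN : z ^ (q + 1) = -N := by linear_combination h3
  have h2N : N + N = 0 := by linear_combination -h4 + hyN + hzN
  refine ⟨![x⁻¹, l / y, -(1 + l) / z], ?_, ?_⟩
  · simp only [Matrix.cons_val_zero, Matrix.cons_val_one, Matrix.cons_val_two, Matrix.tail_cons,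
      Matrix.head_cons]
    field_simp
    ring
  · simp only [Matrix.cons_val_zero, Matrix.cons_val_one, Matrix.cons_val_two, Matrix.tail_cons,
      Matrix.head_cons, inv_pow, div_pow, ← hN, hyN, hzN]
    have e : (-(1 + l)) ^ (q + 1) = 1 + (l + l ^ q) + l ^ (q + 1) := by
      rw [pow_succ, frob_neg hF, frob_add hF, one_pow, pow_succ]; ring
    rw [e, hl]
    intro h0
    field_simp at h0
    have h5 : (2 : F) * N = 0 := by linear_combination h2N
    have h6 : (2 : F) = 0 := (mul_eq_zero.1 h5).resolve_right hN0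
    exact one_ne_zero (by linear_combination -h0 + (-(l ^ (q + 1))) * h6 : (1 : F) = 0)

include hF in
/-- **A unit vector orthogonal to an orthonormal family and one more vector.** -/
theorem exists_perp {j : ℕ} (hj : j + 3 ≤ n) {x : Fin j → Fin n → F} (hx : Orth q x) (a : Fin n → F) :
    ∃ c : Fin n → F, hm c c = 1 ∧ (∀ i, hm c (x i) = 0) ∧ hm c a = 0 := by
  obtain ⟨s, hs⟩ := exists_ext hF (Fin.castLE_injective (show j ≤ n by omega)) (by omega) hx
  let κ : Fin 3 → Fin n := fun i => ⟨j + i, by omega⟩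
  have hκ : Function.Injective κ := fun i i' e => by
    simp only [κ, Fin.mk.injEq] at e; exact Fin.ext (by omega)
  obtain ⟨c, hc, hc1⟩ := exists_perp_three hF (a := a) (orth_map hF (orth_ev hF hκ) s)
  refine ⟨_, hc1, fun i => ?_, hc⟩
  have hne : ∀ k, κ k ≠ Fin.castLE (show j ≤ n by omega) i := fun k e => by
    have := congrArg Fin.val e; simp [κ] at this; omega
  simp only [herm_add_left, herm_smul_left, ← hs i, act_herm, herm_ev hF, if_neg (hne _), mul_zero,
    add_zero]

include hF in
theorem orth_one {a : Fin n → F} (ha : hm a a = 1) : Orth q ![a] := fun i j => by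
  fin_cases i; fin_cases j; simpa using ha

include hF in
theorem orth_two {a b : Fin n → F} (ha : hm a a = 1) (hb : hm b b = 1) (hab : hm a b = 0) :
    Orth q ![a, b] := fun i j => by
  fin_cases i <;> fin_cases j <;> simp [ha, hb, hab, (herm_comm_zero hF).1 hab]

include hF in
theorem orth_three {a b c : Fin n → F} (ha : hm a a = 1) (hb : hm b b = 1) (hc : hm c c = 1)
    (hab : hm a b = 0) (hac : hm a c = 0) (hbc : hm b c = 0) : Orth q ![a, b, c] := fun i j => by
  fin_cases i <;> fin_cases j <;>
    simp [ha, hb, hc, hab, hac, hbc, (herm_comm_zero hF).1 hab, (herm_comm_zero hF).1 hac,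
      (herm_comm_zero hF).1 hbc]

include hF in
theorem orth_four {a b c d : Fin n → F} (ha : hm a a = 1) (hb : hm b b = 1) (hc : hm c c = 1)
    (hd : hm d d = 1) (hab : hm a b = 0) (hac : hm a c = 0) (had : hm a d = 0) (hbc : hm b c = 0)
    (hbd : hm b d = 0) (hcd : hm c d = 0) : Orth q ![a, b, c, d] := fun i j => by
  fin_cases i <;> fin_cases j <;>
    simp [ha, hb, hc, hd, hab, hac, had, hbc, hbd, hcd, (herm_comm_zero hF).1 hab, (herm_comm_zero hF).1 hac,
      (herm_comm_zero hF).1 had, (herm_comm_zero hF).1 hbc, (herm_comm_zero hF).1 hbd,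
      (herm_comm_zero hF).1 hcd]

include hF in
/-- **Two orthogonal units and a vector with a residual part.** -/
theorem exists_perp_residual (hn : 4 ≤ n) {a x y : Fin n → F} (hx : hm x x = 1) (hy : hm y y = 1)
    (hxy : hm x y = 0) (hres : hm a a ≠ hm a x ^ (q + 1) + hm a y ^ (q + 1)) :
    ∃ c : Fin n → F, hm c c = 1 ∧ hm c a = 0 ∧ hm c x = 0 ∧ hm c y = 0 := by
  set a' := a - hm a x • x - hm a y • y with ha'
  have hyx : hm y x = 0 := (herm_comm_zero hF).1 hxy
  have hxa : hm a' x = 0 := by
    simp [ha', herm_sub_left hF, herm_smul_left, hx, hyx]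
  have hya : hm a' y = 0 := by
    simp [ha', herm_sub_left hF, herm_smul_left, hy, hxy]
  have haa : hm a' a' = hm a a - hm a x ^ (q + 1) - hm a y ^ (q + 1) := by
    have e1 : hm a' a' = hm a' a := by
      rw [show Cfsg.hermForm n F q a' a' = Cfsg.hermForm n F q a' (a - hm a x • x - hm a y • y) from congrArg _ ha']
      rw [herm_sub_right hF, herm_sub_right hF, herm_smul_right hF, herm_smul_right hF, hxa, hya]
      ring
    rw [e1, ha', herm_sub_left hF, herm_sub_left hF, herm_smul_left, herm_smul_left,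
      herm_swap hF a x, herm_swap hF a y]
    ring
  obtain ⟨t, ht⟩ := exists_unit_mul hF (n := n) (z := a')
    (by rw [haa, sub_sub, sub_ne_zero]; exact hres)
  have h3 : Orth q ![x, y, t • a'] := orth_three hF hx hy ht hxy
    (by rw [herm_smul_right hF, (herm_comm_zero hF).1 hxa, mul_zero])
    (by rw [herm_smul_right hF, (herm_comm_zero hF).1 hya, mul_zero])
  obtain ⟨s, hs⟩ := exists_ext hF (Fin.castLE_injective (show 3 ≤ n by omega)) (by omega) h3
  set c := act s (ev (⟨3, by omega⟩ : Fin n) : Fin n → F)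
  have hperp : ∀ i, hm c (![x, y, t • a'] i) = 0 := fun i => by
    rw [← hs i, act_herm, herm_ev hF, if_neg]
    intro e; have := congrArg Fin.val e; simp at this; omega
  have hcx : hm c x = 0 := by simpa using hperp 0
  have hcy : hm c y = 0 := by simpa using hperp 1
  have hca : hm c a' = 0 := by
    have h := hperp 2
    simp only [Matrix.cons_val_two, Matrix.tail_cons, Matrix.head_cons, herm_smul_right hF] at h
    refine (mul_eq_zero.1 h).resolve_left fun e => ?_
    rw [eq_zero_of_pow_eq_zero e, zero_smul, herm_zero_left hF] at ht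
    exact zero_ne_one ht
  refine ⟨c, by rw [act_herm, herm_ev hF, if_pos rfl], ?_, hcx, hcy⟩
  rw [show a = a' + hm a x • x + hm a y • y by rw [ha']; abel, herm_add_right hF, herm_add_right hF,
    herm_smul_right hF, herm_smul_right hF, hca, hcx, hcy]
  ring

include hF in
/-- A vector orthogonal to three given ones is orthogonal to `r` unless `r` lies in their span. -/
theorem exists_pair_of_not_mem {m : ℕ} {P : Fin m → Fin n → F} {r : Fin n → F}
    (hr : r ∉ Submodule.span F (Set.range P)) :
    ∃ y : Fin n → F, (∀ i, hm y (P i) = 0) ∧ hm y r ≠ 0 := by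
  classical
  by_contra hc
  push Not at hc
  let ψ : (Fin n → F) → Module.Dual F (Fin n → F) := fun w =>
    { toFun := fun x => Cfsg.hermForm n F q x w
      map_add' := fun x y => herm_add_left n x y _
      map_smul' := fun c x => herm_smul_left n c x _ }
  have hle : ⨅ i, LinearMap.ker (ψ (P i)) ≤ LinearMap.ker (ψ r) := fun x hx => by
    rw [Submodule.mem_iInf] at hx
    exact hc x fun i => hx i
  obtain ⟨c, hcs⟩ := (Submodule.mem_span_range_iff_exists_fun F).1
    (mem_span_of_iInf_ker_le_ker hle)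
  have hcq : ∀ i, (c i ^ q) ^ q = c i := fun i => pow_q_q hF (c i)
  have key : r = ∑ i, c i ^ q • P i := by
    refine sub_eq_zero.1 (uForm_nondeg hF n _ fun x => ?_)
    show Cfsg.hermForm n F q x (r - ∑ i, c i ^ q • P i) = 0
    let φ : (Fin n → F) →+ F :=
      AddMonoidHom.mk' (fun w => Cfsg.hermForm n F q x w) (fun u v => herm_add_right hF x u v)
    show φ _ = 0
    rw [map_sub, map_sum, sub_eq_zero]
    have := LinearMap.congr_fun hcs x
    simp only [LinearMap.sum_apply, LinearMap.smul_apply, smul_eq_mul] at this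
    refine this.symm.trans (Finset.sum_congr rfl fun i _ => ?_)
    show c i * Cfsg.hermForm n F q x (P i) = Cfsg.hermForm n F q x (c i ^ q • P i)
    rw [herm_smul_right hF, hcq]
  exact hr (key ▸ Submodule.sum_mem _ fun i _ => Submodule.smul_mem _ _ (Submodule.subset_span ⟨i, rfl⟩))

include hF in
/-- An isotropic vector with a partner lies in a plane with an orthonormal basis. -/
theorem exists_plane {m : ℕ} {P : Fin m → Fin n → F} {r y : Fin n → F} (hr0 : hm r r = 0)
    (hrP : ∀ i, hm r (P i) = 0) (hyP : ∀ i, hm y (P i) = 0) (hyr : hm y r ≠ 0) :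
    ∃ m1 m2 : Fin n → F, hm m1 m1 = 1 ∧ hm m2 m2 = 1 ∧ hm m1 m2 = 0 ∧
      (∀ i, hm m1 (P i) = 0) ∧ (∀ i, hm m2 (P i) = 0) ∧ ∃ u v : F, r = u • m1 + v • m2 := by
  obtain ⟨t, ht⟩ := exists_trace_eq hF (μ := 1 - hm y y)
    (by rw [frob_sub hF, one_pow, herm_self_fixed hF])
  set m1 := y + (t / hm r y) • r with hm1
  have hry : hm r y ≠ 0 := fun e => hyr ((herm_comm_zero hF).1 e)
  have h11 : hm m1 m1 = 1 := by
    simp only [hm1, herm_add_left, herm_add_right hF, herm_smul_left, herm_smul_right hF, hr0]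
    have e1 : t / hm r y * hm r y = t := div_mul_cancel₀ t hry
    have e2 : (t / hm r y) ^ q * hm y r = t ^ q := by
      rw [herm_swap hF r y, ← mul_pow, e1]
    linear_combination e1 + e2 + ht
  set k := hm r m1 with hk
  have hk0 : k ≠ 0 := by
    rw [hk, hm1, herm_add_right hF, herm_smul_right hF, hr0, mul_zero, add_zero]
    exact hry
  set r2 := r - k • m1
  have h22 : hm r2 r2 = -(k ^ (q + 1)) := by
    simp only [r2, herm_sub_left hF, herm_sub_right hF, herm_smul_left, herm_smul_right hF, h11, hr0,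
      ← hk, herm_swap hF r m1]
    ring
  obtain ⟨s, hs⟩ := exists_unit_mul hF (n := n) (z := r2) (by rw [h22]; simp [hk0])
  have hs0 : s ≠ 0 := fun e => by
    rw [e, zero_smul, herm_zero_left hF] at hs; exact zero_ne_one hs
  have h12 : hm r2 m1 = 0 := by
    simp [r2, herm_sub_left hF, herm_smul_left, h11, ← hk]
  have hP1 : ∀ i, hm m1 (P i) = 0 := fun i => by
    rw [hm1, herm_add_left, herm_smul_left, hyP i, hrP i]; ring
  refine ⟨m1, s • r2, h11, hs, ?_, hP1, fun i => ?_, k, s⁻¹, ?_⟩
  · rw [herm_smul_right hF, (herm_comm_zero hF).1 h12, mul_zero]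
  · rw [herm_smul_left, show hm r2 (P i) = 0 by
      simp [r2, herm_sub_left hF, herm_smul_left, hrP i, hP1 i], mul_zero]
  · rw [smul_smul, inv_mul_cancel₀ hs0, one_smul]; simp [r2]

end CfsgLib.Phan
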